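import Cfsg.Agent.Lib.Base.Rank
import Cfsg.Agent.Lib.Coprime.Hall
import Cfsg.Agent.Lib.Techniques.SylIn
import Cfsg.Agent.Lib.OddOrder.FittingHall
import Cfsg.Agent.Lib.OddOrder.CyclicSubgroups

/-!
General lemmas used in sections 13 and 14 of the local analysis: normal Hall subgroups, nilpotent
quotients, cyclic subgroups.
-/

set_option autoImplicit false
set_option linter.style.haveILetI false

namespace CfsgLib.FT.BG13

open Cfsg CfsgLib.Techniques Subgroup
open scoped commutatorElement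

variable {G : Type*} [Group G]

theorem centralizer_zpowers' (x : G) :
    centralizer ((zpowers x : Subgroup G) : Set G) = centralizer ({x} : Set G) := by
  rw [zpowers_eq_closure, centralizer_closure]

theorem mem_centralizer_singleton' {x y : G} :
    y ∈ centralizer ({x} : Set G) ↔ y * x = x * y := mem_centralizer_singleton_iff

/-- A normal Hall subgroup contains every subgroup for its set of primes. -/
theorem le_of_normal_hall [Finite G] {π : Set ℕ} {M S Y : Subgroup G} (hn : M ≤ normalizer (S : Set G))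
    (hS : IsPiHallOf π S M) (hYM : Y ≤ M) (hY : ∀ p : ℕ, p.Prime → p ∣ Nat.card Y → p ∈ π) :
    Y ≤ S := by
  haveI : (S.subgroupOf M).Normal := (normal_subgroupOf_iff_le_normalizer hS.1).mpr hn
  refine relIndex_eq_one.1 (by_contra fun hne => ?_)
  obtain ⟨p, hp, hd⟩ := Nat.exists_prime_and_dvd hne
  have h1 : S.relIndex Y ∣ S.relIndex M := by
    rw [← relIndex_subgroupOf (H := S) hYM]
    exact relIndex_dvd_index_of_normal _ _
  have h2 : S.relIndex Y ∣ Nat.card Y := by
    rw [← relIndex_bot_left Y]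
    exact relIndex_dvd_of_le_left Y bot_le
  exact hS.2.2 p hp (hY p hp (hd.trans h2)) (hd.trans h1)

/-- Order prime to the prime set meets a subgroup for that set trivially. -/
theorem inf_eq_bot_of_primes [Finite G] {π : Set ℕ} {X Y : Subgroup G}
    (hX : ∀ p : ℕ, p.Prime → p ∣ Nat.card X → p ∈ π)
    (hY : ∀ p : ℕ, p.Prime → p ∣ Nat.card Y → p ∉ π) : X ⊓ Y = ⊥ :=
  CfsgLib.Base.inf_eq_bot_of_coprime
    (Nat.coprime_of_dvd fun p hp h1 h2 => hY p hp h2 (hX p hp h1))

theorem eq_of_dvd_card_pGroup [Finite G] {p q : ℕ} [hp : Fact p.Prime] {X : Subgroup G} (h : IsPGroup p X)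
    (hq : q.Prime) (hd : q ∣ Nat.card X) : q = p := by
  obtain ⟨n, hn⟩ := IsPGroup.iff_card.1 h
  exact (Nat.prime_dvd_prime_iff_eq hq hp.out).1 (hq.dvd_of_dvd_pow (hn ▸ hd))

theorem coprime_of_pGroup [Finite G] {p : ℕ} [hp : Fact p.Prime] {X : Subgroup G} (h : IsPGroup p X)
    {m : ℕ} (hm : ¬ p ∣ m) : (Nat.card X).Coprime m :=
  Nat.coprime_of_dvd fun _ hq h1 h2 => hm (eq_of_dvd_card_pGroup h hq h1 ▸ h2)

theorem coprime_of_pGroups [Finite G] {p q : ℕ} [hp : Fact p.Prime] [hq : Fact q.Prime]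
    {X Y : Subgroup G} (hX : IsPGroup p X) (hY : IsPGroup q Y) (hpq : p ≠ q) :
    (Nat.card X).Coprime (Nat.card Y) :=
  coprime_of_pGroup hX fun h => hpq (eq_of_dvd_card_pGroup hY hp.out h)

theorem isPGroup_of_card_prime {p : ℕ} {X : Subgroup G} (h : Nat.card X = p) : IsPGroup p X :=
  IsPGroup.of_card (n := 1) (by rw [h, pow_one])

theorem ne_bot_of_card_prime {p : ℕ} [hp : Fact p.Prime] {X : Subgroup G} (h : Nat.card X = p) :
    X ≠ ⊥ := fun e => hp.out.ne_one (by rw [← h, e, card_bot])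

theorem dvd_of_pGroup_ne_bot [Finite G] {p : ℕ} [hp : Fact p.Prime] {X : Subgroup G} (h : IsPGroup p X)
    (h1 : X ≠ ⊥) : p ∣ Nat.card X := by
  obtain ⟨n, hn⟩ := IsPGroup.iff_card.1 h
  rcases n with _ | n
  · exact absurd (eq_bot_of_card_eq _ (by rwa [pow_zero] at hn)) h1
  · exact hn ▸ dvd_pow_self p (Nat.succ_ne_zero n)

/-- A nontrivial subgroup has a subgroup of prime order. -/
theorem exists_card_prime [Finite G] {X : Subgroup G} (h : X ≠ ⊥) :
    ∃ p : ℕ, p.Prime ∧ p ∣ Nat.card X ∧ ∃ Y ≤ X, Nat.card Y = p := by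
  obtain ⟨p, hp, hd⟩ := Nat.exists_prime_and_dvd fun e => h (eq_bot_of_card_eq _ e)
  haveI := Fact.mk hp
  obtain ⟨x, hx⟩ := exists_prime_orderOf_dvd_card' p hd
  exact ⟨p, hp, hd, zpowers (x : G), zpowers_le.2 x.2, by rw [Nat.card_zpowers, orderOf_coe, hx]⟩

/-- A subgroup of prime order is the subgroup of that order of any cyclic subgroup containing it. -/
theorem le_of_isCyclic [Finite G] {p : ℕ} [hp : Fact p.Prime] {C X Y : Subgroup G} (hC : IsCyclic C)
    (hX : X ≤ C) (hY : Y ≤ C) (hXc : Nat.card X = p) (hd : p ∣ Nat.card Y) : X ≤ Y := by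
  obtain ⟨y, hy⟩ := exists_prime_orderOf_dvd_card' p hd
  have hle : zpowers (y : G) ≤ Y := zpowers_le.2 y.2
  rw [CfsgLib.OddOrder.eq_of_card_eq_of_isCyclic (A := X) hX (hle.trans hY)
    (by rw [hXc, Nat.card_zpowers, orderOf_coe, hy])]
  exact hle

/-- Elements of coprime order of a subgroup with nilpotent image commute modulo the kernel. -/
theorem map_commutatorElement_eq_one [Finite G] {H : Type*} [Group H] [Finite H] (f : G →* H)
    {D : Subgroup G} (hD : Group.IsNilpotent (D.map f)) {a b : G} (ha : a ∈ D) (hb : b ∈ D)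
    (h : (orderOf a).Coprime (orderOf b)) : f ⁅a, b⁆ = 1 := by
  have hc := CfsgLib.OddOrder.commute_of_isNilpotent hD (mem_map_of_mem f ha) (mem_map_of_mem f hb)
    ((h.coprime_dvd_left (orderOf_map_dvd f a)).coprime_dvd_right (orderOf_map_dvd f b))
  rw [map_commutatorElement]
  exact commutatorElement_eq_one_iff_commute.2 hc

/-- Subgroups of coprime order of `D ≤ M`, where `D` is nilpotent modulo the normal subgroup `N`
of `M`, centralise each other as soon as one normalises the other and the latter meets `N`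
trivially. -/
theorem le_centralizer_of_nilpotent_mod [Finite G] {M : Subgroup G} {N : Subgroup M} [N.Normal]
    {D : Subgroup M} (hD : Group.IsNilpotent (D.map (QuotientGroup.mk' N)))
    {P Q : Subgroup G} (hP : P ≤ D.map M.subtype) (hQ : Q ≤ D.map M.subtype)
    (hPQ : P ≤ normalizer (Q : Set G)) (hcop : (Nat.card P).Coprime (Nat.card Q))
    (hQN : Q ⊓ N.map M.subtype = ⊥) : P ≤ centralizer (Q : Set G) := by
  intro a ha
  refine mem_centralizer_iff.2 fun b hb => ?_
  obtain ⟨⟨a', haM⟩, ha', rfl⟩ := hP ha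
  obtain ⟨⟨b', hbM⟩, hb', rfl⟩ := hQ hb
  have hcop' : (orderOf (⟨a', haM⟩ : M)).Coprime (orderOf (⟨b', hbM⟩ : M)) := by
    rw [orderOf_mk, orderOf_mk]
    exact (hcop.coprime_dvd_left (orderOf_dvd_natCard P ha)).coprime_dvd_right
      (orderOf_dvd_natCard Q hb)
  have h1 := map_commutatorElement_eq_one (QuotientGroup.mk' N) hD ha' hb' hcop'
  rw [QuotientGroup.mk'_apply, QuotientGroup.eq_one_iff] at h1
  have h2 : ⁅a', b'⁆ ∈ Q := by
    rw [commutatorElement_def]
    exact mul_mem ((mem_normalizer_iff.1 (hPQ ha) b').1 hb) (inv_mem hb)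
  have h3 : ⁅a', b'⁆ = 1 :=
    mem_bot.1 (hQN ▸ mem_inf.2 ⟨h2, ⟨⁅(⟨a', haM⟩ : M), ⟨b', hbM⟩⁆, h1,
      map_commutatorElement M.subtype _ _⟩⟩)
  exact (commutatorElement_eq_one_iff_commute.1 h3).symm

/-- With `N` a normal Hall `π`-subgroup, `D` and its Hall `π'`-subgroup have the same image modulo
`N`. -/
theorem map_eq_of_hall [Finite G] {π : Set ℕ} {N D H : Subgroup G} [N.Normal]
    (hN : IsPiHall π N) (hH : IsPiHallOf {q | q.Prime ∧ q ∉ π} H D) :
    D.map (QuotientGroup.mk' N) = H.map (QuotientGroup.mk' N) := by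
  refine le_antisymm ?_ (map_mono hH.1)
  refine relIndex_eq_one.1 (by_contra fun hne => ?_)
  obtain ⟨p, hp, hd⟩ := Nat.exists_prime_and_dvd hne
  have h1 := hd.trans (CfsgLib.Coprime.relIndex_map_dvd (QuotientGroup.mk' N) H D)
  have h2 : p ∣ N.index := by
    rw [index_eq_card]
    refine hd.trans ?_
    refine Dvd.dvd.trans ?_ (card_subgroup_dvd_card (D.map (QuotientGroup.mk' N)))
    rw [← relIndex_bot_left (D.map (QuotientGroup.mk' N))]
    exact relIndex_dvd_of_le_left _ bot_le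
  by_cases hπ : p ∈ π
  · exact hN.2 p hp hπ h2
  · exact hH.2.2 p hp ⟨hp, hπ⟩ h1

/-- If the commutator subgroup has a nilpotent Hall `π'`-subgroup and `N` is a normal Hall
`π`-subgroup, then it is nilpotent modulo `N`. -/
theorem isNilpotent_map_of_hall [Finite G] {π : Set ℕ} {N D H : Subgroup G} [N.Normal]
    (hN : IsPiHall π N) (hH : IsPiHallOf {q | q.Prime ∧ q ∉ π} H D) (hn : Group.IsNilpotent H) :
    Group.IsNilpotent (D.map (QuotientGroup.mk' N)) := by
  rw [map_eq_of_hall hN hH]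
  exact CfsgLib.Base.isNilpotent_map _ hn

theorem pRankLE_one_of_cyclic {p : ℕ} [hp : Fact p.Prime] {H : Type*} [Group H] (hc : IsCyclic H) :
    PRankLE p 1 H := by
  haveI := hc
  rw [CfsgLib.Base.pRankLE_iff]
  intro A hA
  obtain ⟨g, hg⟩ := IsCyclic.exists_generator (α := A)
  rw [← orderOf_eq_card_of_forall_mem_zpowers hg, pow_one]
  exact Nat.le_of_dvd hp.out.pos
    (orderOf_dvd_of_pow_eq_one (Subtype.ext (hA.2 g g.2)))

/-- `C_G(X) ≤ N_G(X)` and a subgroup normalising a cyclic subgroup normalises its subgroups. -/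
theorem le_normalizer_of_isCyclic [Finite G] {C X A : Subgroup G} (hC : IsCyclic C) (hX : X ≤ C)
    (hA : A ≤ normalizer (C : Set G)) : A ≤ normalizer (X : Set G) := fun a ha =>
  mem_normalizer_iff_cj.2 (CfsgLib.OddOrder.eq_of_card_eq_of_isCyclic
    (by rw [← mem_normalizer_iff_cj.1 (hA ha)]; exact cj_mono hX) hX (card_cj a X))

end CfsgLib.FT.BG13
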