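import Mathlib

/-!
An automorphism of prime order `r` of a group of class two, acting freely modulo a subgroup it
centralises, is induced in an irreducible representation by an operator all whose possible
eigenvalues occur.
-/

set_option autoImplicit false
set_option linter.style.haveILetI false

namespace CfsgLib.FT.BG13.TwistedEigen

open Module Finset

/-- The combinatorial step: a function `n` on `ZMod r` with the autocorrelation of a twisted
regular representation cannot vanish. -/
theorem no_gap {r : ℕ} [NeZero r] (hr : r.Prime) (n : ZMod r → ℕ) (t₀ : ZMod r) (h0 : n t₀ = 0)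
    (M N : ℕ) (hM : ∀ j : ZMod r, j ≠ 0 → ∑ t, n t * n (t + j) = M)
    (hM1 : ∑ t, n t * n t = M + 1) (hN : N = r * M + 1) (hNodd : Odd N) (hN1 : 1 < N) : False := by
  have hle : ∀ t, n t ≤ 1 := by
    intro t
    by_cases ht : t = t₀
    · subst ht; omega
    have hj : t - t₀ ≠ 0 := sub_ne_zero.2 ht
    have h1 : ∑ s, ((n s : ℤ) - n (s + (t - t₀))) ^ 2 = 2 := by
      have e1 : ∑ s, (n (s + (t - t₀)) : ℤ) ^ 2 = ∑ s, (n s : ℤ) ^ 2 :=
        Fintype.sum_equiv (Equiv.addRight (t - t₀)) _ _ fun s => rfl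
      have e2 : ∑ s, (n s : ℤ) ^ 2 = M + 1 := by
        have := congrArg (fun x : ℕ => (x : ℤ)) hM1
        push_cast at this
        simpa [sq] using this
      have e3 : ∑ s, (n s : ℤ) * n (s + (t - t₀)) = M := by
        have := congrArg (fun x : ℕ => (x : ℤ)) (hM _ hj)
        push_cast at this
        exact this
      have e4 : ∀ s, ((n s : ℤ) - n (s + (t - t₀))) ^ 2
          = (n s : ℤ) ^ 2 + (n (s + (t - t₀)) : ℤ) ^ 2 - 2 * ((n s : ℤ) * n (s + (t - t₀))) :=
        fun s => by ring
      rw [Finset.sum_congr rfl fun s _ => e4 s, Finset.sum_sub_distrib, Finset.sum_add_distrib,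
        ← Finset.mul_sum, e1, e2, e3]
      ring
    have h2 : ((n t₀ : ℤ) - n (t₀ + (t - t₀))) ^ 2 ≤ 2 :=
      (Finset.single_le_sum (f := fun s => ((n s : ℤ) - n (s + (t - t₀))) ^ 2)
        (fun s _ => sq_nonneg _) (Finset.mem_univ t₀)).trans_eq h1
    rw [h0, add_sub_cancel] at h2
    by_contra hc
    have h4 : (2 : ℤ) ≤ n t := by exact_mod_cast (by omega : 2 ≤ n t)
    push_cast at h2
    nlinarith
  set m := ∑ t, n t with hm
  have hmM : m = M + 1 := by
    rw [← hM1]
    refine Finset.sum_congr rfl fun t _ => ?_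
    have := hle t
    interval_cases (n t) <;> rfl
  have hm2 : m * m = r * M + (M + 1) - M := by
    have h1 : m * m = ∑ j : ZMod r, ∑ t, n t * n (t + j) := by
      rw [Finset.sum_comm, hm, Finset.sum_mul]
      refine Finset.sum_congr rfl fun t _ => ?_
      rw [← Finset.mul_sum]
      congr 1
      exact (Fintype.sum_equiv (Equiv.addLeft t) _ _ fun s => rfl).symm
    rw [h1, ← Finset.add_sum_erase _ _ (Finset.mem_univ (0 : ZMod r))]
    have h2 : ∀ j ∈ (Finset.univ : Finset (ZMod r)).erase 0, ∑ t, n t * n (t + j) = M :=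
      fun j hj => hM j (Finset.ne_of_mem_erase hj)
    rw [Finset.sum_congr rfl h2, Finset.sum_const, Finset.card_erase_of_mem (Finset.mem_univ _),
      Finset.card_univ, ZMod.card, smul_eq_mul]
    simp only [add_zero]
    rw [hM1]
    obtain ⟨r', rfl⟩ := Nat.exists_eq_succ_of_ne_zero hr.ne_zero
    rw [Nat.succ_sub_one, Nat.succ_mul]
    omega
  have hr1 : 2 ≤ r := hr.two_le
  have hkey : M * M + 2 * M = r * M := by
    have : (M + 1) * (M + 1) = r * M + 1 := by rw [← hmM, hm2]; omega
    nlinarith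
  rcases Nat.eq_zero_or_pos M with rfl | hMpos
  · omega
  have hrM : r = M + 2 := by
    refine Nat.eq_of_mul_eq_mul_right hMpos ?_
    rw [← hkey]; ring
  subst hN
  rcases hr.eq_two_or_odd' with rfl | hodd
  · omega
  · subst hrM
    have hM : Odd M := by
      rcases hodd with ⟨a, ha⟩; exact ⟨a - 1, by omega⟩
    exact absurd hNodd (Nat.not_odd_iff_even.2 ((hodd.mul hM).add_one))

variable {k : Type*} [Field k] [IsAlgClosed k]
variable {V : Type*} [AddCommGroup V] [Module k V] [FiniteDimensional k V]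
variable {Q : Type*} [Group Q] [Finite Q]

/-- The data: an irreducible representation `ρ` of `Q` in which commutators act by the scalars
`com`, with `Rad` the radical of `com`, an automorphism `σ` of order dividing `r` centralising
`Rad` and without fixed points on `Q / Rad`. -/
structure Data (ρ : Q →* Module.End k V) (σ : Q ≃* Q) (r : ℕ) where
  com : Q → Q → k
  com_spec : ∀ a b, ρ a * ρ b = com a b • (ρ b * ρ a)
  com_mul : ∀ a b c, com a (b * c) = com a b * com a c
  Rad : Subgroup Q
  rad_normal : Rad.Normal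
  rad_iff : ∀ a, a ∈ Rad ↔ ∀ b, com a b = 1
  fix_rad : ∀ a ∈ Rad, σ a = a
  free : ∀ a, σ a * a⁻¹ ∈ Rad → a ∈ Rad
  order : ∀ a, σ^[r] a = a
  simple : ∀ U : Submodule k V, (∀ a, ∀ v ∈ U, ρ a v ∈ U) → U = ⊥ ∨ U = ⊤

variable {ρ : Q →* Module.End k V} {σ : Q ≃* Q} {r : ℕ} (D : Data ρ σ r)

theorem mul_inv_cancel' (a : Q) : ρ a * ρ a⁻¹ = 1 := by rw [← map_mul, mul_inv_cancel, map_one]

theorem inv_mul_cancel' (a : Q) : ρ a⁻¹ * ρ a = 1 := by rw [← map_mul, inv_mul_cancel, map_one]

theorem ne_zero [Nontrivial V] (a : Q) : ρ a ≠ 0 := fun h => by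
  have := mul_inv_cancel' (ρ := ρ) a
  rw [h, zero_mul] at this
  exact zero_ne_one this

theorem com_ne_zero [Nontrivial V] (a b : Q) : D.com a b ≠ 0 := fun h => by
  have := D.com_spec a b
  rw [h, zero_smul, ← map_mul] at this
  exact ne_zero _ this

theorem com_one [Nontrivial V] (a : Q) : D.com a 1 = 1 := by
  have h := D.com_mul a 1 1
  rw [mul_one] at h
  exact mul_right_cancel₀ (com_ne_zero D a 1) (by rw [one_mul]; exact h.symm)

theorem com_swap [Nontrivial V] (a b : Q) : D.com b a * D.com a b = 1 := by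
  have h := D.com_spec a b
  rw [D.com_spec b a, smul_smul] at h
  have h2 : ρ a * ρ b ≠ 0 := by rw [← map_mul]; exact ne_zero _
  have := smul_left_injective k h2 (h.trans rfl |>.symm.trans (one_smul k _).symm)
  simpa [mul_comm] using this

theorem conj_eq [Nontrivial V] (a b : Q) : ρ b * ρ a * ρ b⁻¹ = D.com b a • ρ a := by
  rw [D.com_spec b a, smul_mul_assoc, mul_assoc, mul_inv_cancel', mul_one]

theorem com_sum_zero [Nontrivial V] [Fintype Q] {a : Q} (ha : a ∉ D.Rad) :
    ∑ b, D.com b a = 0 := by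
  obtain ⟨c, hc⟩ : ∃ c, D.com a c ≠ 1 := by
    by_contra h
    push Not at h
    exact ha ((D.rad_iff a).2 h)
  have hinv : ∀ b, D.com b a = (D.com a b)⁻¹ := fun b =>
    eq_inv_of_mul_eq_one_left (com_swap D a b)
  have h1 : ∑ b, D.com b a = (D.com a c)⁻¹ * ∑ b, D.com b a := by
    rw [Finset.mul_sum]
    exact (Fintype.sum_equiv (Equiv.mulLeft c) _ _ fun b => by
      rw [Equiv.coe_mulLeft, hinv, hinv, D.com_mul, mul_inv]).symm
  by_contra hne
  exact hc (inv_eq_one.1 ((mul_eq_right₀ hne).1 h1.symm))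

theorem com_sum_rad [Nontrivial V] [Fintype Q] {a : Q} (ha : a ∈ D.Rad) :
    ∑ b, D.com b a = (Fintype.card Q : k) := by
  have : ∀ b, D.com b a = 1 := fun b => by
    have := com_swap D a b
    rwa [(D.rad_iff a).1 ha b, mul_one] at this
  simp [this]

/-- Schur. -/
theorem exists_scalar [Nontrivial V] (D : Data ρ σ r) {Y : Module.End k V}
    (h : ∀ a, Commute Y (ρ a)) : ∃ c : k, Y = c • 1 := by
  obtain ⟨c, hc⟩ := Module.End.exists_eigenvalue Y
  refine ⟨c, ?_⟩
  have htop : Module.End.eigenspace Y c = ⊤ := by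
    refine (D.simple _ fun a v hv => ?_).resolve_left hc
    rw [Module.End.mem_eigenspace_iff] at hv ⊢
    rw [← Module.End.mul_apply, (h a).eq, Module.End.mul_apply, hv, map_smul]
  ext v
  have := Module.End.mem_eigenspace_iff.1 (htop ▸ Submodule.mem_top (x := v))
  simpa using this

theorem conj_sum [Fintype Q] (X : Module.End k V) (a : Q) :
    Commute (∑ b, ρ b * X * ρ b⁻¹) (ρ a) := by
  rw [commute_iff_eq, Finset.sum_mul, Finset.mul_sum]
  refine Fintype.sum_equiv (Equiv.mulLeft a⁻¹) _ _ fun b => ?_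
  simp only [Equiv.coe_mulLeft, mul_inv_rev, inv_inv, map_mul]
  simp only [← mul_assoc, mul_inv_cancel', one_mul]

variable [Nontrivial V]

theorem exists_scalar_rad (D : Data ρ σ r) {a : Q} (ha : a ∈ D.Rad) :
    ∃ c : k, ρ a = c • 1 :=
  exists_scalar D fun b => by
    rw [commute_iff_eq, D.com_spec a b, (D.rad_iff a).1 ha b, one_smul]

open Classical in
/-- The averaging identity: conjugates of `ρ a` sum to zero outside the radical. -/
theorem sum_conj [Fintype Q] (a : Q) :
    ∑ b, ρ b * ρ a * ρ b⁻¹ = (if a ∈ D.Rad then (Fintype.card Q : k) else 0) • ρ a := by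
  simp_rw [conj_eq D, ← Finset.sum_smul]
  split
  · rw [com_sum_rad D ‹_›]
  · rw [com_sum_zero D ‹_›]

/-! ### The implementing operator -/

section
variable [Fintype Q]

/-- The operator implementing `σ`. -/
noncomputable def uOp (ρ : Q →* Module.End k V) (σ : Q ≃* Q) : Module.End k V :=
  ∑ x, ρ (σ x * x⁻¹)

/-- Its inverse up to a scalar. -/
noncomputable def uStar (ρ : Q →* Module.End k V) (σ : Q ≃* Q) : Module.End k V :=
  ∑ x, ρ (x * (σ x)⁻¹)

omit [FiniteDimensional k V] [Nontrivial V] [IsAlgClosed k] in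
theorem uOp_mul (a : Q) : uOp ρ σ * ρ a = ρ (σ a) * uOp ρ σ := by
  rw [uOp, Finset.sum_mul, Finset.mul_sum]
  refine Fintype.sum_equiv (Equiv.mulLeft a⁻¹) _ _ fun x => ?_
  simp only [Equiv.coe_mulLeft, ← map_mul, map_inv, mul_inv_rev, inv_inv]
  congr 1
  simp [mul_assoc]

omit [FiniteDimensional k V] [Nontrivial V] [IsAlgClosed k] in
theorem uStar_mul (a : Q) : uStar ρ σ * ρ (σ a) = ρ a * uStar ρ σ := by
  rw [uStar, Finset.sum_mul, Finset.mul_sum]
  refine Fintype.sum_equiv (Equiv.mulLeft a⁻¹) _ _ fun x => ?_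
  simp only [Equiv.coe_mulLeft, ← map_mul, map_inv, mul_inv_rev, inv_inv]
  congr 1
  simp [mul_assoc]

open Classical in
theorem uOp_mul_uStar (D : Data ρ σ r) (hQ : (Fintype.card Q : k) ≠ 0) :
    uOp ρ σ * uStar ρ σ = ((Fintype.card Q : k) * (Nat.card D.Rad : k)) • 1 := by
  have hcomm : ∀ a, Commute (uOp ρ σ * uStar ρ σ) (ρ a) := fun a => by
    obtain ⟨b, rfl⟩ := σ.surjective a
    rw [commute_iff_eq, mul_assoc, uStar_mul, ← mul_assoc, uOp_mul, mul_assoc]
  have h1 : ∑ b, ρ b * (uOp ρ σ * uStar ρ σ) * ρ b⁻¹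
      = (Fintype.card Q : k) • (uOp ρ σ * uStar ρ σ) := by
    rw [Finset.sum_congr rfl fun b _ => by
      rw [← (hcomm b).eq, mul_assoc, mul_inv_cancel', mul_one], Finset.sum_const, Finset.card_univ]
    exact (Nat.cast_smul_eq_nsmul k _ _).symm
  have hg : ∀ x y : Q, (σ x * x⁻¹ * (y * (σ y)⁻¹) ∈ D.Rad ↔ x⁻¹ * y ∈ D.Rad) ∧
      (x⁻¹ * y ∈ D.Rad → σ x * x⁻¹ * (y * (σ y)⁻¹) = 1) := by
    intro x y
    obtain ⟨z, rfl⟩ : ∃ z, y = x * z := ⟨x⁻¹ * y, by simp⟩
    have e : σ x * x⁻¹ * (x * z * (σ (x * z))⁻¹) = σ x * (σ z * z⁻¹)⁻¹ * (σ x)⁻¹ := by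
      simp [mul_assoc]
    rw [e, inv_mul_cancel_left]
    have h2 : z ∈ D.Rad → σ z * z⁻¹ = 1 := fun hz => by rw [D.fix_rad z hz, mul_inv_cancel]
    refine ⟨⟨fun h => D.free z ?_, fun h => by simp [h2 h]⟩, fun h => by simp [h2 h]⟩
    have := D.rad_normal.conj_mem _ h (σ x)⁻¹
    rw [show (σ x)⁻¹ * (σ x * (σ z * z⁻¹)⁻¹ * (σ x)⁻¹) * ((σ x)⁻¹)⁻¹ = (σ z * z⁻¹)⁻¹ by
      simp [mul_assoc]] at this
    exact inv_mem_iff.1 this
  have hcount : ∀ x : Q, (Finset.univ.filter fun y => x⁻¹ * y ∈ D.Rad).card = Nat.card D.Rad := by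
    intro x
    rw [Nat.card_eq_fintype_card, ← Finset.card_univ]
    refine Finset.card_bij' (fun y hy => (⟨x⁻¹ * y, (Finset.mem_filter.1 hy).2⟩ : D.Rad))
      (fun z _ => x * (z : Q)) ?_ ?_ ?_ ?_ <;> simp
  have h2 : ∑ b, ρ b * (uOp ρ σ * uStar ρ σ) * ρ b⁻¹
      = ((Fintype.card Q : k) * ((Fintype.card Q : k) * (Nat.card D.Rad : k))) • 1 := by
    rw [uOp, uStar]
    simp only [Finset.sum_mul, Finset.mul_sum, ← map_mul ρ (_ * _) (_ * _)]
    rw [Finset.sum_comm]
    refine (Finset.sum_congr rfl fun x _ => Finset.sum_comm.trans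
      (Finset.sum_congr rfl fun y _ => sum_conj D _)).trans ?_
    rw [Finset.sum_comm]
    have : ∀ x y : Q, (if σ x * x⁻¹ * (y * (σ y)⁻¹) ∈ D.Rad then (Fintype.card Q : k) else 0) •
        ρ (σ x * x⁻¹ * (y * (σ y)⁻¹))
        = if x⁻¹ * y ∈ D.Rad then (Fintype.card Q : k) • (1 : Module.End k V) else 0 := by
      intro x y
      by_cases h : x⁻¹ * y ∈ D.Rad
      · rw [if_pos ((hg x y).1.2 h), if_pos h, (hg x y).2 h, map_one]
      · rw [if_neg fun h' => h ((hg x y).1.1 h'), if_neg h, zero_smul]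
    simp only [this, ← Finset.sum_filter, Finset.sum_const, hcount, Finset.card_univ,
      ← Nat.cast_smul_eq_nsmul k, smul_smul]
    congr 1
    ring
  have := h1.symm.trans h2
  rw [mul_smul] at this
  exact smul_right_injective _ hQ this

open Classical in
theorem mem_span_range (D : Data ρ σ r) (hQ : (Fintype.card Q : k) ≠ 0)
    (hR : (Nat.card D.Rad : k) ≠ 0) (X : Module.End k V) :
    X ∈ Submodule.span k (Set.range ρ) := by
  have h1 : ∑ a, (∑ b, ρ b * (X * ρ a⁻¹) * ρ b⁻¹) * ρ a
      = ((Fintype.card Q : k) * (Nat.card D.Rad : k)) • X := by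
    simp only [Finset.sum_mul]
    rw [Finset.sum_comm]
    have e : ∀ b a : Q, ρ b * (X * ρ a⁻¹) * ρ b⁻¹ * ρ a
        = D.com a⁻¹ b⁻¹ • (ρ b * X * ρ b⁻¹) := by
      intro b a
      have : ρ a⁻¹ * (ρ b⁻¹ * ρ a) = D.com a⁻¹ b⁻¹ • ρ b⁻¹ := by
        rw [← mul_assoc, D.com_spec a⁻¹ b⁻¹, smul_mul_assoc, mul_assoc, inv_mul_cancel', mul_one]
      simp only [mul_assoc]
      rw [this, mul_smul_comm, mul_smul_comm]
    have e2 : ∀ b : Q, ∑ a, D.com a⁻¹ b⁻¹ = if b ∈ D.Rad then (Fintype.card Q : k) else 0 := by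
      intro b
      rw [Fintype.sum_equiv (Equiv.inv Q) (fun a => D.com a⁻¹ b⁻¹) (fun a => D.com a b⁻¹) fun a => rfl]
      split
      · exact com_sum_rad D (inv_mem ‹_›)
      · exact com_sum_zero D fun h => ‹¬ _› (inv_mem_iff.1 h)
    simp only [e, ← Finset.sum_smul, e2, ite_smul, zero_smul]
    rw [← Finset.sum_filter]
    rw [Finset.sum_congr rfl (g := fun _ => (Fintype.card Q : k) • X) fun b hb => by
      obtain ⟨c, hc⟩ := exists_scalar_rad D (Finset.mem_filter.1 hb).2
      congr 1
      rw [hc, smul_one_mul, smul_mul_assoc, ← mul_smul_comm, ← smul_one_mul c (ρ b⁻¹), ← hc,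
        mul_inv_cancel', mul_one]]
    rw [Finset.sum_const, ← Nat.cast_smul_eq_nsmul k, smul_smul, mul_comm]
    congr 2
    norm_cast
    rw [Nat.card_eq_fintype_card, Fintype.card_subtype]
  rw [← Submodule.smul_mem_iff _ (mul_ne_zero hQ hR), ← h1]
  refine Submodule.sum_mem _ fun a _ => ?_
  obtain ⟨c, hc⟩ := exists_scalar D (conj_sum (ρ := ρ) (X * ρ a⁻¹))
  rw [hc, smul_one_mul]
  exact Submodule.smul_mem _ _ (Submodule.subset_span ⟨a, rfl⟩)

end

/-! ### Counting eigenspaces -/

theorem iterate_step {α : Type*} {τ : α → α} {r : ℕ} (hr : r.Prime) {x : α} (hper : τ^[r] x = x)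
    (hfix : τ x ≠ x) {i j : ℕ} (h : τ^[i] x = τ^[j] x) : (i : ZMod r) = j := by
  haveI := Fact.mk hr
  have hmin : Function.minimalPeriod τ x = r := Function.minimalPeriod_eq_prime hper hfix
  have h' : τ^[i % r] x = τ^[j % r] x := by
    rw [← hmin, Function.iterate_mod_minimalPeriod_eq, Function.iterate_mod_minimalPeriod_eq, h]
  rw [Function.iterate_eq_iterate_iff_of_lt_minimalPeriod
    (hmin.symm ▸ Nat.mod_lt i hr.pos) (hmin.symm ▸ Nat.mod_lt j hr.pos)] at h'
  exact (ZMod.natCast_eq_natCast_iff' i j r).2 h'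

/-- A degree function for a permutation of prime order with one fixed point. -/
theorem exists_degree {α : Type*} {τ : α → α} {r : ℕ} (hr : r.Prime) (hper : ∀ x, τ^[r] x = x)
    {x₀ : α} (hfix : ∀ x, τ x = x → x = x₀) :
    ∃ g : α → ZMod r, ∀ x, x ≠ x₀ → g (τ x) = g x + 1 := by
  classical
  have hpk : ∀ n x, τ^[r * n] x = x := fun n x => by
    rw [Function.iterate_mul]
    induction n with
    | zero => rfl
    | succ n ih => rw [Function.iterate_succ_apply, hper, ih]
  let S : Setoid α :=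
    { r := fun x y => ∃ i, τ^[i] x = y
      iseqv :=
        { refl := fun x => ⟨0, rfl⟩
          symm := fun {x y} ⟨i, hi⟩ => ⟨r * i - i, by
            rw [← hi, ← Function.iterate_add_apply, Nat.sub_add_cancel (Nat.le_mul_of_pos_left i hr.pos),
              hpk]⟩
          trans := fun {x y z} ⟨i, hi⟩ ⟨j, hj⟩ => ⟨j + i, by
            rw [Function.iterate_add_apply, hi, hj]⟩ } }
  let rep : α → α := fun x => (Quotient.mk S x).out
  have hrep : ∀ x, ∃ i, τ^[i] (rep x) = x := fun x => Quotient.mk_out (s := S) x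
  refine ⟨fun x => ((Nat.find (hrep x) : ℕ) : ZMod r), fun x hx => ?_⟩
  have e : rep (τ x) = rep x := by
    have : Quotient.mk S (τ x) = Quotient.mk S x := Quotient.sound (S.iseqv.symm ⟨1, rfl⟩)
    exact congrArg Quotient.out this
  have h1 : τ^[Nat.find (hrep (τ x))] (rep x) = τ x := by
    have := Nat.find_spec (hrep (τ x))
    exact (congrArg (τ^[Nat.find (hrep (τ x))]) e).symm.trans this
  have h2 := Nat.find_spec (hrep x)
  have h3 : τ^[Nat.find (hrep x) + 1] (rep x) = τ x := by
    rw [Function.iterate_succ_apply', h2]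
  have hne : τ (rep x) ≠ rep x := fun hc => by
    refine hx (hfix x ?_)
    have hall : ∀ n, τ^[n] (rep x) = rep x := fun n => by
      induction n with
      | zero => rfl
      | succ n ih => rw [Function.iterate_succ_apply, hc, ih]
    rw [hall] at h2
    rwa [← h2]
  have := iterate_step hr (hper _) hne (h1.trans h3.symm)
  push_cast at this
  exact this

set_option maxHeartbeats 1000000 in
open Classical in
/-- Every possible eigenvalue of the implementing operator occurs. -/
theorem exists_eigen [Fintype Q] (D : Data ρ σ r) (hr : r.Prime) (hr0 : (r : k) ≠ 0)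
    (hQ : (Fintype.card Q : k) ≠ 0) (hodd : Odd D.Rad.index) (hne : D.Rad ≠ ⊤) {γ : k}
    (hγ : uOp ρ σ ^ r = γ • 1) {a : k} (ha : a ^ r = γ) :
    ∃ v : V, v ≠ 0 ∧ uOp ρ σ v = a • v := by
  haveI := D.rad_normal
  haveI : NeZero r := ⟨hr.ne_zero⟩
  haveI : NeZero (r : k) := ⟨hr0⟩
  have hR : (Nat.card D.Rad : k) ≠ 0 := fun h => hQ (by
    rw [← Nat.card_eq_fintype_card, ← D.Rad.card_mul_index, Nat.cast_mul, h, zero_mul])
  set ν : k := (Fintype.card Q : k) * (Nat.card D.Rad : k) with hν
  have hν0 : ν ≠ 0 := mul_ne_zero hQ hR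
  set u := uOp ρ σ with hu
  set w := ν⁻¹ • uStar ρ σ with hw
  have huw : u * w = 1 := by
    rw [hw, mul_smul_comm, uOp_mul_uStar D hQ, smul_smul, inv_mul_cancel₀ hν0, one_smul]
  have hwu : w * u = 1 := mul_eq_one_comm.1 huw
  have hγ0 : γ ≠ 0 := by
    intro h0
    have h1 : IsUnit (u ^ r) := (Units.isUnit (⟨u, w, huw, hwu⟩ : (Module.End k V)ˣ)).pow r
    rw [hγ, h0, zero_smul, isUnit_zero_iff] at h1
    exact zero_ne_one h1
  have ha0 : a ≠ 0 := fun h => hγ0 (by rw [← ha, h, zero_pow hr.ne_zero])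
  -- the basis of transversal elements
  set s : Q ⧸ D.Rad → Q := fun d => d.out with hs
  have hrho : ∀ q : Q, ∃ c : k, c ≠ 0 ∧ ρ q = c • ρ (s (QuotientGroup.mk q)) := by
    intro q
    obtain ⟨z, hz⟩ := QuotientGroup.mk_out_eq_mul D.Rad q
    obtain ⟨c, hc⟩ := exists_scalar_rad D z.2
    have hc0 : c ≠ 0 := fun h => ne_zero (ρ := ρ) (z : Q) (by rw [hc, h, zero_smul])
    exact ⟨c⁻¹, inv_ne_zero hc0, by
      rw [hs]; simp only [hz, map_mul, hc, mul_smul_comm, mul_one, smul_smul, inv_mul_cancel₀ hc0,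
        one_smul]⟩
  have hsmk : ∀ d, (QuotientGroup.mk (s d) : Q ⧸ D.Rad) = d := fun d => QuotientGroup.out_eq' d
  have hli : LinearIndependent k (fun d => ρ (s d)) := by
    rw [Fintype.linearIndependent_iff]
    intro x hx e
    have h1 : ∑ b, ρ b * ((∑ d, x d • ρ (s d)) * ρ (s e)⁻¹) * ρ b⁻¹ = 0 := by simp [hx]
    simp only [Finset.sum_mul, Finset.mul_sum, smul_mul_assoc, mul_smul_comm, ← map_mul ρ (s _)] at h1
    rw [Finset.sum_comm] at h1
    simp only [← Finset.smul_sum, sum_conj D] at h1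
    rw [Finset.sum_eq_single e] at h1
    · simpa [mul_inv_cancel, one_mem, hQ] using h1
    · intro d _ hde
      rw [if_neg, zero_smul, smul_zero]
      intro h
      refine hde ?_
      rw [← hsmk d, ← hsmk e, QuotientGroup.eq_iff_div_mem, div_eq_mul_inv]
      exact h
    · simp
  have hsp : ⊤ ≤ Submodule.span k (Set.range fun d => ρ (s d)) := fun X _ => by
    refine (Submodule.span_le.2 ?_) (mem_span_range D hQ hR X)
    rintro _ ⟨q, rfl⟩
    obtain ⟨c, -, hc⟩ := hrho q
    rw [hc]
    exact Submodule.smul_mem _ _ (Submodule.subset_span ⟨_, rfl⟩)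
  set B := Basis.mk hli hsp with hB
  have hBd : ∀ d, B d = ρ (s d) := fun d => Basis.mk_apply hli hsp d
  -- the permutation of the quotient
  set τ : Q ⧸ D.Rad → Q ⧸ D.Rad := fun d => QuotientGroup.mk (σ (s d)) with hτ
  have hτmk : ∀ q : Q, τ (QuotientGroup.mk q) = QuotientGroup.mk (σ q) := by
    intro q
    obtain ⟨z, hz⟩ := QuotientGroup.mk_out_eq_mul D.Rad q
    simp only [hτ, hs, hz, map_mul, D.fix_rad _ z.2]
    exact QuotientGroup.mk_mul_of_mem _ z.2
  have hτper : ∀ d, τ^[r] d = d := by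
    have hsc : ∀ n q, τ^[n] (QuotientGroup.mk q) = QuotientGroup.mk (σ^[n] q) := fun n => by
      induction n with
      | zero => intro q; rfl
      | succ n ih => intro q; rw [Function.iterate_succ_apply, hτmk, ih, Function.iterate_succ_apply]
    intro d
    rw [← hsmk d, hsc, D.order]
  have hτfix : ∀ d, τ d = d → d = 1 := by
    intro d hd
    rw [← hsmk d, hτmk, QuotientGroup.eq_iff_div_mem, div_eq_mul_inv] at hd
    rw [← hsmk d]
    exact (QuotientGroup.eq_one_iff _).2 (D.free _ hd)
  have hτinj : Function.Injective τ := fun x y h => by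
    obtain ⟨r', hr'⟩ := Nat.exists_eq_succ_of_ne_zero hr.ne_zero
    have hx := hτper x
    have hy := hτper y
    have : τ^[r' + 1] x = τ^[r' + 1] y := by
      rw [Function.iterate_succ_apply, Function.iterate_succ_apply, h]
    rwa [show r' + 1 = r from hr'.symm, hx, hy] at this
  have hτ1 : τ 1 = 1 := by
    rw [← QuotientGroup.mk_one, hτmk, map_one]
  obtain ⟨g, hg⟩ := exists_degree hr hτper hτfix
  -- the conjugation
  set c : Module.End k V →ₗ[k] Module.End k V := LinearMap.mulLeft k u ∘ₗ LinearMap.mulRight k w with hc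
  have hcX : ∀ X, c X = u * (X * w) := fun X => rfl
  have hcρ : ∀ q, c (ρ q) = ρ (σ q) := fun q => by
    rw [hcX, ← mul_assoc, hu, uOp_mul, mul_assoc, ← hu, huw, mul_one]
  choose μ' hμ'0 hμ' using hrho
  set μ : Q ⧸ D.Rad → k := fun d => μ' (σ (s d)) with hμd
  have hμ : ∀ d, c (B d) = μ d • B (τ d) := fun d => by
    rw [hBd, hBd, hcρ]; exact hμ' _
  have hμ1 : μ 1 = 1 := by
    have h1 := hμ 1
    rw [hτ1, hBd, hcρ] at h1
    have hs1 : s 1 ∈ D.Rad := (QuotientGroup.eq_one_iff _).1 (hsmk 1)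
    rw [D.fix_rad _ hs1] at h1
    exact (smul_left_injective k (ne_zero (ρ := ρ) (s 1)) ((one_smul k _).trans h1)).symm
  have hcoef : ∀ X d, B.repr (c X) (τ d) = μ d * B.repr X d := by
    intro X d
    have : (B.coord (τ d)).comp c = μ d • B.coord d := by
      refine B.ext fun e => ?_
      simp only [LinearMap.comp_apply, LinearMap.smul_apply, Basis.coord_apply, hμ, map_smul,
        Finsupp.smul_apply, Basis.repr_self, smul_eq_mul]
      by_cases he : e = d
      · subst he; simp
      · simp [Finsupp.single_apply, he, hτinj.eq_iff]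
    exact LinearMap.congr_fun this X
  -- roots of unity
  obtain ⟨ζ, hζ⟩ := HasEnoughRootsOfUnity.exists_primitiveRoot k r
  set zp : ZMod r → k := fun j => ζ ^ j.val with hzp
  have hzpadd : ∀ i j, zp (i + j) = zp i * zp j := fun i j => by
    simp only [hzp, ZMod.val_add, ← pow_add]
    conv_rhs => rw [← Nat.mod_add_div (i.val + j.val) r, pow_add, pow_mul, hζ.pow_eq_one, one_pow,
      mul_one]
  have hzp0 : ∀ j, zp j ≠ 0 := fun j => pow_ne_zero _ (hζ.ne_zero hr.ne_zero)
  have hzpone : zp 0 = 1 := by simp [hzp]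
  have hzpinj : Function.Injective zp := fun i j h =>
    ZMod.val_injective r (hζ.pow_inj (ZMod.val_lt i) (ZMod.val_lt j) h)
  set K : ZMod r → Submodule k (Module.End k V) := fun j => LinearMap.ker (c - zp j • LinearMap.id) with hK
  have hKmem : ∀ j X, X ∈ K j ↔ c X = zp j • X := fun j X => by
    simp [hK, LinearMap.mem_ker, sub_eq_zero]
  set K' : ZMod r → Submodule k (Module.End k V) := fun j => K j ⊓ LinearMap.ker (B.coord 1) with hK'
  have hK'eq : ∀ j, j ≠ 0 → K' j = K j := by
    refine fun j hj => inf_eq_left.2 fun X hX => ?_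
    have h1 := hcoef X 1
    rw [(hKmem j X).1 hX, hτ1, hμ1, one_mul, map_smul, Finsupp.smul_apply, smul_eq_mul] at h1
    rw [LinearMap.mem_ker, Basis.coord_apply]
    by_contra hne'
    exact hj (hzpinj (((mul_eq_right₀ hne').1 h1).trans hzpone.symm))
  set θ : Module.End k V →ₗ[k] Module.End k V := B.constr k fun d => zp (g d) • B d with hθ
  have hθc : ∀ X d, B.repr (θ X) d = zp (g d) * B.repr X d := by
    intro X d
    have : (B.coord d).comp θ = zp (g d) • B.coord d := by
      refine B.ext fun e => ?_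
      simp only [hθ, LinearMap.comp_apply, LinearMap.smul_apply, Basis.coord_apply,
        Basis.constr_basis, map_smul, Finsupp.smul_apply, Basis.repr_self, smul_eq_mul]
      by_cases he : e = d
      · subst he; rfl
      · simp [he]
    exact LinearMap.congr_fun this X
  have hθmem : ∀ j, ∀ X ∈ K' j, θ X ∈ K' (j - 1) := by
    intro j X hX
    obtain ⟨hX1, hX2⟩ := Submodule.mem_inf.1 hX
    rw [LinearMap.mem_ker, Basis.coord_apply] at hX2
    refine Submodule.mem_inf.2 ⟨(hKmem _ _).2 ?_, by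
      rw [LinearMap.mem_ker, Basis.coord_apply, hθc, hX2, mul_zero]⟩
    refine B.repr.injective (Finsupp.ext fun e => ?_)
    obtain ⟨d, rfl⟩ := Finite.surjective_of_injective hτinj e
    have h2 := hcoef X d
    rw [(hKmem j X).1 hX1, map_smul, Finsupp.smul_apply, smul_eq_mul] at h2
    rw [hcoef, hθc, map_smul, Finsupp.smul_apply, smul_eq_mul, hθc]
    by_cases hd : d = 1
    · subst hd; rw [hτ1, hX2]; ring
    · rw [hg d hd, show zp (j - 1) * (zp (g d + 1) * B.repr X (τ d))
        = zp (g d) * ((zp (j - 1) * zp 1) * B.repr X (τ d)) by rw [hzpadd]; ring, ← hzpadd,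
        sub_add_cancel, h2]
      ring
  have hθinj : Function.Injective θ := fun X Y h => B.repr.injective (Finsupp.ext fun d => by
    have := congrArg (fun Z => B.repr Z d) h
    simp only [hθc] at this
    exact mul_left_cancel₀ (hzp0 _) this)
  set f : ZMod r → ℕ := fun j => Module.finrank k (K' j) with hf
  have hstep : ∀ j, f j ≤ f (j - 1) := fun j =>
    LinearMap.finrank_le_finrank_of_injective (f := θ.restrict (hθmem j))
      (fun X Y h => Subtype.ext (hθinj (congrArg Subtype.val h)))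
  have hconst : ∀ i j, f i ≤ f j := by
    have hn : ∀ (n : ℕ) i, f i ≤ f (i - (n : ZMod r)) := by
      intro n
      induction n with
      | zero => intro i; simp
      | succ n ih =>
        intro i
        refine ((ih i).trans (hstep _)).trans (le_of_eq ?_)
        push_cast; ring_nf
    intro i j
    have := hn (i - j).val i
    rwa [ZMod.natCast_zmod_val, sub_sub_cancel] at this
  have hM : ∀ j, j ≠ 0 → Module.finrank k (K j) = f 0 := fun j hj => by
    rw [← hK'eq j hj]; exact le_antisymm (hconst j 0) (hconst 0 j)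
  have hM0 : Module.finrank k (K 0) = f 0 + 1 := by
    set φ := (B.coord 1).domRestrict (K 0) with hφ
    have hB1 : B 1 ∈ K 0 := (hKmem 0 _).2 (by rw [hμ, hτ1, hμ1, hzpone])
    have hsur : LinearMap.range φ = ⊤ := LinearMap.range_eq_top.2 fun x =>
      ⟨x • ⟨B 1, hB1⟩, by simp [hφ]⟩
    have h := LinearMap.finrank_range_add_finrank_ker φ
    have hker : LinearMap.ker φ = (K' 0).comap (K 0).subtype := by
      ext x; simp [hK', hφ]
    rw [hsur, finrank_top, Module.finrank_self, hker,
      (Submodule.comapSubtypeEquivOfLe (show K' 0 ≤ K 0 from inf_le_left)).finrank_eq] at h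
    simp only [hf]; omega
  -- eigenspaces
  set W : ZMod r → Submodule k V := fun t => Module.End.eigenspace u (a * zp t) with hW
  have hlam : ∀ t, (a * zp t) ^ r = γ := fun t => by
    simp only [hzp, mul_pow, ← pow_mul, mul_comm t.val r]
    rw [pow_mul, hζ.pow_eq_one, one_pow, mul_one, ha]
  have hWsup : ⨆ t, W t = ⊤ := by
    let P : ZMod r → Module.End k V := fun t => (r : k)⁻¹ • ∑ i ∈ Finset.range r, (a * zp t)⁻¹ ^ i • u ^ i
    have hP : ∀ t v, P t v ∈ W t := by
      intro t v
      rw [hW, Module.End.mem_eigenspace_iff, ← Module.End.mul_apply, ← LinearMap.smul_apply]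
      congr 1
      have hl : a * zp t ≠ 0 := mul_ne_zero ha0 (hzp0 t)
      simp only [P, mul_smul_comm, smul_comm (a * zp t) (r : k)⁻¹]
      congr 1
      set l := a * zp t with hldef
      set f := fun i : ℕ => l⁻¹ ^ i • u ^ i with hfdef
      have h2 : ∀ i, u * f i = l • f (i + 1) := fun i => by
        simp only [hfdef]
        rw [mul_smul_comm, ← pow_succ', smul_smul, pow_succ' (l⁻¹), ← mul_assoc,
          mul_inv_cancel₀ hl, one_mul]
      have h3 : ∑ i ∈ Finset.range r, f (i + 1) = ∑ i ∈ Finset.range r, f i := by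
        obtain ⟨n, hn⟩ := Nat.exists_eq_succ_of_ne_zero hr.ne_zero
        rw [hn, Finset.sum_range_succ (fun i => f (i + 1)), Finset.sum_range_succ' f]
        congr 1
        simp only [hfdef]
        rw [← Nat.succ_eq_add_one, ← hn, hγ, ← hlam t, ← hldef, smul_smul, ← mul_pow,
          inv_mul_cancel₀ hl, one_pow, one_smul, pow_zero, pow_zero, one_smul]
      rw [Finset.mul_sum, Finset.sum_congr rfl fun i _ => h2 i, ← Finset.smul_sum, h3]
    have hPsum : ∑ t, P t = 1 := by
      simp only [P, ← Finset.smul_sum]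
      rw [Finset.sum_comm]
      simp only [← Finset.sum_smul]
      have hgeo : ∀ i ∈ Finset.range r, i ≠ 0 → ∑ t : ZMod r, ((a * zp t)⁻¹) ^ i = 0 := by
        intro i hi hi0
        rw [Finset.mem_range] at hi
        set η := (ζ⁻¹) ^ i with hη
        have hη1 : η ≠ 1 := by
          rw [hη, inv_pow, ne_eq, inv_eq_one]
          exact hζ.pow_ne_one_of_pos_of_lt hi0 hi
        have hηr : η ^ r = 1 := by
          rw [hη, ← pow_mul, mul_comm, pow_mul, inv_pow, hζ.pow_eq_one, inv_one, one_pow]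
        have e : ∑ t : ZMod r, ((a * zp t)⁻¹) ^ i = (a⁻¹) ^ i * ∑ n ∈ Finset.range r, η ^ n := by
          rw [Finset.mul_sum]
          refine Finset.sum_nbij' (fun t => t.val) (fun n => (n : ZMod r))
            (fun t _ => Finset.mem_range.2 (ZMod.val_lt t)) (fun n _ => Finset.mem_univ _)
            (fun t _ => ZMod.natCast_zmod_val t)
            (fun n hn => ZMod.val_cast_of_lt (Finset.mem_range.1 hn)) fun t _ => ?_
          simp only [hzp, hη, mul_inv, mul_pow, ← pow_mul, ← inv_pow, mul_comm i]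
        rw [e, geom_sum_eq hη1, hηr, sub_self, zero_div, mul_zero]
      rw [Finset.sum_eq_single 0]
      · simp only [pow_zero, Finset.sum_const, Finset.card_univ, ZMod.card, smul_smul, nsmul_eq_mul,
          mul_one]
        rw [inv_mul_cancel₀ hr0, one_smul]
      · intro i hi hi0
        rw [hgeo i hi hi0, zero_smul]
      · intro h; exact absurd (Finset.mem_range.2 hr.pos) h
    refine eq_top_iff.2 fun v _ => ?_
    have hv : v = ∑ t, P t v := by
      rw [← LinearMap.sum_apply, hPsum, Module.End.one_apply]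
    rw [hv]
    exact Submodule.sum_mem _ fun t _ => Submodule.mem_iSup_of_mem t (hP t v)
  have hinj : Function.Injective fun t => a * zp t := fun i j h => hzpinj (mul_left_cancel₀ ha0 h)
  have hint : DirectSum.IsInternal W := DirectSum.isInternal_submodule_of_iSupIndep_of_iSup_eq_top
    ((Module.End.eigenspaces_iSupIndep u).comp hinj) hWsup
  let n : ZMod r → ℕ := fun t => Module.finrank k (W t)
  let ι := Σ t : ZMod r, Fin (n t)
  let bb : Basis ι k V := hint.collectedBasis fun t => Module.finBasis k (W t)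
  have hubb : ∀ i : ι, u (bb i) = (a * zp i.1) • bb i := fun i => by
    have h1 := hint.collectedBasis_mem (fun t => Module.finBasis k (W t)) i
    exact Module.End.mem_eigenspace_iff.1 h1
  have hwbb : ∀ i : ι, w (bb i) = (a * zp i.1)⁻¹ • bb i := fun i => by
    have h1 : w (u (bb i)) = bb i := LinearMap.congr_fun hwu (bb i)
    rw [hubb, map_smul] at h1
    rw [eq_inv_smul_iff₀ (mul_ne_zero ha0 (hzp0 _)), h1]
  have hrepr : ∀ (y : V) (i : ι), bb.repr (u y) i = a * zp i.1 * bb.repr y i := by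
    intro y i
    have : (bb.coord i).comp u = (a * zp i.1) • bb.coord i := by
      refine bb.ext fun e => ?_
      simp only [LinearMap.comp_apply, LinearMap.smul_apply, Basis.coord_apply, hubb, map_smul,
        Finsupp.smul_apply, Basis.repr_self, smul_eq_mul]
      by_cases he : e = i
      · subst he; rfl
      · simp [he]
    exact LinearMap.congr_fun this y
  set L := LinearMap.toMatrix bb bb with hL
  have hcL : ∀ X (i l : ι), L (c X) i l = a * zp i.1 * (a * zp l.1)⁻¹ * L X i l := by
    intro X i l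
    simp only [hL, LinearMap.toMatrix_apply, hcX, Module.End.mul_apply, hrepr, hwbb, map_smul,
      Finsupp.smul_apply, smul_eq_mul]
    ring
  have hKsupp : ∀ j X, X ∈ K j ↔ ∀ i l : ι, L X i l ≠ 0 → i.1 = l.1 + j := by
    intro j X
    rw [hKmem, ← L.injective.eq_iff, map_smul]
    have key : ∀ i l : ι, a * zp i.1 * (a * zp l.1)⁻¹ = zp j ↔ i.1 = l.1 + j := fun i l => by
      rw [mul_inv_eq_iff_eq_mul₀ (mul_ne_zero ha0 (hzp0 _)), mul_left_comm, ← hzpadd, add_comm j,
        mul_right_inj' ha0, hzpinj.eq_iff]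
    constructor
    · intro h i l hne'
      have := congrFun (congrFun h i) l
      rw [hcL, Matrix.smul_apply, smul_eq_mul] at this
      exact (key i l).1 (mul_right_cancel₀ hne' this)
    · intro h
      ext i l
      rw [hcL, Matrix.smul_apply, smul_eq_mul]
      by_cases h0 : L X i l = 0
      · simp [h0]
      · rw [(key i l).2 (h i l h0)]
  have hdim : ∀ j, Module.finrank k (K j) = ∑ t, n t * n (t + j) := by
    intro j
    let e : K j ≃ₗ[k] ({p : ι × ι // p.1.1 = p.2.1 + j} → k) :=
      { toFun := fun X p => L (X : Module.End k V) p.1.1 p.1.2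
        map_add' := fun X Y => funext fun p => by simp
        map_smul' := fun x Y => funext fun p => by simp
        invFun := fun F => ⟨L.symm (Matrix.of fun i l => if h : i.1 = l.1 + j then F ⟨(i, l), h⟩ else 0),
          (hKsupp j _).2 fun i l h => by
            rw [LinearEquiv.apply_symm_apply, Matrix.of_apply] at h
            by_contra h'
            exact h (dif_neg h')⟩
        left_inv := fun X => Subtype.ext <| L.injective <| by
          rw [LinearEquiv.apply_symm_apply]
          ext i l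
          rw [Matrix.of_apply]
          by_cases h : i.1 = l.1 + j
          · rw [dif_pos h]
          · rw [dif_neg h]
            by_contra h'
            exact h ((hKsupp j _).1 X.2 i l (Ne.symm h'))
        right_inv := fun F => funext fun p => by
          simp only [LinearEquiv.apply_symm_apply, Matrix.of_apply]
          exact dif_pos p.2 }
    rw [e.finrank_eq, Module.finrank_fintype_fun_eq_card]
    let e2 : {p : ι × ι // p.1.1 = p.2.1 + j} ≃ Σ t : ZMod r, Fin (n t) × Fin (n (t + j)) :=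
      { toFun := fun p => ⟨p.1.2.1, p.1.2.2, Fin.cast (by rw [p.2]) p.1.1.2⟩
        invFun := fun q => ⟨(⟨q.1 + j, q.2.2⟩, ⟨q.1, q.2.1⟩), rfl⟩
        left_inv := by
          rintro ⟨⟨⟨i, x⟩, ⟨l, y⟩⟩, h⟩
          obtain rfl : i = l + j := h
          rfl
        right_inv := fun q => rfl }
    rw [Fintype.card_congr e2, Fintype.card_sigma]
    simp
  by_contra hcon
  push Not at hcon
  have hn0 : n 0 = 0 := by
    simp only [n]
    rw [Submodule.finrank_eq_zero, eq_bot_iff]
    intro v hv
    rw [hW, Module.End.mem_eigenspace_iff, hzpone, mul_one] at hv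
    by_contra hv0
    exact hcon v (by simpa using hv0) hv
  have hN1 : ∑ j, ∑ t, n t * n (t + j) = D.Rad.index := by
    have h1 := Module.finrank_eq_card_basis B
    have h2 : Module.finrank k (Module.End k V) = Module.finrank k V * Module.finrank k V :=
      Module.finrank_linearMap k k V V
    have h3 : Module.finrank k V = ∑ t, n t := by
      rw [Module.finrank_eq_card_basis bb, Fintype.card_sigma]; simp
    rw [Subgroup.index_eq_card, Nat.card_eq_fintype_card, ← h1, h2, h3, Finset.sum_comm,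
      Finset.sum_mul]
    refine Finset.sum_congr rfl fun t _ => ?_
    rw [← Finset.mul_sum]
    congr 1
    exact Fintype.sum_equiv (Equiv.addLeft t) _ _ fun s => rfl
  refine no_gap hr n 0 hn0 (f 0) D.Rad.index (fun j hj => by rw [← hdim, hM j hj]) ?_ ?_ hodd ?_
  · rw [← hM0, hdim 0]; simp
  · rw [← hN1, ← Finset.add_sum_erase _ _ (Finset.mem_univ (0 : ZMod r)), ← hdim, hM0,
      Finset.sum_congr rfl fun j hj => by rw [← hdim, hM j (Finset.ne_of_mem_erase hj)],
      Finset.sum_const, Finset.card_erase_of_mem (Finset.mem_univ _), Finset.card_univ, ZMod.card,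
      smul_eq_mul]
    obtain ⟨r', rfl⟩ := Nat.exists_eq_succ_of_ne_zero hr.ne_zero
    rw [Nat.succ_sub_one, Nat.succ_mul]; omega
  · exact D.Rad.one_lt_index_of_ne_top hne

end CfsgLib.FT.BG13.TwistedEigen
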