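import Mathlib
import Cfsg.Agent.Lib.Coprime.Action2
import Cfsg.Agent.Lib.PGroups.Basic
import Cfsg.Agent.Lib.FT.BG13.TwistedEigen

/-!
Fixed-point-free action of a group of prime order (BG 3.6, odd case): if `R` of prime order `r`
acts without fixed points on the `p`-group `V` and normalises a solvable `{p, r}'`-group `Q` of odd
order acting on `V`, then `[Q, R]` centralises `V`.
-/

set_option autoImplicit false
set_option linter.style.haveILetI false
set_option linter.unusedSectionVars false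

namespace CfsgLib.FT.BG13.FixedPointPrime

open Module
open scoped commutatorElement

universe u

variable {k : Type*} [Field k] [IsAlgClosed k]
variable {W : Type*} [AddCommGroup W] [Module k W] [FiniteDimensional k W]

/-- An operator of finite order coprime to the characteristic, different from `1`, has an
eigenvalue different from `1`. -/
theorem exists_eigen_ne_one (y : Module.End k W) {n : ℕ} (hn : y ^ n = 1) (hn0 : (n : k) ≠ 0)
    (hy : y ≠ 1) : ∃ l : k, l ≠ 1 ∧ Module.End.eigenspace y l ≠ ⊥ := by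
  set S := LinearMap.range (y - 1) with hS
  have hmap : ∀ v ∈ S, y v ∈ S := by
    rintro v ⟨w, rfl⟩
    refine ⟨y w, ?_⟩
    simp
  have hne : S ≠ ⊥ := fun h => hy (sub_eq_zero.1 (LinearMap.range_eq_bot.1 h))
  haveI : Nontrivial S := Submodule.nontrivial_iff_ne_bot.2 hne
  obtain ⟨l, hl⟩ := Module.End.exists_eigenvalue (y.restrict hmap)
  obtain ⟨⟨v, hv⟩, hv', hv0⟩ := hl.exists_hasEigenvector
  rw [Module.End.mem_eigenspace_iff] at hv'
  have hv'' : y v = l • v := congrArg Subtype.val hv'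
  have hv0' : v ≠ 0 := fun h => hv0 (Subtype.ext h)
  refine ⟨l, ?_, fun h => hv0' ?_⟩
  · rintro rfl
    rw [one_smul] at hv''
    obtain ⟨w, hw⟩ := hv
    rw [LinearMap.sub_apply, Module.End.one_apply] at hw
    have hi : ∀ i : ℕ, (y ^ i) w = w + (i : k) • v := fun i => by
      induction i with
      | zero => simp
      | succ i ih =>
        rw [pow_succ', Module.End.mul_apply, ih, map_add, map_smul, hv'', ← sub_add_cancel (y w) w,
          hw, Nat.cast_succ, add_smul, one_smul]
        abel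
    have := hi n
    rw [hn, Module.End.one_apply, left_eq_add, smul_eq_zero] at this
    exact hv0' (this.resolve_left hn0)
  · exact (Submodule.mem_bot k).1 (h ▸ Module.End.mem_eigenspace_iff.2 hv'')

theorem exists_minimal_invariant {ι : Type*} (T : ι → Module.End k W) (E : Submodule k W)
    (hE : E ≠ ⊥) (hinv : ∀ i, ∀ v ∈ E, T i v ∈ E) :
    ∃ U : Submodule k W, U ≤ E ∧ U ≠ ⊥ ∧ (∀ i, ∀ v ∈ U, T i v ∈ U) ∧
      ∀ U' : Submodule k W, U' ≤ U → U' ≠ ⊥ → (∀ i, ∀ v ∈ U', T i v ∈ U') → U' = U := by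
  obtain ⟨U, hU⟩ := exists_minimal_of_wellFoundedLT
    (fun U : Submodule k W => U ≤ E ∧ U ≠ ⊥ ∧ ∀ i, ∀ v ∈ U, T i v ∈ U) ⟨E, le_rfl, hE, hinv⟩
  exact ⟨U, hU.1.1, hU.1.2.1, hU.1.2.2, fun U' hle hne hinv' =>
    le_antisymm hle (hU.2 ⟨hle.trans hU.1.1, hne, hinv'⟩ hle)⟩

/-- On a minimal invariant subspace an operator commuting with the acting operators is scalar. -/
theorem exists_scalar_of_minimal {ι : Type*} (T : ι → Module.End k W) {U : Submodule k W}
    (hU : U ≠ ⊥) (hinv : ∀ i, ∀ v ∈ U, T i v ∈ U)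
    (hmin : ∀ U' : Submodule k W, U' ≤ U → U' ≠ ⊥ → (∀ i, ∀ v ∈ U', T i v ∈ U') → U' = U)
    (y : Module.End k W) (hy : ∀ v ∈ U, y v ∈ U) (hc : ∀ i, ∀ v ∈ U, y (T i v) = T i (y v)) :
    ∃ c : k, ∀ v ∈ U, y v = c • v := by
  haveI : Nontrivial U := Submodule.nontrivial_iff_ne_bot.2 hU
  obtain ⟨c, hcc⟩ := Module.End.exists_eigenvalue (y.restrict hy)
  obtain ⟨⟨v, hv⟩, hv', hv0⟩ := hcc.exists_hasEigenvector
  rw [Module.End.mem_eigenspace_iff] at hv'
  have hv'' : y v = c • v := congrArg Subtype.val hv'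
  refine ⟨c, fun w hw => ?_⟩
  have h := hmin (U ⊓ Module.End.eigenspace y c) inf_le_left (fun h => hv0 (Subtype.ext ?_)) ?_
  · exact Module.End.mem_eigenspace_iff.1 (h.symm ▸ hw : w ∈ U ⊓ Module.End.eigenspace y c).2
  · exact (Submodule.mem_bot k).1 (h ▸ ⟨hv, Module.End.mem_eigenspace_iff.2 hv''⟩)
  · rintro i x ⟨hx, hx'⟩
    refine ⟨hinv i x hx, Module.End.mem_eigenspace_iff.2 ?_⟩
    rw [hc i x hx, Module.End.mem_eigenspace_iff.1 hx', map_smul]

/-- Orthogonality: a nontrivial multiplicative function on a finite group has sum zero. -/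
theorem sum_mul_eq_zero {Q : Type*} [Group Q] [Fintype Q] (f : Q → k)
    (hf : ∀ a b, f (a * b) = f a * f b) {a : Q} (ha : f a ≠ 1) : ∑ d, f d = 0 := by
  have h1 : f a * ∑ d, f d = ∑ d, f d := by
    rw [Finset.mul_sum]
    exact Fintype.sum_equiv (Equiv.mulLeft a) _ _ fun d => (hf a d).symm
  by_contra h
  exact ha ((mul_eq_right₀ h).1 h1)

theorem iterate_intertwine {Q : Type*} [Group Q] (ρ : Q →* Module.End k W) (σ : Q ≃* Q)
    {h : Module.End k W} (hσ : ∀ a, h * ρ a = ρ (σ a) * h) (i : ℕ) (a : Q) :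
    h ^ i * ρ a = ρ (σ^[i] a) * h ^ i := by
  induction i generalizing a with
  | zero => simp
  | succ i ih =>
    rw [pow_succ, mul_assoc, hσ, ← mul_assoc, ih, mul_assoc, Function.iterate_succ_apply]

/-- The case of an injective representation of an abelian group. -/
theorem false_of_comm {r : ℕ} (hr : r.Prime) {h : Module.End k W} (hh : h ^ r = 1)
    (hfix : ∀ v, h v = v → v = 0) {Q : Type*} [Group Q] [Finite Q]
    (hQ : (Nat.card Q : k) ≠ 0) (ρ : Q →* Module.End k W) (hρ : Function.Injective ρ) (σ : Q ≃* Q)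
    (hσ : ∀ a, h * ρ a = ρ (σ a) * h) (hcomm : ∀ a b : Q, a * b = b * a) {a : Q}
    (ha : σ a * a⁻¹ ≠ 1) : False := by
  classical
  letI := Fintype.ofFinite Q
  set c := σ a * a⁻¹ with hc
  obtain ⟨l, hl, hE⟩ := exists_eigen_ne_one (ρ c) (n := Nat.card Q)
    (by rw [← map_pow, pow_card_eq_one', map_one]) hQ
    (fun h => ha (hρ (h.trans (map_one ρ).symm)))
  obtain ⟨U, hUE, hU, hUinv, hUmin⟩ := exists_minimal_invariant (fun b => ρ b) _ hE fun b v hv => by
    rw [Module.End.mem_eigenspace_iff] at hv ⊢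
    rw [← Module.End.mul_apply, ← map_mul, hcomm, map_mul, Module.End.mul_apply, hv, map_smul]
  choose χ hχ using fun b => exists_scalar_of_minimal (fun b => ρ b) hU hUinv hUmin (ρ b)
    (hUinv b) fun i v _ => by
      rw [← Module.End.mul_apply, ← map_mul, hcomm, map_mul, Module.End.mul_apply]
  obtain ⟨v, hv, hv0⟩ := Submodule.exists_mem_ne_zero_of_ne_bot hU
  have huniq : ∀ x y : k, x • v = y • v → x = y := fun x y h => smul_left_injective k hv0 h
  have hχmul : ∀ b d, χ (b * d) = χ b * χ d := fun b d => huniq _ _ (by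
    rw [← hχ _ v hv, map_mul, Module.End.mul_apply, hχ d v hv, map_smul, hχ b v hv, smul_smul,
      mul_comm])
  have hχ1 : χ 1 = 1 := huniq _ _ (by rw [← hχ 1 v hv, map_one, Module.End.one_apply, one_smul])
  have hχ0 : ∀ b, χ b ≠ 0 := fun b h => by
    have := hχmul b b⁻¹
    rw [mul_inv_cancel, hχ1, h, zero_mul] at this
    exact one_ne_zero this
  have hne : χ (σ a) ≠ χ a := fun h => by
    have h1 : χ c = 1 := mul_right_cancel₀ (hχ0 a) (by
      rw [← hχmul, hc, inv_mul_cancel_right, one_mul, h])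
    have h2 := Module.End.mem_eigenspace_iff.1 (hUE hv)
    rw [hχ c v hv, h1] at h2
    exact hl (huniq _ _ h2).symm
  have hper : ∀ b, σ^[r] b = b := fun b => hρ (by
    have h := iterate_intertwine ρ σ hσ r b
    rwa [hh, one_mul, mul_one, eq_comm] at h)
  set s := ∑ i ∈ Finset.range r, (h ^ i) v with hs
  have hs0 : s = 0 := hfix _ (by
    obtain ⟨r', hr'⟩ := Nat.exists_eq_succ_of_ne_zero hr.ne_zero
    have h1 : ∑ i ∈ Finset.range r, (h ^ (i + 1)) v = s := by
      rw [hs, hr', Finset.sum_range_succ (fun i => (h ^ (i + 1)) v),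
        Finset.sum_range_succ' (fun i => (h ^ i) v), ← Nat.succ_eq_add_one, ← hr', hh, pow_zero]
    rw [← h1]
    conv_lhs => rw [h1, hs, map_sum]
    exact Finset.sum_congr rfl fun i _ => by rw [← Module.End.mul_apply, ← pow_succ'])
  set P : Module.End k W := ∑ b, (χ b)⁻¹ • ρ b with hP
  have hPi : ∀ i, P ((h ^ i) v) = (∑ d, χ d * (χ (σ^[i] d))⁻¹) • (h ^ i) v := by
    intro i
    rw [hP, LinearMap.sum_apply, Finset.sum_smul]
    refine (Fintype.sum_equiv (Equiv.ofBijective (σ^[i]) (σ.bijective.iterate i)) _ _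
      fun d => ?_).symm
    rw [Equiv.ofBijective_apply, LinearMap.smul_apply, ← Module.End.mul_apply,
      ← iterate_intertwine ρ σ hσ i d, Module.End.mul_apply, hχ d v hv, map_smul, smul_smul,
      mul_comm]
  have hzero : ∀ i ∈ Finset.range r, i ≠ 0 → ∑ d, χ d * (χ (σ^[i] d))⁻¹ = 0 := by
    intro i hi hi0
    obtain ⟨d, hd⟩ : ∃ d, χ (σ^[i] d) ≠ χ d := by
      by_contra hcon
      push Not at hcon
      have hm : ∀ m d, χ (σ^[i * m] d) = χ d := fun m => by
        induction m with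
        | zero => simp
        | succ m ih => intro d; rw [Nat.mul_succ, Function.iterate_add_apply, ih, hcon]
      obtain ⟨m, hm'⟩ : ∃ m : ℕ, i * m % r = 1 := by
        haveI := Fact.mk hr
        refine ⟨((i : ZMod r)⁻¹).val, ?_⟩
        have hi' : (i : ZMod r) ≠ 0 := fun h =>
          hi0 (Nat.eq_zero_of_dvd_of_lt ((ZMod.natCast_eq_zero_iff i r).1 h) (Finset.mem_range.1 hi))
        have h' : ((i * ((i : ZMod r)⁻¹).val : ℕ) : ZMod r) = ((1 : ℕ) : ZMod r) := by
          rw [Nat.cast_mul, ZMod.natCast_zmod_val, mul_inv_cancel₀ hi', Nat.cast_one]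
        rw [ZMod.natCast_eq_natCast_iff', Nat.one_mod_eq_one.2 hr.ne_one] at h'
        exact h'
      refine hne ?_
      have h1 := hm m a
      rw [← Nat.mod_add_div (i * m) r, hm', Function.iterate_add_apply, Function.iterate_mul] at h1
      have h2 : (σ^[r])^[i * m / r] a = a := Function.iterate_fixed (hper a) _
      rwa [h2, Function.iterate_one] at h1
    refine sum_mul_eq_zero (fun d => χ d * (χ (σ^[i] d))⁻¹) (fun x y => ?_) (a := d) fun h => ?_
    · simp only [hχmul, iterate_map_mul, mul_inv]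
      ring
    · exact hd ((mul_inv_eq_one₀ (hχ0 _)).1 h).symm
  have hPs : P s = (Nat.card Q : k) • v := by
    rw [hs, map_sum, Finset.sum_eq_single 0]
    · rw [hPi]
      simp [hχ0, Nat.card_eq_fintype_card]
    · intro i hi hi0
      rw [hPi, hzero i hi hi0, zero_smul]
    · intro h; exact absurd (Finset.mem_range.2 hr.pos) h
  rw [hs0, map_zero] at hPs
  exact hv0 ((smul_eq_zero.1 hPs.symm).resolve_left hQ)

/-- An injective representation of a solvable group of odd order normalised by an operator of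
prime order without fixed points commutes with it. -/
theorem fix_of_injective {r : ℕ} (hr : r.Prime) (hr0 : (r : k) ≠ 0) {h : Module.End k W}
    (hh : h ^ r = 1) (hfix : ∀ v, h v = v → v = 0) (n : ℕ) :
    ∀ {Q : Type u} [Group Q] [Finite Q], Nat.card Q = n → Group.IsSolvable Q → Odd n → (n : k) ≠ 0 →
      ¬ r ∣ n → ∀ (ρ : Q →* Module.End k W), Function.Injective ρ → ∀ (σ : Q ≃* Q),
        (∀ a, h * ρ a = ρ (σ a) * h) → ∀ a, σ a = a := by
  induction n using Nat.strong_induction_on with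
  | _ n IH =>
  intro Q _ _ hn hsol hodd hn0 hrn ρ hρ σ hσ
  classical
  letI := Fintype.ofFinite Q
  haveI := hsol
  have hper : ∀ b, σ^[r] b = b := fun b => hρ (by
    have h := iterate_intertwine ρ σ hσ r b
    rwa [hh, one_mul, mul_one, eq_comm] at h)
  have hinjh : ∀ v, h v = 0 → v = 0 := fun v hv => by
    have h1 : (h ^ r) v = 0 := by
      rw [← Nat.succ_pred_eq_of_pos hr.pos, pow_succ, Module.End.mul_apply, hv, map_zero]
    rwa [hh, Module.End.one_apply] at h1
  have hsub : ∀ S : Subgroup Q, S ≠ ⊤ → (∀ a ∈ S, σ a ∈ S) → ∀ a ∈ S, σ a = a := by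
    intro S hS hinv a ha
    let σ' : S →* S := (σ.toMonoidHom.comp S.subtype).codRestrict S fun x => hinv x x.2
    have hbij : Function.Bijective σ' := Finite.injective_iff_bijective.1 fun x y h =>
      Subtype.ext (σ.injective (congrArg Subtype.val h))
    have hdvd : Nat.card S ∣ n := hn ▸ S.card_subgroup_dvd_card
    have hlt : Nat.card S < n := by
      rcases lt_or_eq_of_le (Nat.le_of_dvd (hn ▸ Nat.card_pos) hdvd) with h | h
      · exact h
      · exact absurd (Subgroup.eq_top_of_card_eq S (h.trans hn.symm)) hS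
    have := IH _ hlt (Q := S) rfl inferInstance (hodd.of_dvd_nat hdvd)
      (fun h => hn0 (by obtain ⟨c, hc⟩ := hdvd; rw [hc, Nat.cast_mul, h, zero_mul]))
      (fun h => hrn (h.trans hdvd)) (ρ.comp S.subtype) (hρ.comp S.subtype_injective)
      (MulEquiv.ofBijective σ' hbij) (fun x => hσ x) ⟨a, ha⟩
    exact congrArg Subtype.val this
  have hc1 : ∀ a, σ (σ a * a⁻¹) = σ a * a⁻¹ → σ a = a := by
    intro a hc
    set c := σ a * a⁻¹ with hcdef
    have hi : ∀ i, σ^[i] a = c ^ i * a := fun i => by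
      induction i with
      | zero => simp
      | succ i ih =>
        rw [Function.iterate_succ_apply', ih, map_mul, map_pow, hc, pow_succ, mul_assoc]
        congr 1
        rw [hcdef, inv_mul_cancel_right]
    have h1 := hi r
    rw [hper, right_eq_mul] at h1
    have h2 : orderOf c ∣ Nat.gcd r n := Nat.dvd_gcd (orderOf_dvd_of_pow_eq_one h1)
      (hn ▸ orderOf_dvd_natCard c)
    rw [Nat.Coprime.gcd_eq_one ((hr.coprime_iff_not_dvd).2 hrn), Nat.dvd_one,
      orderOf_eq_one_iff] at h2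
    exact eq_of_mul_inv_eq_one h2
  by_contra hcon
  have hgen : ∀ S : Subgroup Q, (∀ a ∈ S, σ a ∈ S) → (∀ a, σ a * a⁻¹ ∈ S) → S = ⊤ := by
    intro S hinv hc
    by_contra hS
    exact hcon fun a => hc1 a (hsub S hS hinv _ (hc a))
  push Not at hcon
  obtain ⟨a₀, ha₀⟩ := hcon
  by_cases hcomm : ∀ a b : Q, a * b = b * a
  · exact false_of_comm hr hh hfix (by rw [hn]; exact hn0) ρ hρ σ hσ hcomm (a := a₀)
      (fun h => ha₀ (eq_of_mul_inv_eq_one h))
  push Not at hcomm
  obtain ⟨x₀, y₀, hxy⟩ := hcomm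
  haveI : Nontrivial Q := ⟨⟨σ a₀, a₀, ha₀⟩⟩
  set C := commutator Q with hC
  have hCne : C ≠ ⊤ := (Group.IsSolvable.commutator_lt_top_of_nontrivial Q).ne
  have hCinv : ∀ a ∈ C, σ a ∈ C := fun a ha => by
    have : C.map σ.toMonoidHom = C := Subgroup.characteristic_iff_map_eq.1 inferInstance σ
    exact this ▸ ⟨a, ha, rfl⟩
  have hCfix := hsub C hCne hCinv
  have hCc : ∀ z ∈ C, ∀ b, z * b = b * z := by
    have h := hgen (Subgroup.centralizer (C : Set Q)) (fun b hb => ?_) (fun b => ?_)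
    · intro z hz b
      exact Subgroup.mem_centralizer_iff.1 (h.symm ▸ Subgroup.mem_top b) z hz
    · rw [Subgroup.mem_centralizer_iff] at hb ⊢
      intro z hz
      rw [← hCfix z hz, ← map_mul, ← map_mul, hb z hz]
    · rw [Subgroup.mem_centralizer_iff]
      intro z hz
      have hn' : b⁻¹ * z * b ∈ C := by simpa using (inferInstance : C.Normal).conj_mem z hz b⁻¹
      have h1 := hCfix _ hn'
      rw [map_mul, map_mul, map_inv, hCfix z hz] at h1
      calc z * (σ b * b⁻¹) = σ b * ((σ b)⁻¹ * z * σ b) * b⁻¹ := by group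
        _ = σ b * b⁻¹ * z := by rw [h1]; group
  set z₀ := ⁅x₀, y₀⁆ with hz₀
  have hz₀C : z₀ ∈ C := Subgroup.commutator_mem_commutator (Subgroup.mem_top _) (Subgroup.mem_top _)
  have hz₀1 : z₀ ≠ 1 := fun h => hxy (commutatorElement_eq_one_iff_mul_comm.1 h)
  have hzcomm : ∀ z ∈ C, ∀ b v, ρ z (ρ b v) = ρ b (ρ z v) := fun z hz b v => by
    rw [← Module.End.mul_apply, ← map_mul, hCc z hz, map_mul, Module.End.mul_apply]
  have hzh : ∀ z ∈ C, ∀ v, ρ z (h v) = h (ρ z v) := fun z hz v => by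
    rw [← Module.End.mul_apply, ← Module.End.mul_apply, hσ, hCfix z hz]
  obtain ⟨l, hl, hE0⟩ := exists_eigen_ne_one (ρ z₀) (n := n)
    (by rw [← map_pow, ← hn, pow_card_eq_one', map_one]) hn0
    (fun h => hz₀1 (hρ (h.trans (map_one ρ).symm)))
  let T : Option Q → Module.End k W := fun o => o.elim h fun b => ρ b
  obtain ⟨E, hE0le, hE, hEinv, hEmin⟩ := exists_minimal_invariant T _ hE0 fun o v hv => by
    rw [Module.End.mem_eigenspace_iff] at hv ⊢
    rcases o with _ | b
    · simp only [T, Option.elim_none]; rw [hzh z₀ hz₀C, hv, map_smul]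
    · simp only [T, Option.elim_some]; rw [hzcomm z₀ hz₀C, hv, map_smul]
  have hEh : ∀ v ∈ E, h v ∈ E := hEinv none
  have hEρ : ∀ b, ∀ v ∈ E, ρ b v ∈ E := fun b => hEinv (some b)
  have hsc : ∀ z ∈ C, ∃ c : k, ∀ v ∈ E, ρ z v = c • v := fun z hz =>
    exists_scalar_of_minimal T hE hEinv hEmin (ρ z) (hEρ z) fun o v _ => by
      rcases o with _ | b
      · exact hzh z hz v
      · exact hzcomm z hz b v
  choose sc hsc using hsc
  obtain ⟨e, he, he0⟩ := Submodule.exists_mem_ne_zero_of_ne_bot hE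
  have huniq : ∀ x y : k, x • e = y • e → x = y := fun x y h => smul_left_injective k he0 h
  have hscmul : ∀ z hz z' hz', sc (z * z') (C.mul_mem hz hz') = sc z hz * sc z' hz' :=
    fun z hz z' hz' => huniq _ _ (by
      rw [← hsc _ _ e he, map_mul, Module.End.mul_apply, hsc z' hz' e he, map_smul, hsc z hz e he,
        smul_smul, mul_comm])
  have hmem : ∀ a b : Q, ⁅a, b⁆ ∈ C := fun a b =>
    Subgroup.commutator_mem_commutator (Subgroup.mem_top a) (Subgroup.mem_top b)
  let com : Q → Q → k := fun a b => sc ⁅a, b⁆ (hmem a b)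
  have hscc : ∀ {z z'} (hz : z ∈ C) (hz' : z' ∈ C), z = z' → sc z hz = sc z' hz' := by
    intro z z' hz hz' h; subst h; rfl
  have hcmulr : ∀ a b d : Q, com a (b * d) = com a b * com a d := fun a b d => by
    simp only [com]
    rw [← hscmul]
    refine hscc _ _ ?_
    have h1 : ⁅a, b * d⁆ = ⁅a, b⁆ * (b * ⁅a, d⁆ * b⁻¹) := by
      simp only [commutatorElement_def]; group
    rw [h1, ← hCc _ (hmem a d) b, mul_inv_cancel_right]
  have hcmull : ∀ a b d : Q, com (a * b) d = com a d * com b d := fun a b d => by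
    simp only [com]
    rw [mul_comm, ← hscmul]
    refine hscc _ _ ?_
    have h1 : ⁅a * b, d⁆ = a * ⁅b, d⁆ * a⁻¹ * ⁅a, d⁆ := by
      simp only [commutatorElement_def]; group
    rw [h1, ← hCc _ (hmem b d) a, mul_inv_cancel_right]
  have hcσ : ∀ a b, com (σ a) (σ b) = com a b := fun a b => by
    refine hscc _ _ ?_
    rw [← map_commutatorElement, hCfix]
    exact hmem a b
  have hcspec : ∀ a b, ∀ v ∈ E, ρ a (ρ b v) = com a b • ρ b (ρ a v) := fun a b v hv => by
    simp only [com]
    rw [← hsc _ _ _ (hEρ b _ (hEρ a _ hv))]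
    simp only [← Module.End.mul_apply, ← map_mul]
    congr 2
    simp only [commutatorElement_def]; group
  have hc1l : ∀ b, com 1 b = 1 := fun b => huniq _ _ (by
    simp only [com]
    rw [← hsc _ _ e he, commutatorElement_one_left, map_one, Module.End.one_apply, one_smul])
  have hc1r : ∀ b, com b 1 = 1 := fun b => huniq _ _ (by
    simp only [com]
    rw [← hsc _ _ e he, commutatorElement_one_right, map_one, Module.End.one_apply, one_smul])
  let Rad : Subgroup Q :=
    { carrier := {a | ∀ b, com a b = 1}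
      one_mem' := hc1l
      mul_mem' := fun {x y} hx hy b => by rw [hcmull, hx b, hy b, mul_one]
      inv_mem' := fun {x} hx b => by
        have h := hcmull x x⁻¹ b
        rwa [mul_inv_cancel, hc1l, hx b, one_mul, eq_comm] at h }
  have hRne : Rad ≠ ⊤ := fun h => hl (huniq _ _ (by
    have h1 : com x₀ y₀ = 1 := (h.symm ▸ Subgroup.mem_top x₀ : x₀ ∈ Rad) y₀
    have h2 := Module.End.mem_eigenspace_iff.1 (hE0le he)
    have h3 := hsc z₀ hz₀C e he
    rw [h2] at h3
    rw [h3]
    exact congrArg (fun t : k => t • e) h1))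
  have hRinv : ∀ a ∈ Rad, σ a ∈ Rad := fun a ha b => by
    obtain ⟨b', rfl⟩ := σ.surjective b
    rw [hcσ]; exact ha b'
  have hRnormal : Rad.Normal := ⟨fun a ha x b => by
    rw [hcmull, hcmull, ha b, mul_one, ← hcmull, mul_inv_cancel, hc1l]⟩
  have hRfix := hsub Rad hRne hRinv
  have hRfree : ∀ a, σ a * a⁻¹ ∈ Rad → a ∈ Rad := by
    intro a ha
    have hfa : σ a = a := hc1 a (hRfix _ ha)
    let K : Subgroup Q :=
      { carrier := {b | com a b = 1}
        one_mem' := hc1r a
        mul_mem' := fun {x y} hx hy => by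
          simp only [Set.mem_setOf_eq] at hx hy ⊢; rw [hcmulr, hx, hy, mul_one]
        inv_mem' := fun {x} hx => by
          simp only [Set.mem_setOf_eq] at hx ⊢
          have h := hcmulr a x x⁻¹
          rwa [mul_inv_cancel, hc1r, hx, one_mul, eq_comm] at h }
    have hK := hgen K (fun b (hb : com a b = 1) => by
      show com a (σ b) = 1
      rw [← hfa, hcσ, hb]) (fun b => by
      show com a (σ b * b⁻¹) = 1
      rw [hcmulr, show com a (σ b) = com a b by conv_lhs => rw [← hfa]; rw [hcσ], ← hcmulr,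
        mul_inv_cancel, hc1r])
    exact fun b => (hK.symm ▸ Subgroup.mem_top b : b ∈ K)
  -- the operator commuting with the action
  let Y : Module.End k W := TwistedEigen.uStar ρ σ * h
  have hY : ∀ b v, Y (ρ b v) = ρ b (Y v) := fun b v => by
    simp only [Y, ← Module.End.mul_apply]
    rw [mul_assoc, hσ, ← mul_assoc, TwistedEigen.uStar_mul, mul_assoc]
  have hYE : ∀ v ∈ E, Y v ∈ E := fun v hv => by
    simp only [Y, Module.End.mul_apply, TwistedEigen.uStar, LinearMap.sum_apply]
    exact Submodule.sum_mem _ fun x _ => hEρ _ _ (hEh v hv)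
  haveI : Nontrivial E := Submodule.nontrivial_iff_ne_bot.2 hE
  obtain ⟨μ, hμ⟩ := Module.End.exists_eigenvalue (Y.restrict hYE)
  obtain ⟨⟨v₁, hv₁⟩, hv₁', hv₁0⟩ := hμ.exists_hasEigenvector
  rw [Module.End.mem_eigenspace_iff] at hv₁'
  have hv₁'' : Y v₁ = μ • v₁ := congrArg Subtype.val hv₁'
  obtain ⟨U, hUle, hU, hUinv, hUmin⟩ := exists_minimal_invariant (fun b => ρ b)
    (E ⊓ Module.End.eigenspace Y μ) (fun h => hv₁0 (Subtype.ext ((Submodule.mem_bot k).1
      (h ▸ ⟨hv₁, Module.End.mem_eigenspace_iff.2 hv₁''⟩)))) fun b v hv => by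
      refine ⟨hEρ b v hv.1, Module.End.mem_eigenspace_iff.2 ?_⟩
      rw [hY, Module.End.mem_eigenspace_iff.1 hv.2, map_smul]
  have hUE : U ≤ E := fun v hv => (hUle hv).1
  -- data on a simple submodule
  let ρS : (S : Submodule k W) → (∀ b, ∀ v ∈ S, ρ b v ∈ S) → (Q →* Module.End k S) := fun S hS =>
    { toFun := fun b => (ρ b).restrict (hS b)
      map_one' := LinearMap.ext fun v => Subtype.ext (by simp)
      map_mul' := fun b d => LinearMap.ext fun v => Subtype.ext (by simp) }
  have mk : ∀ (S : Submodule k W) (hS : ∀ b, ∀ v ∈ S, ρ b v ∈ S), S ≤ E →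
      (∀ U' : Submodule k W, U' ≤ S → U' ≠ ⊥ → (∀ b, ∀ v ∈ U', ρ b v ∈ U') → U' = S) →
      ∃ D : TwistedEigen.Data (ρS S hS) σ r, D.Rad = Rad := by
    intro S hS hSE hmin
    refine ⟨
      { com := com
        com_spec := fun a b => LinearMap.ext fun v => Subtype.ext (hcspec a b v (hSE v.2))
        com_mul := hcmulr
        Rad := Rad
        rad_normal := hRnormal
        rad_iff := fun a => Iff.rfl
        fix_rad := hRfix
        free := hRfree
        order := hper
        simple := fun U' hU' => ?_ }, rfl⟩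
    by_cases h0 : U' = ⊥
    · exact Or.inl h0
    have := hmin (U'.map S.subtype) (Submodule.map_subtype_le _ _)
      (fun h => h0 (Submodule.map_injective_of_injective S.injective_subtype
        (by rw [h, Submodule.map_bot]))) (by
      rintro b _ ⟨w, hw, rfl⟩
      exact ⟨_, hU' b w hw, rfl⟩)
    exact Or.inr (Submodule.map_injective_of_injective S.injective_subtype
      (by rw [this, Submodule.map_top, Submodule.range_subtype]))
  have hUhinv : ∀ b, ∀ v ∈ U.map h, ρ b v ∈ U.map h := by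
    rintro b _ ⟨w, hw, rfl⟩
    obtain ⟨d, rfl⟩ := σ.surjective b
    exact ⟨ρ d w, hUinv d w hw, by rw [← Module.End.mul_apply, hσ, Module.End.mul_apply]⟩
  obtain ⟨D₂, hD₂⟩ := mk (U.map h) hUhinv
    (by rintro _ ⟨w, hw, rfl⟩; exact hEh w (hUE hw)) fun U' hle hne hinv => by
      refine le_antisymm hle ?_
      have := hUmin (U ⊓ U'.comap h) inf_le_left (fun h0 => ?_) fun b v hv =>
        ⟨hUinv b v hv.1, by
          show h (ρ b v) ∈ U'
          rw [← Module.End.mul_apply, hσ, Module.End.mul_apply]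
          exact hinv _ _ hv.2⟩
      · rintro _ ⟨w, hw, rfl⟩
        exact (this.symm ▸ hw : w ∈ U ⊓ U'.comap h).2
      · obtain ⟨v, hv, hv0⟩ := Submodule.exists_mem_ne_zero_of_ne_bot hne
        obtain ⟨w, hw, rfl⟩ := hle hv
        have : w ∈ (⊥ : Submodule k W) := h0 ▸ ⟨hw, hv⟩
        exact hv0 (by rw [(Submodule.mem_bot k).1 this, map_zero])
  obtain ⟨D, hD⟩ := mk U hUinv hUE hUmin
  obtain ⟨v₀, hv₀, hv₀0⟩ := Submodule.exists_mem_ne_zero_of_ne_bot hU
  haveI : Nontrivial U := Submodule.nontrivial_iff_ne_bot.2 hU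
  haveI : Nontrivial (U.map h) := Submodule.nontrivial_iff_ne_bot.2 fun h0 => hv₀0 (hinjh _
    ((Submodule.mem_bot k).1 (h0 ▸ ⟨v₀, hv₀, rfl⟩)))
  have hQk : (Fintype.card Q : k) ≠ 0 := by rw [← Nat.card_eq_fintype_card, hn]; exact hn0
  set ν : k := (Fintype.card Q : k) * (Nat.card Rad : k) with hν
  have hν0 : ν ≠ 0 := mul_ne_zero hQk fun h => hQk (by
    rw [← Nat.card_eq_fintype_card, ← Rad.card_mul_index, Nat.cast_mul, h, zero_mul])
  have hU2 : ∀ v ∈ U.map h, TwistedEigen.uOp ρ σ (TwistedEigen.uStar ρ σ v) = ν • v := by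
    intro v hv
    have h1 := congrArg (fun f : Module.End k (U.map h) => ((f ⟨v, hv⟩ : U.map h) : W))
      (TwistedEigen.uOp_mul_uStar D₂ hQk)
    simp only [hD₂] at h1
    simpa [hν, Nat.card_eq_fintype_card, TwistedEigen.uOp, TwistedEigen.uStar, ρS, LinearMap.sum_apply, Finset.sum_apply,
      AddSubmonoidClass.coe_finset_sum, map_sum] using h1
  have hrel : ∀ v ∈ U, ν • h v = μ • TwistedEigen.uOp ρ σ v := fun v hv => by
    rw [← hU2 _ ⟨v, hv, rfl⟩]
    have := Module.End.mem_eigenspace_iff.1 (hUle hv).2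
    simp only [Y, Module.End.mul_apply] at this
    rw [this, map_smul]
  have hμ0 : μ ≠ 0 := fun h0 => hv₀0 (hinjh _ (by
    have := hrel v₀ hv₀
    rw [h0, zero_smul] at this
    exact (smul_eq_zero.1 this).resolve_left hν0))
  set c := ν⁻¹ * μ with hc
  have hc0 : c ≠ 0 := mul_ne_zero (inv_ne_zero hν0) hμ0
  have huU : ∀ v : U, ((TwistedEigen.uOp (ρS U hUinv) σ v : U) : W)
      = TwistedEigen.uOp ρ σ (v : W) := fun v => by
    simp [TwistedEigen.uOp, ρS, LinearMap.sum_apply]
  have hhu : ∀ v : U, h v = c • ((TwistedEigen.uOp (ρS U hUinv) σ v : U) : W) := fun v => by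
    rw [huU, hc, ← smul_smul, ← hrel v v.2, smul_smul, inv_mul_cancel₀ hν0, one_smul]
  have hpow : ∀ (i : ℕ) (v : U),
      (h ^ i) (v : W) = c ^ i • (((TwistedEigen.uOp (ρS U hUinv) σ ^ i) v : U) : W) := fun i => by
    induction i with
    | zero => simp
    | succ i ih =>
      intro v
      rw [pow_succ', Module.End.mul_apply, ih, map_smul, hhu, smul_smul, ← pow_succ,
        pow_succ' (TwistedEigen.uOp (ρS U hUinv) σ), Module.End.mul_apply]
  have hγ : TwistedEigen.uOp (ρS U hUinv) σ ^ r = (c ^ r)⁻¹ • 1 := LinearMap.ext fun v =>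
    Subtype.ext (by
      have := hpow r v
      rw [hh, Module.End.one_apply] at this
      simp only [LinearMap.smul_apply, Module.End.one_apply, SetLike.val_smul]
      conv_rhs => rw [this, smul_smul, inv_mul_cancel₀ (pow_ne_zero r hc0), one_smul])
  obtain ⟨v, hv0, hv⟩ := TwistedEigen.exists_eigen D hr hr0 hQk
    (by rw [hD]; exact (hn ▸ hodd).of_dvd_nat Rad.index_dvd_card) (hD ▸ hRne) hγ
    (a := c⁻¹) (inv_pow c r)
  refine hv0 (Subtype.ext (hfix (v : W) ?_))
  rw [hhu, hv, SetLike.val_smul, smul_smul, mul_inv_cancel₀ hc0, one_smul]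

/-- Dropping injectivity. -/
theorem map_eq_of_no_fixed {r : ℕ} (hr : r.Prime) (hr0 : (r : k) ≠ 0) {h : Module.End k W}
    (hh : h ^ r = 1) (hfix : ∀ v, h v = v → v = 0) {Q : Type u} [Group Q] [Finite Q]
    [Group.IsSolvable Q] (hodd : Odd (Nat.card Q)) (hQ : (Nat.card Q : k) ≠ 0)
    (hrQ : ¬ r ∣ Nat.card Q) (ρ : Q →* Module.End k W) (σ : Q ≃* Q)
    (hσ : ∀ a, h * ρ a = ρ (σ a) * h) (a : Q) : ρ (σ a) = ρ a := by
  have hcancel : ∀ x y : Module.End k W, x * h = y * h → x = y := fun x y hxy => by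
    have := congrArg (· * h ^ (r - 1)) hxy
    simpa [mul_assoc, ← pow_succ', Nat.sub_add_cancel hr.one_le, hh] using this
  have hcancel' : ∀ x y : Module.End k W, h * x = h * y → x = y := fun x y hxy => by
    have := congrArg (h ^ (r - 1) * ·) hxy
    simpa [← mul_assoc, ← pow_succ, Nat.sub_add_cancel hr.one_le, hh] using this
  have hker : ρ.ker.map σ.toMonoidHom = ρ.ker := by
    refine SetLike.ext fun b => ?_
    obtain ⟨d, rfl⟩ := σ.surjective b
    rw [show σ d = σ.toMonoidHom d from rfl, Subgroup.mem_map_iff_mem σ.injective,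
      MonoidHom.mem_ker, MonoidHom.mem_ker]
    refine ⟨fun hd => hcancel _ _ ?_, fun hd => hcancel' _ _ ?_⟩
    · rw [MulEquiv.coe_toMonoidHom, ← hσ, hd, mul_one, one_mul]
    · rw [MulEquiv.coe_toMonoidHom] at hd
      rw [hσ, hd, mul_one, one_mul]
  let σ' := QuotientGroup.congr ρ.ker ρ.ker σ hker
  let ρ' : Q ⧸ ρ.ker →* Module.End k W := QuotientGroup.lift ρ.ker ρ fun x hx => hx
  have hinj : Function.Injective ρ' := by
    intro x y
    induction x using QuotientGroup.induction_on with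
    | H x =>
    induction y using QuotientGroup.induction_on with
    | H y =>
    intro hxy
    refine QuotientGroup.eq.2 (MonoidHom.mem_ker.2 ?_)
    change ρ x = ρ y at hxy
    rw [map_mul, ← hxy, ← map_mul, inv_mul_cancel, map_one]
  have hdvd : Nat.card (Q ⧸ ρ.ker) ∣ Nat.card Q := ρ.ker.card_quotient_dvd_card
  have := fix_of_injective hr hr0 hh hfix _ (Q := Q ⧸ ρ.ker) rfl inferInstance
    (hodd.of_dvd_nat hdvd) (fun h => hQ (by obtain ⟨c, hc⟩ := hdvd; rw [hc, Nat.cast_mul, h, zero_mul]))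
    (fun h => hrQ (h.trans hdvd)) ρ' hinj σ' (fun x => by
      induction x using QuotientGroup.induction_on with
      | H x => exact hσ x) (QuotientGroup.mk a)
  exact congrArg ρ' this

/-- The same over any field. -/
theorem map_eq_of_no_fixed_field {F : Type} [Field F] {V : Type*} [AddCommGroup V] [Module F V]
    [FiniteDimensional F V] {r : ℕ} (hr : r.Prime) (hr0 : (r : F) ≠ 0) {h : Module.End F V}
    (hh : h ^ r = 1) (hfix : ∀ v, h v = v → v = 0) {Q : Type u} [Group Q] [Finite Q]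
    [Group.IsSolvable Q] (hodd : Odd (Nat.card Q)) (hQ : (Nat.card Q : F) ≠ 0)
    (hrQ : ¬ r ∣ Nat.card Q) (ρ : Q →* Module.End F V) (σ : Q ≃* Q)
    (hσ : ∀ a, h * ρ a = ρ (σ a) * h) (a : Q) : ρ (σ a) = ρ a := by
  classical
  set b := Module.finBasis F V
  let f : F →+* AlgebraicClosure F := algebraMap F (AlgebraicClosure F)
  let φ : Module.End F V →+* Module.End (AlgebraicClosure F)
      (Fin (Module.finrank F V) → AlgebraicClosure F) :=
    (Matrix.toLinAlgEquiv' :
      Matrix (Fin (Module.finrank F V)) (Fin (Module.finrank F V)) (AlgebraicClosure F) ≃ₐ[_] _).toRingEquiv.toRingHom.comp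
      (f.mapMatrix.comp (LinearMap.toMatrixAlgEquiv b).toRingEquiv.toRingHom)
  have hφ : Function.Injective φ := by
    intro x y hxy
    simp only [φ, RingHom.comp_apply, RingEquiv.toRingHom_eq_coe, RingHom.coe_coe,
      EmbeddingLike.apply_eq_iff_eq, RingHom.mapMatrix_apply] at hxy
    exact (LinearMap.toMatrixAlgEquiv b).injective (Matrix.map_injective f.injective hxy)
  have hunit : IsUnit (φ (h - 1)) := by
    refine RingHom.isUnit_map φ ((LinearMap.isUnit_iff_ker_eq_bot _).2 ?_)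
    rw [LinearMap.ker_eq_bot']
    intro v hv
    rw [LinearMap.sub_apply, Module.End.one_apply, sub_eq_zero] at hv
    exact hfix v hv
  refine hφ (map_eq_of_no_fixed (h := φ h) hr ?_ ?_ ?_ hodd ?_ hrQ (φ.toMonoidHom.comp ρ) σ
    (fun d => ?_) a)
  · rw [← map_natCast f]; exact (map_ne_zero f).2 hr0
  · rw [← map_pow, hh, map_one]
  · intro v hv
    obtain ⟨g, hg⟩ := hunit.exists_left_inv
    have h1 : φ (h - 1) v = 0 := by
      rw [map_sub, map_one, LinearMap.sub_apply, Module.End.one_apply, hv, sub_self]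
    have h2 := congrArg g h1
    rwa [← Module.End.mul_apply, hg, Module.End.one_apply, map_zero] at h2
  · rw [← map_natCast f]; exact (map_ne_zero f).2 hQ
  · simp only [MonoidHom.comp_apply, RingHom.toMonoidHom_eq_coe, MonoidHom.coe_coe]
    rw [← map_mul, ← map_mul, hσ]

/-! ### The group version -/

/-- Additive endomorphisms of an elementary abelian group are linear. -/
def endHom (p : ℕ) (A : Type*) [AddCommGroup A] [Module (ZMod p) A] :
    AddMonoid.End A →* Module.End (ZMod p) A where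
  toFun f := AddMonoidHom.toZModLinearMap p f
  map_one' := LinearMap.ext fun _ => rfl
  map_mul' _ _ := LinearMap.ext fun _ => rfl

theorem endHom_apply (p : ℕ) (A : Type*) [AddCommGroup A] [Module (ZMod p) A]
    (f : AddMonoid.End A) (x : A) : endHom p A f x = f x := rfl

theorem endHom_injective (p : ℕ) (A : Type*) [AddCommGroup A] [Module (ZMod p) A] :
    Function.Injective (endHom p A) := fun f g h =>
  DFunLike.ext _ _ fun x => by rw [← endHom_apply p A, h, endHom_apply]

/-- The same for elementary abelian groups. -/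
theorem map_eq_of_no_fixed_add {p : ℕ} [Fact p.Prime] {A : Type*} [AddCommGroup A]
    [Module (ZMod p) A] [Finite A] {r : ℕ} (hr : r.Prime) (hr0 : ¬ p ∣ r) {h : AddMonoid.End A}
    (hh : h ^ r = 1) (hfix : ∀ v, h v = v → v = 0) {Q : Type u} [Group Q] [Finite Q]
    [Group.IsSolvable Q] (hodd : Odd (Nat.card Q)) (hQ : ¬ p ∣ Nat.card Q)
    (hrQ : ¬ r ∣ Nat.card Q) (ρ : Q →* AddMonoid.End A) (σ : Q ≃* Q)
    (hσ : ∀ a, h * ρ a = ρ (σ a) * h) (a : Q) : ρ (σ a) = ρ a :=
  endHom_injective (p := p) (A := A) (map_eq_of_no_fixed_field (F := ZMod p) (h := endHom p A h) hr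
    (fun h' => hr0 ((ZMod.natCast_eq_zero_iff r p).1 h')) (by rw [← map_pow, hh, map_one])
    hfix hodd (fun h' => hQ ((ZMod.natCast_eq_zero_iff _ p).1 h')) hrQ
    ((endHom p A).comp ρ) σ
    (fun d => by simp only [MonoidHom.comp_apply, ← map_mul, hσ]) a)

section
variable {G : Type*} [Group G] [Finite G]

open Classical in
/-- **BG 3.6, odd case**, the fixed points of `R` lying in the Frattini subgroup. -/
theorem commutator_le_centralizer_of_fix_le_frattini {R Q V : Subgroup G} {p r : ℕ} (hp : p.Prime)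
    (hr : r.Prime) (hR : Nat.card R = r) (hV : IsPGroup p V) (hrp : r ≠ p)
    (hRV : R ≤ Subgroup.normalizer (V : Set G)) (hQV : Q ≤ Subgroup.normalizer (V : Set G))
    (hRQ : R ≤ Subgroup.normalizer (Q : Set G)) (hQs : Group.IsSolvable Q)
    (hodd : Odd (Nat.card Q)) (hrQ : ¬ r ∣ Nat.card Q) (hpQ : ¬ p ∣ Nat.card Q)
    (hfix : V ⊓ Subgroup.centralizer (R : Set G) ≤ (frattini V).map V.subtype) :
    ⁅Q, R⁆ ≤ Subgroup.centralizer (V : Set G) := by
  haveI := Fact.mk hp
  haveI := Fact.mk hr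
  haveI := hQs
  set N := Subgroup.normalizer (V : Set G) with hN
  set Φ := frattini V with hΦ
  letI : CommGroup (V ⧸ Φ) :=
    { (inferInstance : Group (V ⧸ Φ)) with
      mul_comm := fun x y => by
        induction x using QuotientGroup.induction_on with
        | H x =>
        induction y using QuotientGroup.induction_on with
        | H y =>
        rw [← QuotientGroup.mk_mul, ← QuotientGroup.mk_mul, QuotientGroup.eq]
        refine CfsgLib.PGroups.commutator_le_frattini hV ?_
        have : (x * y)⁻¹ * (y * x) = ⁅y⁻¹, x⁻¹⁆ := by simp only [commutatorElement_def]; group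
        rw [this]
        exact Subgroup.commutator_mem_commutator (Subgroup.mem_top _) (Subgroup.mem_top _) }
  letI : Module (ZMod p) (Additive (V ⧸ Φ)) := AddCommGroup.zmodModule fun x => by
    obtain ⟨y, hy⟩ := QuotientGroup.mk_surjective (Additive.toMul x)
    rw [← toMul_eq_one, toMul_nsmul, ← hy, ← QuotientGroup.mk_pow, QuotientGroup.eq_one_iff]
    exact CfsgLib.PGroups.pow_mem_frattini hV y
  haveI : FiniteDimensional (ZMod p) (Additive (V ⧸ Φ)) := Module.Finite.of_finite
  let act : N →* MulAut V := Subgroup.normalizerMonoidHom V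
  have hact : ∀ (n : N) (y : V), (act n y : G) = n * y * (n : G)⁻¹ := fun n y => rfl
  have hchar : ∀ n : N, Φ ≤ Φ.comap (act n).toMonoidHom := fun n =>
    (Subgroup.characteristic_iff_comap_eq.1 inferInstance (act n)).ge
  let Λ : N →* AddMonoid.End (Additive (V ⧸ Φ)) :=
    { toFun := fun n => MonoidHom.toAdditive (QuotientGroup.map Φ Φ (act n).toMonoidHom (hchar n))
      map_one' := DFunLike.ext _ _ fun x => by
        obtain ⟨y, rfl⟩ : ∃ y : V, Additive.ofMul (QuotientGroup.mk y : V ⧸ Φ) = x :=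
          QuotientGroup.mk_surjective (Additive.toMul x)
        change Additive.ofMul (QuotientGroup.mk (act 1 y) : V ⧸ Φ)
          = Additive.ofMul (QuotientGroup.mk y : V ⧸ Φ)
        rw [map_one]; rfl
      map_mul' := fun m n => DFunLike.ext _ _ fun x => by
        obtain ⟨y, rfl⟩ : ∃ y : V, Additive.ofMul (QuotientGroup.mk y : V ⧸ Φ) = x :=
          QuotientGroup.mk_surjective (Additive.toMul x)
        change Additive.ofMul (QuotientGroup.mk (act (m * n) y) : V ⧸ Φ)
          = Additive.ofMul (QuotientGroup.mk (act m (act n y)) : V ⧸ Φ)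
        rw [map_mul]; rfl }
  have hΛ : ∀ (n : N) (y : V), Λ n (Additive.ofMul (QuotientGroup.mk y : V ⧸ Φ))
      = Additive.ofMul (QuotientGroup.mk (act n y) : V ⧸ Φ) := fun n y => rfl
  obtain ⟨⟨g, hgR⟩, hg⟩ : ∃ g : R, ∀ x, x ∈ Subgroup.zpowers g := by
    haveI := isCyclic_of_prime_card hR
    exact IsCyclic.exists_generator
  let gN : N := ⟨g, hRV hgR⟩
  have hpow : ∀ a ∈ R, ∃ i : ℤ, a = g ^ i := fun a ha => by
    obtain ⟨i, hi⟩ := Subgroup.mem_zpowers_iff.1 (hg ⟨a, ha⟩)
    exact ⟨i, by simpa using (congrArg Subtype.val hi).symm⟩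
  have hgr : g ^ r = 1 := by
    have := pow_card_eq_one' (x := (⟨g, hgR⟩ : R))
    rw [hR] at this
    simpa using congrArg Subtype.val this
  let incl : Q →* N := Subgroup.inclusion hQV
  let σ : Q ≃* Q := Subgroup.normalizerMonoidHom Q ⟨g, hRQ hgR⟩
  have hσ : ∀ a : Q, Λ gN * (Λ.comp incl) a = (Λ.comp incl) (σ a) * Λ gN := fun a => by
    simp only [MonoidHom.comp_apply, ← map_mul]
    congr 1
    exact Subtype.ext (by simp [gN, incl, σ])
  have hfixW : ∀ v, Λ gN v = v → v = 0 := by
    intro x hx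
    obtain ⟨y, hy⟩ := QuotientGroup.mk_surjective (Additive.toMul x)
    have hx' : x = Additive.ofMul (QuotientGroup.mk y : V ⧸ Φ) := by rw [hy]; rfl
    subst hx'
    have hall : ∀ i : ℤ, Λ (gN ^ i) (Additive.ofMul (QuotientGroup.mk y : V ⧸ Φ))
        = Additive.ofMul (QuotientGroup.mk y : V ⧸ Φ) := fun i => by
      induction i using Int.induction_on with
      | zero => simp
      | succ i ih => rw [zpow_add_one, map_mul, AddMonoid.End.coe_mul, Function.comp_apply, hx, ih]
      | pred i ih =>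
        conv_lhs => rw [← hx, show ∀ f g : AddMonoid.End (Additive (V ⧸ Φ)), ∀ x, f (g x) = (f * g) x from fun _ _ _ => rfl, ← map_mul, ← zpow_add_one, sub_add_cancel]
        exact ih
    set F := Φ.map V.subtype with hF
    have hRF : R ≤ Subgroup.normalizer (F : Set G) := by
      intro a ha
      rw [CfsgLib.Coprime.mem_normalizer_iff_conj_smul, CfsgLib.Coprime.conj_smul_eq_map, hF,
        Subgroup.map_map]
      have h1 : Φ.map (act ⟨a, hRV ha⟩).toMonoidHom = Φ :=
        Subgroup.characteristic_iff_map_eq.1 inferInstance _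
      conv_rhs => rw [← h1, Subgroup.map_map]
      rfl
    have hcopF : (Nat.card R).Coprime (Nat.card F) := by
      rw [hR]
      obtain ⟨j, hj⟩ := (hV.to_subgroup Φ).exists_card_eq
      rw [hF, Nat.card_congr (Φ.equivMapOfInjective _ V.subtype_injective).toEquiv.symm, hj]
      exact ((Nat.coprime_primes hr hp).2 hrp).pow_right _
    obtain ⟨c, hc, hyc⟩ := CfsgLib.Coprime.exists_centralizing_in_coset hRF hcopF
      (Or.inl (haveI := isCyclic_of_prime_card hR; inferInstance)) (k := (y : G)) (fun a ha => by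
        obtain ⟨i, rfl⟩ := hpow a ha
        have h1 := hall i
        rw [hΛ] at h1
        have h2 := QuotientGroup.eq.1 (Additive.ofMul.injective h1).symm
        refine ⟨_, h2, ?_⟩
        simp [hact, gN, mul_assoc, -map_zpow])
    have hcV : c ∈ V := by
      have := V.mul_mem y.2 (Subgroup.map_subtype_le _ hyc)
      simpa using this
    obtain ⟨f', hf', hfe'⟩ := hfix ⟨hcV, hc⟩
    obtain ⟨f, hf, hfe⟩ := hyc
    have : y ∈ Φ := by
      have : y = f' * f⁻¹ := Subtype.ext (by
        rw [Subgroup.coe_mul, InvMemClass.coe_inv, show (f' : G) = c from hfe',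
          show (f : G) = (y : G)⁻¹ * c from hfe]
        group)
      exact this ▸ mul_mem hf' (inv_mem hf)
    rw [(QuotientGroup.eq_one_iff y).2 this]; rfl
  have key : ∀ a : Q, Commute (Λ gN) ((Λ.comp incl) a) := fun a => by
    have h1 := map_eq_of_no_fixed_add (p := p) (h := Λ gN) hr
      (fun h => hrp ((Nat.prime_dvd_prime_iff_eq hp hr).1 h).symm)
      (by rw [← map_pow]; convert map_one Λ; exact Subtype.ext (by simpa [gN] using hgr))
      hfixW hodd hpQ hrQ (Λ.comp incl) σ hσ a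
    rw [commute_iff_eq, hσ, h1]
  set Ker := Λ.ker.map N.subtype
  have hK : ⁅Q, R⁆ ≤ Ker := by
    rw [Subgroup.commutator_le]
    intro q hq a ha
    refine ⟨⁅(⟨q, hQV hq⟩ : N), (⟨a, hRV ha⟩ : N)⁆, ?_, rfl⟩
    obtain ⟨i, rfl⟩ := hpow a ha
    have hgi : (⟨g ^ i, hRV ha⟩ : N) = gN ^ i := Subtype.ext (by simp [gN])
    have hc : Commute (Λ.toHomUnits ⟨q, hQV hq⟩) (Λ.toHomUnits (gN ^ i)) := by
      rw [map_zpow]
      refine Commute.zpow_right ?_ i
      exact Units.ext ((key ⟨q, hq⟩).symm)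
    rw [SetLike.mem_coe, MonoidHom.mem_ker, hgi]
    have h2 : Λ.toHomUnits ⁅(⟨q, hQV hq⟩ : N), gN ^ i⁆ = 1 := by
      rw [map_commutatorElement, commutatorElement_eq_one_iff_commute]; exact hc
    exact congrArg Units.val h2
  have hKQ : ⁅Q, R⁆ ≤ Q := CfsgLib.Coprime.commutator_le_of_le_normalizer hRQ
  refine CfsgLib.Coprime.le_centralizer_of_trivial_mod_frattini (hKQ.trans hQV) ?_ ?_
  · obtain ⟨j, hj⟩ := (hV.to_subgroup Φ).exists_card_eq
    rw [hj]
    exact (((Fact.out (p := p.Prime)).coprime_iff_not_dvd.2 fun h =>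
      hpQ (h.trans (Subgroup.card_dvd_of_le hKQ))).symm).pow_right _
  · intro a ha v hv
    obtain ⟨n, hn, rfl⟩ := hK ha
    have h1 := congrArg (fun T : AddMonoid.End (Additive (V ⧸ Φ)) =>
      T (Additive.ofMul (QuotientGroup.mk (⟨v, hv⟩ : V) : V ⧸ Φ))) (MonoidHom.mem_ker.1 hn)
    simp only [hΛ, AddMonoid.End.coe_one, id_eq] at h1
    have h2 := QuotientGroup.eq.1 (Additive.ofMul.injective h1)
    have hnΦ : Φ.Normal := inferInstance
    refine ⟨_, Φ.inv_mem (hnΦ.conj_mem _ h2 (act n ⟨v, hv⟩)), ?_⟩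
    simp [hact, mul_assoc]

/-- **BG 3.6, odd case.** -/
theorem commutator_le_centralizer_of_fpf {R Q V : Subgroup G} {p r : ℕ} (hp : p.Prime)
    (hr : r.Prime) (hR : Nat.card R = r) (hV : IsPGroup p V) (hrp : r ≠ p)
    (hRV : R ≤ Subgroup.normalizer (V : Set G)) (hQV : Q ≤ Subgroup.normalizer (V : Set G))
    (hRQ : R ≤ Subgroup.normalizer (Q : Set G)) (hQs : Group.IsSolvable Q)
    (hodd : Odd (Nat.card Q)) (hrQ : ¬ r ∣ Nat.card Q) (hpQ : ¬ p ∣ Nat.card Q)
    (hfix : V ⊓ Subgroup.centralizer (R : Set G) = ⊥) :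
    ⁅Q, R⁆ ≤ Subgroup.centralizer (V : Set G) :=
  commutator_le_centralizer_of_fix_le_frattini hp hr hR hV hrp hRV hQV hRQ hQs hodd hrQ hpQ
    (hfix.le.trans bot_le)

end

end CfsgLib.FT.BG13.FixedPointPrime
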