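import Cfsg.Agent.Lib.FT.AlphaCentralizer

/-!
The results of sections 9-12 of the local analysis that sections 13 and 14 take as hypotheses.
-/

set_option autoImplicit false

universe u

namespace CfsgLib.FT.BG13

open Cfsg

/-- The part (d), (e) of BG Proposition 12.15 that is not in S1424. -/
def P1215.{v} : Prop :=
  ∀ {G : Type v} [Group G] [Finite G] (_ : Cfsg.IsMinSimpleOddOrder G) (M : Subgroup G) (_ : IsCoatom M)
    (q : ℕ) [Fact q.Prime] (_ : q ∈ Cfsg.sigma M) (X : Subgroup G) (_ : IsPGroup q X) (_ : X ≠ ⊥)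
    (_ : X ≤ M) (Mstar : Subgroup G) (_ : IsCoatom Mstar) (_ : Mstar ≠ M)
    (_ : Subgroup.normalizer (X : Set G) ≤ Mstar),
    (q ∈ Cfsg.sigma Mstar →
      (∀ p ∈ Cfsg.tau1 Mstar, p ∈ Cfsg.tau1 M ∪ Cfsg.alpha M) ∧
        (∀ m ∈ Mstar, ∃ a ∈ Cfsg.piCoreOf (Cfsg.beta Mstar) Mstar, ∃ b ∈ M ⊓ Mstar, m = a * b) ∧
        Cfsg.alpha M = Cfsg.beta M ∧ Cfsg.alphaCore M ≠ ⊥) ∧
    (q ∉ Cfsg.sigma Mstar →
      q ∈ Cfsg.tau2 Mstar ∧
        (∀ p ∈ Cfsg.sigma Mstar, p ∣ Nat.card M → p ∈ Cfsg.beta Mstar) ∧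
        Cfsg.IsComplIn (M ⊓ Mstar) (Cfsg.sigmaCore Mstar) Mstar)

/-- What sections 13 and 14 use from sections 9 to 12. -/
structure Upstream.{v} : Prop where
  s1403 : StmtS1403.{v}
  s1414 : StmtS1414.{v}
  s1415 : StmtS1415.{v}
  s1416 : StmtS1416.{v}
  s1417 : StmtS1417.{v}
  s1418 : StmtS1418.{v}
  s1420 : StmtS1420.{v}
  s1423 : StmtS1423.{v}
  s1424 : StmtS1424.{v}
  s1425 : StmtS1425.{v}
  s1426 : StmtS1426.{v}
  p1215 : P1215.{v}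

end CfsgLib.FT.BG13
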