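import Cfsg.Agent.Lib.FT.BG13.Upstream
import Cfsg.Agent.Lib.FT.BG13.General
import Cfsg.Agent.Lib.FT.Transport

/-!
Structure of a maximal subgroup: the cores `M_σ`, `M_α`, `M_β`, the derived group modulo them, and
disjointness statements.
-/

set_option autoImplicit false
set_option linter.style.haveILetI false

universe u

namespace CfsgLib.FT.BG13

open Cfsg CfsgLib.OddOrder CfsgLib.Techniques _root_.Subgroup

variable {G : Type u} [Group G] [Finite G]

theorem map_commutator_subtype (M : Subgroup G) : (commutator ↥M).map M.subtype = ⁅M, M⁆ := by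
  rw [commutator_def, map_commutator, ← MonoidHom.range_eq_map, range_subtype]

theorem derived_le (M : Subgroup G) : ⁅M, M⁆ ≤ M := commutator_le_self M

theorem le_normalizer_derived (M : Subgroup G) : M ≤ normalizer ((⁅M, M⁆ : Subgroup G) : Set G) :=
  Subgroup.normalizer_commutator_ge_left M M

variable (hU : Upstream.{u}) (hG : IsMinSimpleOddOrder G) {M : Subgroup G} (hM : IsCoatom M)

/-! ### The cores -/

include hU hG hM in
theorem sigmaCore_hallOf : IsPiHallOf (sigma M) (sigmaCore M) M := sigmaCore_hall hU.s1403 hG hM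

include hU hG hM in
theorem sigmaCore_primes {q : ℕ} (hq : q.Prime) (h : q ∣ Nat.card (sigmaCore M)) : q ∈ sigma M :=
  (sigmaCore_hallOf hU hG hM).2.1 q hq h

include hU hG hM in
theorem le_sigmaCore {Y : Subgroup G} (hYM : Y ≤ M)
    (hY : ∀ q : ℕ, q.Prime → q ∣ Nat.card Y → q ∈ sigma M) : Y ≤ sigmaCore M :=
  le_of_normal_hall (le_normalizer_sigmaCore M) (sigmaCore_hallOf hU hG hM) hYM hY

include hU hG hM in
theorem pGroup_le_sigmaCore {p : ℕ} [Fact p.Prime] (hp : p ∈ sigma M) {Y : Subgroup G}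
    (hY : IsPGroup p Y) (hYM : Y ≤ M) : Y ≤ sigmaCore M :=
  le_sigmaCore hU hG hM hYM fun _ hq hd => eq_of_dvd_card_pGroup hY hq hd ▸ hp

include hU hG hM in
theorem mem_sigmaCore_of_orderOf {x : G} (hx : x ∈ M)
    (h : ∀ q : ℕ, q.Prime → q ∣ orderOf x → q ∈ sigma M) : x ∈ sigmaCore M :=
  le_sigmaCore hU hG hM (zpowers_le.2 hx) (fun q hq hd => h q hq (by rwa [Nat.card_zpowers] at hd))
    (mem_zpowers x)

include hU hG hM in
theorem inf_sigmaCore_eq_bot {Y : Subgroup G}
    (hY : ∀ q : ℕ, q.Prime → q ∣ Nat.card Y → q ∉ sigma M) : sigmaCore M ⊓ Y = ⊥ :=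
  inf_eq_bot_of_primes (fun _ hq hd => sigmaCore_primes hU hG hM hq hd) hY

include hU hG hM in
theorem not_mem_sigma_of_inf {p : ℕ} [Fact p.Prime] {Y : Subgroup G} (hY : IsPGroup p Y) (hY1 : Y ≠ ⊥)
    (hYM : Y ≤ M) (h : sigmaCore M ⊓ Y = ⊥) : p ∉ sigma M := fun hp =>
  hY1 (by rwa [inf_eq_right.2 (pGroup_le_sigmaCore hU hG hM hp hY hYM)] at h)

include hU hG hM in
theorem sigmaCore_coprime {p : ℕ} (hp : p.Prime) (h : p ∉ sigma M) :
    ¬ p ∣ Nat.card (sigmaCore M) := fun hd => h (sigmaCore_primes hU hG hM hp hd)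

include hU hG hM in
theorem betaCore_hallOf : IsPiHallOf (beta M) (piCoreOf (beta M) M) M := (hU.s1414 hG M hM).1

omit [Finite G] in
theorem beta_subset_alpha {q : ℕ} (h : q ∈ beta M) : q ∈ alpha M := h.1

include hU hG hM in
theorem alpha_mem_sigma {q : ℕ} (h : q ∈ alpha M) : q ∈ sigma M :=
  alpha_le_sigma hU.s1403 hG hM h

include hU hG hM in
theorem beta_mem_sigma {q : ℕ} (h : q ∈ beta M) : q ∈ sigma M := alpha_mem_sigma hU hG hM h.1

theorem dvd_card_of_mem_tau {M : Subgroup G} {p : ℕ} (h : p ∈ tau1 M ∪ tau3 M) :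
    p ∣ Nat.card M := by
  rcases h with h | h
  · exact h.2.2.1
  · exact h.2.2.1.trans (card_dvd_of_le (derived_le M))

/-! ### The derived group modulo `M_α` and `M_β` -/

include hU hG hM in
/-- Subgroups of coprime order of `M'`, one normalising the other, commute when the latter is an
`α(M)'`-group. -/
theorem centralizes_of_alpha {P Q : Subgroup G} (hP : P ≤ ⁅M, M⁆) (hQ : Q ≤ ⁅M, M⁆)
    (hPQ : P ≤ normalizer (Q : Set G)) (hcop : (Nat.card P).Coprime (Nat.card Q))
    (hQα : ∀ q : ℕ, q.Prime → q ∣ Nat.card Q → q ∉ alpha M) : P ≤ centralizer (Q : Set G) := by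
  haveI := maximal_solvable hG hM
  rw [← map_commutator_subtype] at hP hQ
  refine le_centralizer_of_nilpotent_mod (N := piCore (alpha M) M)
    (isNilpotent_derived_quotient (maximal_odd hG M) fun p hp h => ⟨hp, h⟩) hP hQ hPQ hcop ?_
  rw [inf_comm]
  exact inf_eq_bot_of_primes (fun q hq hd => (alphaCore_hall hU.s1403 hG hM).2.1 q hq hd) hQα

include hU hG hM in
theorem isNilpotent_derived_beta :
    Group.IsNilpotent ((commutator ↥M).map (QuotientGroup.mk' (piCore (beta M) ↥M))) := by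
  obtain ⟨hβ, -, ⟨H, hH, hHn⟩, -⟩ := hU.s1414 hG M hM
  have hN : IsPiHall (beta M) (piCore (beta M) ↥M) := by
    have := (CfsgLib.Coprime.piHallOf_iff.1 hβ).2
    rwa [piCoreOf, ← comap_subtype, comap_map_eq_self_of_injective M.subtype_injective] at this
  have hHM : H ≤ M := hH.1.trans (derived_le M)
  refine isNilpotent_map_of_hall hN (H := H.subgroupOf M) ⟨?_, ?_, ?_⟩ ?_
  · intro x hx
    obtain ⟨y, hy, e⟩ := (map_commutator_subtype M).ge (hH.1 (mem_subgroupOf.1 hx))
    rwa [← M.subtype_injective e]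
  · intro q hq hd
    exact hH.2.1 q hq (by rwa [CfsgLib.Base.card_subgroupOf hHM] at hd)
  · intro q hq hπ hd
    refine hH.2.2 q hq hπ ?_
    have h := relIndex_subgroupOf (H := H) (derived_le M)
    rw [show commutator ↥M = ⁅M, M⁆.subgroupOf M from (by
      rw [← map_commutator_subtype, ← comap_subtype,
        comap_map_eq_self_of_injective M.subtype_injective])] at hd
    rwa [h] at hd
  · haveI := hHn
    exact Group.nilpotent_of_mulEquiv (subgroupOfEquivOfLe hHM).symm

include hU hG hM in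
/-- As `centralizes_of_alpha`, for a `β(M)'`-group. -/
theorem centralizes_of_beta {P Q : Subgroup G} (hP : P ≤ ⁅M, M⁆) (hQ : Q ≤ ⁅M, M⁆)
    (hPQ : P ≤ normalizer (Q : Set G)) (hcop : (Nat.card P).Coprime (Nat.card Q))
    (hQβ : ∀ q : ℕ, q.Prime → q ∣ Nat.card Q → q ∉ beta M) : P ≤ centralizer (Q : Set G) := by
  rw [← map_commutator_subtype] at hP hQ
  refine le_centralizer_of_nilpotent_mod (N := piCore (beta M) M)
    (isNilpotent_derived_beta hU hG hM) hP hQ hPQ hcop ?_
  rw [inf_comm]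
  exact inf_eq_bot_of_primes (fun q hq hd => (betaCore_hallOf hU hG hM).2.1 q hq hd) hQβ

/-! ### Conjugates and disjointness -/

variable {L : Subgroup G} (hL : IsCoatom L)

omit hU hG hM hL in
theorem sigma_cj (g : G) (M : Subgroup G) : sigma (cj g M) = sigma M := sigma_map (MulAut.conj g) M

include hU hG hM in
/-- A `σ(M)`-subgroup with centraliser in `M` lies in no other conjugate of `M`. -/
theorem cj_eq_of_centralizer_le {p : ℕ} [Fact p.Prime] (hp : p ∈ sigma M) {X : Subgroup G}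
    (hX : IsPGroup p X) (hX1 : X ≠ ⊥) (hXM : X ≤ M) (hC : centralizer (X : Set G) ≤ M) {g : G}
    (hXg : X ≤ cj g M) : cj g M = M := by
  obtain ⟨c, hc, e⟩ := exists_centralizer_cj_eq hU.s1403 hG hM hp (Nat.card G) X
    (Nat.le_add_left _ _) hX hX1 1 g (by rwa [cj_one]) hXg
  rw [cj_one] at e
  rw [← e, cj_eq_self_of_mem (hC hc)]

include hU hG hM in
theorem cj_eq_of_normalizer_le {p : ℕ} [Fact p.Prime] (hp : p ∈ sigma M) {X : Subgroup G}
    (hX : IsPGroup p X) (hX1 : X ≠ ⊥) (hN : normalizer (X : Set G) ≤ M) {g : G}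
    (hXg : X ≤ cj g M) : cj g M = M :=
  cj_eq_of_centralizer_le hU hG hM hp hX hX1 (le_normalizer.trans hN)
    ((centralizer_le_normalizer _).trans hN) hXg

include hU hG hM hL in
/-- `σ(M)` and `α(L)` meet only for conjugate `M`, `L`. -/
theorem not_sigma_of_alpha {q : ℕ} (hqM : q ∈ sigma M) (hqL : q ∈ alpha L)
    (hne : ∀ g : G, L ≠ cj g M) : False := by
  haveI := Fact.mk hqM.1
  obtain ⟨T, hT⟩ := exists_sylIn (p := q) M
  obtain ⟨S, hS⟩ := exists_sylIn (p := q) L
  obtain ⟨g, -, hg⟩ := (sigma_sylIn_top (alpha_mem_sigma hU hG hL hqL) hS).exists_conj_eq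
    (sigma_sylIn_top hqM hT)
  have hu := inUniqueMaximal_of_pRank hU.s1403 hG hqM.1 (isPGroup_ne_top hG hS.isPGroup)
    fun h => hqL.2 ((pRankLE_iff_sylIn hS).2 h)
  exact hne g (eq_of_inUniqueMaximal hu hL hS.le (isCoatom_cj hM g) (hg ▸ cj_mono hT.le)).symm

include hG hM hL in
/-- If `M_σ` is nilpotent then `σ(M)` and `σ(L)` meet only for conjugate `M`, `L`. -/
theorem not_sigma_of_nilpotent (hU : Upstream.{u}) {q : ℕ} (hqM : q ∈ sigma M) (hqL : q ∈ sigma L)
    (hn : Group.IsNilpotent (sigmaCore M)) (hne : ∀ g : G, L ≠ cj g M) : False := by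
  haveI := Fact.mk hqM.1
  obtain ⟨T, hT⟩ := exists_sylIn (p := q) M
  obtain ⟨S, hS⟩ := exists_sylIn (p := q) L
  have hTs : SylIn q T (sigmaCore M) :=
    hT.mono (pGroup_le_sigmaCore hU hG hM hqM hT.isPGroup hT.le) (sigmaCore_le M)
  obtain ⟨P, hP⟩ := exists_sylow_of_sylIn hTs
  haveI := hn
  haveI hPn : (P : Subgroup (sigmaCore M)).Normal :=
    ((Group.isNilpotent_of_finite_tfae (G := sigmaCore M)).out 0 3 rfl rfl).1 hn q inferInstance P
  have hnT : M ≤ normalizer (T : Set G) := by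
    intro m hm
    refine mem_normalizer_iff_cj.2 ?_
    have h1 : SylIn q (cj m T) (sigmaCore M) := by
      have := hTs.cj' m
      rwa [mem_normalizer_iff_cj.1 (le_normalizer_sigmaCore M hm)] at this
    obtain ⟨k, hk, e⟩ := hTs.exists_conj_eq h1
    have hkT : cj k⁻¹ T = T := by
      refine mem_normalizer_iff_cj.1 ?_
      rw [← hP]
      exact Subgroup.le_normalizer_map _ ⟨⟨k⁻¹, inv_mem hk⟩, by rw [normalizer_eq_top]; trivial, rfl⟩
    calc cj m T = cj k⁻¹ (cj k (cj m T)) := (cj_inv_cj k _).symm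
      _ = T := by rw [e, hkT]
  have hNT := normalizer_eq_maximal hG hM hT.le (sylIn_ne_bot hT hqM.2.1) hnT
  obtain ⟨g, -, hg⟩ := (sigma_sylIn_top hqL hS).exists_conj_eq (sigma_sylIn_top hqM hT)
  have hle : cj g M ≤ L := by
    rw [← hNT, cj_normalizer, hg]
    exact sigma_normalizer_le hqL hS
  exact hne g (((isCoatom_cj hM g).le_iff.1 hle).resolve_left hL.1)

end CfsgLib.FT.BG13
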