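import Cfsg.Agent.Lib.FT.BG13.S136

/-!
Complements of `M_σ` normalising a Sylow subgroup, and groups with cyclic Sylow subgroups for two
primes.
-/

set_option autoImplicit false
set_option linter.style.haveILetI false

universe u

namespace CfsgLib.FT.BG13

open Cfsg CfsgLib.OddOrder CfsgLib.Techniques _root_.Subgroup
open scoped commutatorElement

variable {G : Type u} [Group G] [Finite G]
variable (hU : Upstream.{u}) (hG : IsMinSimpleOddOrder G) {M : Subgroup G} (hM : IsCoatom M)

include hU hG hM in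
/-- A Hall `σ(M)'`-subgroup is a complement of `M_σ`. -/
theorem compl_of_hall {E : Subgroup G}
    (hE : IsPiHallOf {q | q.Prime ∧ q ∉ sigma M} E M) : IsComplIn E (sigmaCore M) M := by
  refine ⟨hE.1, sigmaCore_le M, ?_, fun m hm => ?_⟩
  · rw [inf_comm]
    exact inf_sigmaCore_eq_bot hU hG hM fun q hq hd => (hE.2.1 q hq hd).2
  have hsup : M ≤ E ⊔ sigmaCore M := by
    refine relIndex_eq_one.1 (by_contra fun hne => ?_)
    obtain ⟨q, hq, hd⟩ := Nat.exists_prime_and_dvd hne
    by_cases hσ : q ∈ sigma M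
    · exact (sigmaCore_hallOf hU hG hM).2.2 q hq hσ
        (hd.trans (relIndex_dvd_of_le_left M le_sup_right))
    · exact hE.2.2 q hq ⟨hq, hσ⟩ (hd.trans (relIndex_dvd_of_le_left M le_sup_left))
  obtain ⟨a, ha, b, hb, rfl⟩ := (CfsgLib.Coprime.mem_sup_iff_of_le_normalizer
    (hE.1.trans (le_normalizer_sigmaCore M))).1 (hsup hm)
  exact ⟨a, ha, b, hb, rfl⟩

include hU hG hM in
/-- A complement of `M_σ` inside the normaliser of a Sylow subgroup of `M_σ`. -/
theorem exists_compl_normalizer {q : ℕ} [Fact q.Prime] {S : Subgroup G}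
    (hS : SylIn q S (sigmaCore M)) {Y : Subgroup G}
    (hY : Y ≤ M ⊓ normalizer (S : Set G))
    (hYσ : ∀ t : ℕ, t.Prime → t ∣ Nat.card Y → t ∉ sigma M) :
    ∃ E : Subgroup G, IsComplIn E (sigmaCore M) M ∧ Y ≤ E ∧ E ≤ normalizer (S : Set G) := by
  set K := M ⊓ normalizer (S : Set G) with hK
  set π : Set ℕ := {q | q.Prime ∧ q ∉ sigma M}
  haveI : Group.IsSolvable K := minSimple_solvable hG (ne_top_of_le_maximal hM inf_le_left)
  obtain ⟨H, hH, hYH⟩ := (CfsgLib.Coprime.hallD_of_solvable (G := K) π).exists_le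
    (U := Y.subgroupOf K) fun t ht hd =>
      ⟨ht, hYσ t ht (by rwa [CfsgLib.Base.card_subgroupOf hY] at hd)⟩
  have hHK := CfsgLib.Coprime.piHallOf_map_subtype hH
  have hYE : Y ≤ H.map K.subtype := by
    rw [← map_subgroupOf_eq_of_le hY]
    exact map_mono hYH
  refine ⟨H.map K.subtype, compl_of_hall hU hG hM ⟨hHK.1.trans inf_le_left, hHK.2.1,
    fun t ht hπ hd => ?_⟩, hYE, hHK.1.trans inf_le_right⟩
  -- Frattini argument
  have hKσ : M ≤ K ⊔ sigmaCore M := by
    intro m hm
    have hSM : S ≤ M := hS.le.trans (sigmaCore_le M)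
    have hm' : SylIn q (cj m S) (sigmaCore M) := by
      have := hS.cj' m
      rwa [mem_normalizer_iff_cj.1 (le_normalizer_sigmaCore M hm)] at this
    obtain ⟨c, hc, he⟩ := hS.exists_conj_eq hm'
    have h1 : c * m ∈ K :=
      ⟨mul_mem (sigmaCore_le M hc) hm, mem_normalizer_iff_cj.2 (by rw [cj_mul, he])⟩
    rw [show m = c⁻¹ * (c * m) by group]
    exact mul_mem (mem_sup_right (inv_mem hc)) (mem_sup_left h1)
  rw [← relIndex_mul_relIndex _ _ _ hHK.1 (inf_le_left : K ≤ M)] at hd
  rcases ht.dvd_mul.1 hd with h | h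
  · exact hHK.2.2 t ht hπ h
  · refine hπ.2 (sigmaCore_primes hU hG hM ht (h.trans ?_))
    have heq : K ⊔ sigmaCore M = M :=
      le_antisymm (sup_le inf_le_left (sigmaCore_le M)) hKσ
    have h2 := CfsgLib.Coprime.card_sup_mul_card_inf (H := K) (N := sigmaCore M)
      (inf_le_left.trans (le_normalizer_sigmaCore M))
    rw [heq] at h2
    have h3 : Nat.card K * K.relIndex M = Nat.card M := by
      rw [← relIndex_bot_left K, relIndex_mul_relIndex _ _ _ bot_le inf_le_left, relIndex_bot_left]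
    rw [← h3, mul_assoc] at h2
    exact Dvd.intro _ (Nat.eq_of_mul_eq_mul_left Nat.card_pos h2)

omit hU hG hM in
/-- In a group whose order has only the prime divisors `s < t`, with cyclic Sylow subgroups, the
subgroups of order `t` are normal. -/
theorem le_normalizer_of_two_primes {H : Subgroup G} {s t : ℕ} [hs : Fact s.Prime]
    [ht : Fact t.Prime] (hst : s < t)
    (hH : ∀ u : ℕ, u.Prime → u ∣ Nat.card H → u = s ∨ u = t)
    (hcs : ∀ T : Subgroup G, T ≤ H → IsPGroup s T → IsCyclic T)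
    (hct : ∀ T : Subgroup G, T ≤ H → IsPGroup t T → IsCyclic T) (hsH : s ∣ Nat.card H)
    {Y : Subgroup G} (hY : Nat.card Y = t) (hYH : Y ≤ H) : H ≤ normalizer (Y : Set G) := by
  have hmin : (Nat.card H).minFac = s := by
    have h1 : Nat.card H ≠ 1 := fun h => hs.out.not_dvd_one (h ▸ hsH)
    refine le_antisymm (Nat.minFac_le_of_dvd hs.out.two_le hsH) ?_
    rcases hH _ (Nat.minFac_prime h1) (Nat.minFac_dvd _) with h | h <;> omega
  obtain ⟨P⟩ : Nonempty (Sylow s H) := inferInstance
  have hPc : IsCyclic P := ((equivMapOfInjective (P : Subgroup H) H.subtype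
    H.subtype_injective).isCyclic).2 (hcs _ (map_subtype_le _) (P.isPGroup'.map _))
  set f := MonoidHom.transferSylow P (hPc.normalizer_le_centralizer hmin) with hf
  have hcompl := IsCyclic.isComplement' (P := P) hmin hPc
  rw [← hf] at hcompl
  obtain ⟨j, hj⟩ := P.isPGroup'.exists_card_eq
  have hker : ∀ y : H, orderOf y = t → y ∈ f.ker := by
    intro y hy
    rw [MonoidHom.mem_ker, ← orderOf_eq_one_iff]
    refine Nat.eq_one_of_dvd_coprimes (((Nat.coprime_primes ht.out hs.out).2 hst.ne').pow_right j)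
      (hy ▸ orderOf_map_dvd f y) (?_ : orderOf (f y) ∣ s ^ j)
    exact hj ▸ orderOf_dvd_natCard (f y)
  set K := f.ker.map H.subtype with hK
  have hKt : IsPGroup t K := by
    refine IsPGroup.of_card (n := (Nat.card K).primeFactorsList.length)
      (Nat.eq_prime_pow_of_unique_prime_dvd Nat.card_pos.ne' fun {u} hu hd => ?_)
    refine (hH u hu (hd.trans (card_dvd_of_le (map_subtype_le _)))).resolve_left fun h => ?_
    rw [hK, CfsgLib.Base.card_map_subtype, ← hcompl.index_eq_card] at hd
    exact P.not_dvd_index (h ▸ hd)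
  have hYK : Y ≤ K := by
    intro y hy
    rcases eq_or_ne y 1 with rfl | hy1
    · exact one_mem _
    refine ⟨⟨y, hYH hy⟩, hker _ ?_, rfl⟩
    rw [orderOf_mk]
    refine orderOf_eq_prime ?_ hy1
    have := congrArg Subtype.val (pow_card_eq_one' (x := (⟨y, hy⟩ : Y)))
    simpa [hY] using this
  refine le_normalizer_of_isCyclic (hct K (map_subtype_le _) hKt) hYK ?_
  intro a ha
  refine mem_normalizer_iff_cj.2 ?_
  have hn := Subgroup.le_normalizer_map (f := H.subtype) (H := f.ker)
  exact mem_normalizer_iff_cj.1 (hn ⟨⟨a, ha⟩, by rw [normalizer_eq_top]; trivial, rfl⟩)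

end CfsgLib.FT.BG13
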