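import Cfsg.Agent.Lib.FT.BG13.Kappa
import Cfsg.Agent.Lib.FT.BG12.SigmaDerived

/-!
Small facts on cyclic Sylow subgroups and on subgroups of complements of `M_σ`.
-/

set_option autoImplicit false
set_option linter.style.haveILetI false
set_option linter.unusedSectionVars false

universe u

namespace CfsgLib.FT.BG13

open Cfsg CfsgLib.OddOrder CfsgLib.Techniques _root_.Subgroup
open scoped commutatorElement

variable {G : Type u} [Group G] [Finite G]

theorem isMulCommutative_of_cyclic {C : Subgroup G} (hC : IsCyclic C) : IsMulCommutative C :=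
  haveI := hC
  inferInstance

/-- A group acting coprimely on a cyclic `q`-group that fixes a non-identity element of it
centralises it. -/
theorem le_centralizer_of_cyclic_pGroup {q : ℕ} [Fact q.Prime] {R S : Subgroup G}
    (hS : IsPGroup q S) (hc : IsCyclic S) (hRS : R ≤ normalizer (S : Set G))
    (hcop : (Nat.card R).Coprime (Nat.card S)) (hfix : S ⊓ centralizer (R : Set G) ≠ ⊥) :
    R ≤ centralizer (S : Set G) := by
  haveI := isMulCommutative_of_cyclic hc
  have hdisj := CfsgLib.Coprime.centralizer_inf_commutator_eq_bot hRS hcop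
  have hcS : ⁅S, R⁆ ≤ S := CfsgLib.Coprime.commutator_le_of_le_normalizer hRS
  refine le_centralizer_iff.1 (commutator_eq_bot_iff_le_centralizer.1 ?_)
  by_contra hne
  obtain ⟨t, ht, hd, Y, hY, hYc⟩ := exists_card_prime hne
  haveI := Fact.mk ht
  obtain rfl : t = q := eq_of_dvd_card_pGroup (hS.to_le hcS) ht hd
  have h := le_of_isCyclic (Y := S ⊓ centralizer (R : Set G)) hc (hY.trans hcS) inf_le_left hYc
    (dvd_of_pGroup_ne_bot (hS.to_le inf_le_left) hfix)
  exact ne_bot_of_card_prime hYc (le_bot_iff.1 (hdisj ▸ le_inf h hY))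

/-- The commutator of a group of prime order with a group moving it. -/
theorem commutator_eq_of_card_prime {p : ℕ} [hp : Fact p.Prime] {P R : Subgroup G}
    (hP : Nat.card P = p) (hRP : R ≤ normalizer (P : Set G))
    (h : ¬ R ≤ centralizer (P : Set G)) : ⁅P, R⁆ = P := by
  have hle := CfsgLib.Coprime.commutator_le_of_le_normalizer hRP
  rcases hp.out.eq_one_or_self_of_dvd _ (hP ▸ card_dvd_of_le hle) with h1 | h1
  · exact absurd (le_centralizer_iff.1
      (commutator_eq_bot_iff_le_centralizer.1 (eq_bot_of_card_eq _ h1))) h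
  · exact Subgroup.eq_of_le_of_card_ge hle (by rw [h1, hP])

theorem sylIn_of_hall' {π : Set ℕ} {H L T : Subgroup G} {p : ℕ} [hp : Fact p.Prime]
    (h : IsPiHallOf π H L) (hπ : p ∈ π) (hT : SylIn p T H) : SylIn p T L := by
  refine ⟨hT.le.trans h.1, hT.isPGroup, fun hd => ?_⟩
  rw [← relIndex_mul_relIndex T H L hT.le h.1] at hd
  rcases hp.out.dvd_mul.1 hd with h' | h'
  · exact hT.not_dvd h'
  · exact h.2.2 p hp.out hπ h'

variable (hU : Upstream.{u}) (hG : IsMinSimpleOddOrder G) {M : Subgroup G} (hM : IsCoatom M)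

include hU hG hM in
theorem coprime_sigmaCore {A : Subgroup G}
    (hA : ∀ t : ℕ, t.Prime → t ∣ Nat.card A → t ∉ sigma M) :
    (Nat.card A).Coprime (Nat.card (sigmaCore M)) :=
  Nat.coprime_of_dvd fun t ht h1 h2 => hA t ht h1 (sigmaCore_primes hU hG hM ht h2)

include hU hG hM in
theorem coprime_of_le_compl {E A : Subgroup G} (hE : IsComplIn E (sigmaCore M) M) (hA : A ≤ E) :
    (Nat.card A).Coprime (Nat.card (sigmaCore M)) :=
  coprime_sigmaCore hU hG hM fun _ ht hd =>
    compl_primes hU hG hM hE ht (hd.trans (card_dvd_of_le hA))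

include hU hG hM in
/-- A Sylow subgroup of `M_σ` meeting the situation of BG 12.14 is not cyclic. -/
theorem sylow_not_cyclic {q : ℕ} [hq : Fact q.Prime] {X S : Subgroup G} (hX : Nat.card X = q)
    (hXσ : X ≤ sigmaCore M) (h : q ∈ beta M ∨ X ≤ ⁅sigmaCore M, sigmaCore M⁆)
    (hS : SylIn q S (sigmaCore M)) : ¬ IsCyclic S := by
  intro hc
  have hqσ : q ∈ sigma M := sigmaCore_primes hU hG hM hq.out (hX ▸ card_dvd_of_le hXσ)
  have hSM := sylIn_of_hall' (sigmaCore_hallOf hU hG hM) hqσ hS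
  have hqα : q ∉ alpha M := fun hα => hα.2
    ((pRankLE_iff_sylIn hSM).2 (pRankLE_two_of_one hq.out (pRankLE_one_of_cyclic hc)))
  have hXd := h.resolve_left fun hβ => hqα (beta_subset_alpha hβ)
  obtain ⟨-, hnpc, -⟩ := (hU.s1414 hG M hM).2.2.2.2 q hq.out
    (hX ▸ card_dvd_of_le (hXσ.trans (sigmaCore_le M))) fun hβ => hqα (beta_subset_alpha hβ)
  obtain ⟨k, hk, hkX⟩ := hS.exists_conj (isPGroup_of_card_prime hX) hXσ
  haveI := isMulCommutative_of_cyclic hc
  have hkd : cj k X ≤ ⁅sigmaCore M, sigmaCore M⁆ := by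
    rw [← cj_eq_self_of_mem (g := k) (H := sigmaCore M) hk, ← cj_commutator]
    exact cj_mono hXd
  have h1 := (le_inf hkX hkd).trans (BG12.sylIn_inf_derived_le hS hnpc)
  rw [commutator_eq_bot_iff_le_centralizer.2 (le_centralizer_iff_isMulCommutative.2 inferInstance),
    le_bot_iff, cj_eq_bot_iff] at h1
  exact ne_bot_of_card_prime hX h1

include hU hG hM in
/-- A cyclic subgroup of a complement of `M_σ` lies in a conjugate by `C(R)` of another complement
containing `R`. -/
theorem exists_centralizer_compl {E E' R : Subgroup G} (hE : IsComplIn E (sigmaCore M) M)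
    (hE' : IsComplIn E' (sigmaCore M) M) (hRE : R ≤ E) (hRE' : R ≤ E') :
    ∃ a ∈ sigmaCore M ⊓ centralizer (R : Set G), cj a E' = E := by
  obtain ⟨a, ha, he⟩ := compl_conj hU hG hM hE' hE
  refine ⟨a, mem_inf.2 ⟨ha, mem_centralizer_iff.2 fun x hx => ?_⟩, he⟩
  have h1 : a * x * a⁻¹ ∈ E := he ▸ conj_mem_cj.2 (hRE' hx)
  have h2 : a * x * a⁻¹ * x⁻¹ ∈ E ⊓ sigmaCore M := by
    refine mem_inf.2 ⟨mul_mem h1 (inv_mem (hRE hx)), ?_⟩
    have h3 := (mem_normalizer_iff.1 ((hE.1.trans (le_normalizer_sigmaCore M)) (hRE hx)) a⁻¹).1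
      (inv_mem ha)
    have : a * x * a⁻¹ * x⁻¹ = a * (x * a⁻¹ * x⁻¹) := by group
    rw [this]
    exact mul_mem ha h3
  rw [hE.2.2.1, mem_bot] at h2
  have h4 : a * x * a⁻¹ = x := by rw [mul_inv_eq_one] at h2; exact h2
  exact (mul_inv_eq_iff_eq_mul.1 h4).symm

end CfsgLib.FT.BG13
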