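import Cfsg.Agent.Lib.FT.BG13.ZHat
import Cfsg.Agent.Lib.OddOrder.FrobeniusAction

/-!
BG 14.7, the counting argument: some vertex of `Z` is not of type `𝒫₁`, and then `K` or `K*` has
prime order.
-/

set_option autoImplicit false
set_option linter.style.haveILetI false
set_option linter.unusedSectionVars false

universe u

namespace CfsgLib.FT.BG13

open Cfsg CfsgLib.OddOrder CfsgLib.Techniques _root_.Subgroup
open scoped commutatorElement

variable {G : Type u} [Group G] [Finite G]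

/-- All primes of `N` are in `σ(N) ∪ κ(N)`. -/
def AllKappaSigma (N : Subgroup G) : Prop :=
  ∀ t : ℕ, t.Prime → t ∣ Nat.card N → t ∈ sigma N ∨ t ∈ kappa N

variable (hU : Upstream.{u}) (hG : IsMinSimpleOddOrder G)
variable {M N K : Subgroup G}

include hU hG in
theorem one_not_mem_tilde (hN : IsCoatom N) :
    (1 : G) ∉ tildeOf N ((sigmaCore N : Set G) \ {1}) := by
  rintro ⟨a, ha, r, hr, y, he⟩
  have har : a * r = 1 := conj_eq_one_iff.1 he.symm
  refine ha.2 (Set.mem_singleton_iff.2 ?_)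
  have ha1 : a ≠ 1 := fun e => ha.2 (Set.mem_singleton_iff.2 e)
  obtain ⟨p, hp, hd, -⟩ := exists_prime_le_zpowers ha1
  have hr' : r = a⁻¹ := eq_inv_of_mul_eq_one_right har
  exact absurd (orderOf_sigmaCore hU hG hN ha.1 hp hd)
    (supportR_prime_not_sigma hU hG hN ha.1 ha1 hr hp (by rw [hr', orderOf_inv]; exact hd))

include hU hG in
theorem card_of_allKappaSigma (hN : IsCoatom N) (hK : IsPiHallOf (kappa N) K N)
    (h : AllKappaSigma N) : Nat.card N = Nat.card K * Nat.card (sigmaCore N) := by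
  have hle : N ≤ K ⊔ sigmaCore N := le_of_sylows fun t ht hd => by
    haveI := Fact.mk ht
    rcases h t ht hd with h1 | h1
    · obtain ⟨T, hT⟩ := exists_sylIn (p := t) (sigmaCore N)
      exact ⟨T, sylIn_of_hall' (sigmaCore_hallOf hU hG hN) h1 hT, hT.le.trans le_sup_right⟩
    · obtain ⟨T, hT⟩ := exists_sylIn (p := t) K
      exact ⟨T, sylIn_of_hall' hK h1 hT, hT.le.trans le_sup_left⟩
  rw [← CfsgLib.Coprime.card_sup_of_inf_eq_bot (hK.1.trans (le_normalizer_sigmaCore N))
    (by rw [inf_comm]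
        exact inf_sigmaCore_eq_bot hU hG hN fun q hq hd => (hK.2.1 q hq hd).2.2.1)]
  exact congrArg (fun H : Subgroup G => Nat.card H)
    (le_antisymm hle (sup_le hK.1 (sigmaCore_le N)))

include hU hG in
theorem kstar_lt (hN : IsCoatom N) (hK : IsPiHallOf (kappa N) K N) (hK1 : K ≠ ⊥) :
    2 * Nat.card (kstar N K) ≤ Nat.card (sigmaCore N) := by
  obtain ⟨E, U, D⟩ := exists_kuData' hU hG hN hK hK1
  obtain ⟨p, hp, hd, -⟩ := exists_card_prime D.fixed
  haveI := Fact.mk hp
  obtain ⟨S⟩ : Nonempty (Sylow p ↥(sigmaCore N)) := inferInstance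
  obtain ⟨-, -, hne⟩ := sylow_kstar hU hG hN hK hK1 D hd S
  obtain ⟨j, hj⟩ : Nat.card (kstar N K) ∣ Nat.card (sigmaCore N) := card_dvd_of_le inf_le_left
  rcases j with _ | _ | j
  · exact absurd (by rw [hj, mul_zero]) (Nat.card_pos (α := ↥(sigmaCore N))).ne'
  · exfalso
    refine hne ((sylIn_sylow_map S).le.trans ?_)
    exact (Subgroup.eq_of_le_of_card_ge (inf_le_left : kstar N K ≤ sigmaCore N)
      (by rw [hj, zero_add, mul_one])).ge
  · rw [hj, mul_comm]
    exact Nat.mul_le_mul_left _ (by omega)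

include hU hG in
/-- BG 14.7: not every vertex is of type `𝒫₁`. -/
theorem exists_not_allKappaSigma (hM : IsCoatom M) (hK : IsPiHallOf (kappa M) K M) (hK1 : K ≠ ⊥) :
    ∃ N, IsVertex (K ⊔ kstar M K) N ∧ ¬ AllKappaSigma N := by
  classical
  by_contra hall
  push Not at hall
  haveI : Fintype G := Fintype.ofFinite G
  haveI : Fintype (Subgroup G) := Fintype.ofFinite _
  set Z := K ⊔ kstar M K with hZ
  set V : Finset (Subgroup G) := Finset.univ.filter fun N => IsVertex Z N with hV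
  have hmV : ∀ {N}, N ∈ V ↔ IsVertex Z N := by simp [hV]
  set W := conjSet (zHat Z) with hW
  set T : Subgroup G → Set G := fun N => tildeOf N ((sigmaCore N : Set G) \ {1}) with hT
  set b : Subgroup G → ℕ := fun N => Nat.card ↥(Z ⊓ sigmaCore N) with hb
  -- the two vertices
  have hMV : M ∈ V := hmV.2 ⟨hM, K, hK, hK1, rfl⟩
  obtain ⟨p, hp, hpd, X, hXK, hX⟩ := exists_card_prime hK1
  haveI := Fact.mk hp
  obtain ⟨L, hL, hN⟩ := exists_maximal_normalizer hG (isPGroup_of_card_prime hX)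
    (ne_bot_of_card_prime hX)
  have hLV : L ∈ V := hmV.2 (partner_isVertex hU hG hM hK hK1 hXK (hX.symm ▸ hp) hL hN)
  have hLM : L ≠ M := (partner_inter hU hG hM hK hK1 hXK (hX.symm ▸ hp) hL hN).1.ne
  have hV2 : 2 ≤ V.card := Finset.one_lt_card.2 ⟨L, hLV, M, hMV, hLM⟩
  -- each vertex
  have htilde : ∀ N ∈ V, (2 * b N - 1) * Nat.card G ≤ 2 * Nat.card Z * (T N).ncard := by
    intro N hNV
    obtain ⟨hNm, K', hK', hK'1, hZ'⟩ := hmV.1 hNV
    have hlt := kstar_lt hU hG hNm hK' hK'1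
    have hbN : b N = Nat.card (kstar N K') := by
      rw [hb]
      change Nat.card ↥(Z ⊓ sigmaCore N) = _
      rw [← hZ', inter_sigmaCore hU hG hNm hK']
    rw [hT]
    change _ ≤ 2 * Nat.card Z * (tildeOf N _).ncard
    rw [ncard_tilde hU hG hNm, ← N.card_mul_index,
      card_of_allKappaSigma hU hG hNm hK' (hall N (hmV.1 hNV)), hbN]
    rw [show Nat.card Z = Nat.card K' * Nat.card (kstar N K') by
      rw [← card_sup_kstar hU hG hNm hK', hZ']]
    have hb0 : 0 < Nat.card (kstar N K') := Nat.card_pos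
    generalize Nat.card (kstar N K') = c at hlt hb0
    generalize Nat.card (sigmaCore N) = s at hlt
    generalize Nat.card K' = k
    generalize N.index = i
    have h1 : (2 * c - 1) * s ≤ 2 * c * (s - 1) := by
      rw [Nat.sub_mul, Nat.mul_sub]
      omega
    calc (2 * c - 1) * (k * s * i) = (2 * c - 1) * s * (k * i) := by ring
      _ ≤ 2 * c * (s - 1) * (k * i) := Nat.mul_le_mul_right _ h1
      _ = 2 * (k * c) * ((s - 1) * i) := by ring
  -- the elements outside the `σ`-parts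
  have hzhat : Nat.card Z + V.card ≤ (zHat Z).ncard + 1 + ∑ N ∈ V, b N := by
    have hsub : (Z : Set G) ⊆
        zHat Z ∪ {1} ∪ ⋃ N ∈ V, ((↑(Z ⊓ sigmaCore N) : Set G) \ {1}) := by
      intro z hz
      by_cases h1 : z = 1
      · exact Or.inl (Or.inr h1)
      by_cases h2 : z ∈ zHat Z
      · exact Or.inl (Or.inl h2)
      obtain ⟨N, hN', hzN⟩ : ∃ N, IsVertex Z N ∧ z ∈ sigmaCore N := by
        by_contra h
        push Not at h
        exact h2 ⟨hz, h⟩
      exact Or.inr (Set.mem_biUnion (hmV.2 hN') ⟨mem_inf.2 ⟨hz, hzN⟩, h1⟩)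
    have h := (Set.ncard_le_ncard hsub).trans ((Set.ncard_union_le _ _).trans
      (Nat.add_le_add (Set.ncard_union_le _ _)
        (Finset.set_ncard_biUnion_le V fun N => ((↑(Z ⊓ sigmaCore N) : Set G) \ {1}))))
    rw [Set.ncard_singleton, ← Nat.card_coe_set_eq, SetLike.coe_sort_coe] at h
    have hsum : ∑ N ∈ V, ((↑(Z ⊓ sigmaCore N) : Set G) \ {1}).ncard + V.card = ∑ N ∈ V, b N := by
      rw [Finset.card_eq_sum_ones, ← Finset.sum_add_distrib]
      refine Finset.sum_congr rfl fun N _ => ?_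
      rw [Set.ncard_sdiff_singleton_add_one (one_mem _), ← Nat.card_coe_set_eq,
        SetLike.coe_sort_coe, hb]
    omega
  -- disjointness
  have hone : (W ∪ ⋃ N ∈ V, T N) ⊆ Set.univ \ {(1 : G)} := by
    rintro g (⟨y, z, hz, rfl⟩ | hg)
    · refine ⟨trivial, fun h => hz.2 M (hmV.1 hMV) ?_⟩
      rw [conj_eq_one_iff.1 (Set.mem_singleton_iff.1 h)]
      exact one_mem _
    · obtain ⟨N, hNV, hgN⟩ := Set.mem_iUnion₂.1 hg
      refine ⟨trivial, fun h => one_not_mem_tilde hU hG (hmV.1 hNV).1 ?_⟩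
      rw [Set.mem_singleton_iff.1 h] at hgN
      exact hgN
  have hdisj : Disjoint W (⋃ N ∈ V, T N) := by
    rw [Set.disjoint_left]
    rintro g ⟨y, z, hz, rfl⟩ hg
    obtain ⟨N, hNV, hgN⟩ := Set.mem_iUnion₂.1 hg
    exact zHat_not_tilde hU hG hM hK hK1 (hmV.1 hNV).1 hz hgN
  have hcount : W.ncard + ∑ N ∈ V, (T N).ncard + 1 ≤ Nat.card G := by
    have h := Set.ncard_le_ncard hone
    rw [Set.ncard_union_eq hdisj] at h
    have hu : (⋃ N ∈ V, T N).ncard = ∑ N ∈ V, (T N).ncard := by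
      have := (V.finite_toSet).ncard_biUnion (s := T) (fun _ _ => Set.toFinite _) (by
        intro i hi j hj hij
        exact tilde_disjoint hU hG (hmV.1 hi).1 (hmV.1 hj).1
          ((hmV.1 hi).pair hU hG (hmV.1 hj) hij.symm).1.nconj)
      rwa [finsum_mem_coe_finset] at this
    rw [hu] at h
    have h2 := Set.ncard_sdiff_singleton_add_one (Set.mem_univ (1 : G))
    rw [Set.ncard_univ] at h2
    omega
  have hsumT : (∑ N ∈ V, (2 * b N - 1)) * Nat.card G ≤
      2 * Nat.card Z * ∑ N ∈ V, (T N).ncard := by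
    rw [Finset.sum_mul, Finset.mul_sum]
    exact Finset.sum_le_sum htilde
  have hsum2 : ∑ N ∈ V, (2 * b N - 1) + V.card = 2 * ∑ N ∈ V, b N := by
    rw [Finset.card_eq_sum_ones, ← Finset.sum_add_distrib, Finset.mul_sum]
    refine Finset.sum_congr rfl fun N _ => ?_
    have : 0 < b N := Nat.card_pos
    omega
  have hWc : Nat.card Z * W.ncard = Nat.card G * (zHat Z).ncard := by
    rw [hW, hZ, ncard_conjSet hU hG hM hK hK1, ← hZ, ← mul_assoc, Z.card_mul_index]
  have h3 : 2 * Nat.card Z ≤ 2 * (zHat Z).ncard + ∑ N ∈ V, (2 * b N - 1) := by omega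
  have h4 : 2 * Nat.card Z * Nat.card G ≤
      2 * Nat.card Z * (W.ncard + ∑ N ∈ V, (T N).ncard) :=
    calc 2 * Nat.card Z * Nat.card G
        ≤ (2 * (zHat Z).ncard + ∑ N ∈ V, (2 * b N - 1)) * Nat.card G :=
          Nat.mul_le_mul_right _ h3
      _ = 2 * (Nat.card G * (zHat Z).ncard) + (∑ N ∈ V, (2 * b N - 1)) * Nat.card G := by ring
      _ ≤ 2 * (Nat.card Z * W.ncard) + 2 * Nat.card Z * ∑ N ∈ V, (T N).ncard := by
          rw [hWc]; exact Nat.add_le_add_left hsumT _
      _ = 2 * Nat.card Z * (W.ncard + ∑ N ∈ V, (T N).ncard) := by ring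
  have h5 := Nat.le_of_mul_le_mul_left h4 (Nat.mul_pos two_pos Nat.card_pos)
  omega

include hU hG in
/-- The consequences of `U ≠ 1` (BG 14.1 with BG 3.8). -/
theorem prime_of_not_allKappaSigma (hM : IsCoatom M) (hK : IsPiHallOf (kappa M) K M) (hK1 : K ≠ ⊥)
    (h : ¬ AllKappaSigma M) : (Nat.card K).Prime ∧ Group.IsNilpotent (sigmaCore M) := by
  obtain ⟨E, U, D⟩ := exists_kuData' hU hG hM hK hK1
  unfold AllKappaSigma at h
  push Not at h
  obtain ⟨t, ht, htd, htσ, htk⟩ := h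
  haveI := Fact.mk ht
  obtain ⟨T, hT⟩ := exists_sylIn (p := t) U
  have hTM := sylIn_of_hall' D.hallU ⟨ht, htk, htσ⟩ hT
  obtain ⟨S, hS⟩ := exists_sylow_of_sylIn hTM
  obtain ⟨-, hfix, hnil⟩ := stmtS1429_of hU hG M hM (fun hc => htk (hc t ht htd htσ)) t htd
    (by rintro (h | h); exacts [htσ h, htk h]) S
  have hCK : sigmaCore M ⊓ centralizer (U : Set G) = ⊥ := by
    refine le_bot_iff.1 (le_trans (inf_le_inf_left _ (centralizer_le ?_)) hfix.le)
    refine (closure_le _).2 fun x hx => ?_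
    exact hT.le (hS ▸ hx.1)
  refine ⟨(FrobeniusAction.main (K := U) (R := K) (M := sigmaCore M) hK1
    (D.K_le.trans D.normalU) D.free (sigmaCore_ne_bot hU.s1403 hG hM) hnil
    (D.hallU.1.trans (le_normalizer_sigmaCore M)) (hK.1.trans (le_normalizer_sigmaCore M)) ?_ hCK
    fun x hx hx1 => D.prime x hx hx1).1, hnil⟩
  exact coprime_of_le_compl hU hG hM D.compl (sup_le D.U_le D.K_le)

end CfsgLib.FT.BG13
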