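import Cfsg.Agent.Lib.FT.BG13.PartnersStmts

/-!
BG 14.10: every non-identity element is in some `Ã` or is conjugate to an element of `Ẑ`.
-/

set_option autoImplicit false
set_option linter.style.haveILetI false
set_option linter.unusedSectionVars false

universe u

namespace CfsgLib.FT.BG13

open Cfsg CfsgLib.OddOrder CfsgLib.Techniques _root_.Subgroup
open scoped commutatorElement

variable {G : Type u} [Group G] [Finite G]

/-- An element is the product of its parts for a set of primes and for the complementary set. -/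
theorem exists_parts (π : Set ℕ) (g : G) :
    ∃ x x' : G, g = x * x' ∧ Commute x x' ∧ x ∈ zpowers g ∧ x' ∈ zpowers g ∧
      (∀ p : ℕ, p.Prime → p ∣ orderOf x → p ∈ π) ∧
      ∀ p : ℕ, p.Prime → p ∣ orderOf x' → p ∉ π := by
  set C := zpowers g with hC
  haveI : IsMulCommutative C := isMulCommutative_of_cyclic inferInstance
  haveI : Group.IsSolvable C := inferInstance
  obtain ⟨H₁, h₁, -⟩ := (CfsgLib.Coprime.hallD_of_solvable (G := C) π).exists_le
    (U := (⊥ : Subgroup C)) (by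
      intro t ht hd
      rw [card_bot] at hd
      exact absurd (Nat.dvd_one.1 hd) ht.ne_one)
  obtain ⟨H₂, h₂, -⟩ := (CfsgLib.Coprime.hallD_of_solvable (G := C) πᶜ).exists_le
    (U := (⊥ : Subgroup C)) (by
      intro t ht hd
      rw [card_bot] at hd
      exact absurd (Nat.dvd_one.1 hd) ht.ne_one)
  have hA := CfsgLib.Coprime.piHallOf_map_subtype h₁
  have hB := CfsgLib.Coprime.piHallOf_map_subtype h₂
  set A := H₁.map C.subtype with hAdef
  set B := H₂.map C.subtype with hBdef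
  have hsup : C ≤ A ⊔ B := le_of_sylows fun t ht hd => by
    haveI := Fact.mk ht
    by_cases htπ : t ∈ π
    · obtain ⟨T, hT⟩ := exists_sylIn (p := t) A
      exact ⟨T, sylIn_of_hall' hA htπ hT, hT.le.trans le_sup_left⟩
    · obtain ⟨T, hT⟩ := exists_sylIn (p := t) B
      exact ⟨T, sylIn_of_hall' hB htπ hT, hT.le.trans le_sup_right⟩
  have hAn : A ≤ normalizer (B : Set G) :=
    (le_centralizer_of_le_commutative ‹_› hA.1 hB.1).trans (centralizer_le_normalizer _)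
  obtain ⟨a, ha, b, hb, hab⟩ :=
    (CfsgLib.Coprime.mem_sup_iff_of_le_normalizer hAn).1 (hsup (mem_zpowers g))
  refine ⟨a, b, hab.symm, ?_, hA.1 ha, hB.1 hb,
    fun p hp hd => hA.2.1 p hp (hd.trans (orderOf_dvd_natCard _ ha)),
    fun p hp hd => hB.2.1 p hp (hd.trans (orderOf_dvd_natCard _ hb))⟩
  exact (congrArg Subtype.val (mul_comm' (⟨a, hA.1 ha⟩ : C) ⟨b, hB.1 hb⟩) :)

variable (hU : Upstream.{u}) (hG : IsMinSimpleOddOrder G)

/-- `g` lies in some `Ã` or is, up to conjugation, the product of an element of `M_σ` and a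
commuting `κ(M)`-element. -/
def Covered (g : G) : Prop :=
  (∃ N : Subgroup G, IsCoatom N ∧ g ∈ tildeOf N ((sigmaCore N : Set G) \ {1})) ∨
    ∃ (M : Subgroup G) (y x x' : G), IsCoatom M ∧ g = y * (x * x') * y⁻¹ ∧ x ∈ sigmaCore M ∧
      x ≠ 1 ∧ x' ∈ M ∧ Commute x x' ∧ x' ≠ 1 ∧ ∀ p : ℕ, p.Prime → p ∣ orderOf x' → p ∈ kappa M

theorem Covered.conj {g : G} (w : G) (h : Covered g) : Covered (w * g * w⁻¹) := by
  rcases h with ⟨N, hN, a, ha, r, hr, y, rfl⟩ | ⟨M, y, x, x', hM, rfl, h⟩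
  · exact Or.inl ⟨N, hN, a, ha, r, hr, w * y, by group⟩
  · exact Or.inr ⟨M, w * y, x, x', hM, by group, h⟩

theorem Covered.of_conj {g : G} (w : G) (h : Covered (w * g * w⁻¹)) : Covered g := by
  have h1 := h.conj w⁻¹
  have e : w⁻¹ * (w * g * w⁻¹) * w⁻¹⁻¹ = g := by group
  rwa [e] at h1

include hU hG in
/-- The case of a product with both parts in `M`. -/
theorem covered_of_mem {M : Subgroup G} (hM : IsCoatom M) {x x' : G} (hx : x ∈ sigmaCore M)
    (hx1 : x ≠ 1) (hc : Commute x x') (hx'M : x' ∈ M)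
    (hσ : ∀ p : ℕ, p.Prime → p ∣ orderOf x' → p ∉ sigma M) : Covered (x * x') := by
  by_cases hx'1 : x' = 1
  · subst hx'1
    exact Or.inl ⟨M, hM, x, ⟨hx, fun h => hx1 (Set.mem_singleton_iff.1 h)⟩, 1, one_mem _, 1,
      by group⟩
  have hx'C : x' ∈ M ⊓ centralizer ({x} : Set G) :=
    mem_inf.2 ⟨hx'M, mem_centralizer_singleton'.2 hc.symm.eq⟩
  rcases fix_cases hU hG hM hx hx1 hx'C hx'1 hσ with ⟨hk, -⟩ | ⟨-, ⟨L, hL, hLσ⟩, hCM, hu⟩
  · exact Or.inr ⟨M, 1, x, x', hM, by group, hx, hx1, hx'M, hc, hx'1, hk⟩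
  have hne : zpowers x' ≠ ⊥ := fun h => hx'1 (zpowers_eq_bot.1 h)
  obtain ⟨h, hh⟩ := hU.s1425 hG L hL (zpowers x') hne fun p hp hd =>
    hLσ p hp (by rwa [Nat.card_zpowers] at hd)
  have hL' := isCoatom_cj hL h⁻¹
  have hx'L : x' ∈ sigmaCore (cj h⁻¹ L) := by
    rw [sigmaCore_cj, mem_cj, inv_inv]
    exact hh ⟨x', mem_zpowers x', rfl⟩
  have hnle : ¬ centralizer ({x'} : Set G) ≤ cj h⁻¹ L := fun hle => by
    obtain ⟨p, hp, hd, -⟩ := exists_prime_le_zpowers hx'1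
    exact hσ p hp hd (hu _ hL' hle ▸ orderOf_sigmaCore hU hG hL' hx'L hp hd)
  obtain ⟨N, D⟩ := exists_support hU hG hL' hx'L hx'1 hnle
  have hMN : M = N := D.uniq M hM hCM
  refine Or.inl ⟨cj h⁻¹ L, hL', x', ⟨hx'L, fun e => hx'1 (Set.mem_singleton_iff.1 e)⟩, x, ?_, 1,
    by rw [hc.eq]; group⟩
  rw [D.supportR_eq hU hG hL' hnle, ← hMN]
  exact mem_inf.2 ⟨hx, mem_centralizer_singleton'.2 hc.eq⟩

include hU hG in
theorem covered {g : G} (hg : g ≠ 1) : Covered g := by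
  obtain ⟨p, hp, hpd, -⟩ := exists_prime_le_zpowers hg
  haveI := Fact.mk hp
  obtain ⟨S, hS⟩ : ∃ S : Subgroup G, SylIn p S ⊤ := exists_sylIn ⊤
  have hSd : p ∣ Nat.card (⊤ : Subgroup G) := hpd.trans (orderOf_dvd_natCard _ (mem_top g))
  obtain ⟨M, hM, hNM⟩ := exists_maximal_normalizer hG hS.isPGroup (sylIn_ne_bot hS hSd)
  have hSM : SylIn p S M := hS.mono (le_normalizer.trans hNM) le_top
  have hpM : p ∈ sigma M := (mem_sigma_iff hSM).2
    ⟨(dvd_of_pGroup_ne_bot hS.isPGroup (sylIn_ne_bot hS hSd)).trans (card_dvd_of_le hSM.le), hNM⟩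
  obtain ⟨x₀, x₀', hgx, hc₀, -, -, hxσ, hx'σ⟩ := exists_parts (sigma M) g
  have hx₀1 : x₀ ≠ 1 := fun h => hx'σ p hp (by rwa [hgx, h, one_mul] at hpd) hpM
  obtain ⟨y, hy⟩ := hU.s1425 hG M hM (zpowers x₀) (fun h => hx₀1 (zpowers_eq_bot.1 h))
    fun q hq hd => hxσ q hq (by rwa [Nat.card_zpowers] at hd)
  refine Covered.of_conj y ?_
  set x := y * x₀ * y⁻¹ with hxdef
  set x' := y * x₀' * y⁻¹ with hx'def
  have hx : x ∈ sigmaCore M := hy ⟨x₀, mem_zpowers x₀, rfl⟩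
  have hx1 : x ≠ 1 := fun h => hx₀1 (conj_eq_one_iff.1 h)
  have ho : orderOf x' = orderOf x₀' := by
    rw [hx'def, ← MulAut.conj_apply, MulEquiv.orderOf_eq]
  have hc : Commute x x' := hc₀.map (MulAut.conj y).toMonoidHom
  have hσ : ∀ q : ℕ, q.Prime → q ∣ orderOf x' → q ∉ sigma M := fun q hq hd =>
    hx'σ q hq (ho ▸ hd)
  rw [show y * g * y⁻¹ = x * x' by rw [hgx, hxdef, hx'def]; group]
  by_cases hx'M : x' ∈ M
  · exact covered_of_mem hU hG hM hx hx1 hc hx'M hσ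
  have hx'C : x' ∈ centralizer ({x} : Set G) := mem_centralizer_singleton'.2 hc.symm.eq
  have hxM : ¬ centralizer ({x} : Set G) ≤ M := fun h => hx'M (h hx'C)
  obtain ⟨N, D⟩ := exists_support hU hG hM hx hx1 hxM
  obtain ⟨u, w, huw, hcuw, huz, hwz, huσ, hwσ⟩ := exists_parts (sigma N) x'
  by_cases hw1 : w = 1
  · refine Or.inl ⟨M, hM, x, ⟨hx, fun h => hx1 (Set.mem_singleton_iff.1 h)⟩, x', ?_, 1, by group⟩
    rw [D.supportR_eq hU hG hM hxM]
    refine mem_inf.2 ⟨mem_sigmaCore_of_orderOf hU hG D.maxN (D.le hx'C) fun q hq hd => ?_, hx'C⟩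
    rw [huw, hw1, mul_one] at hd
    exact huσ q hq hd
  set C := centralizer ({x} : Set G) with hCdef
  have hzC : zpowers w ≤ C := (zpowers_le.2 hwz).trans (zpowers_le.2 hx'C)
  have hle : C ≤ (sigmaCore N ⊓ C) ⊔ (M ⊓ C) := fun c hc' => by
    obtain ⟨a, ha, b, hb, rfl⟩ := D.complC.2.2.2 c hc'
    exact mul_mem ((le_sup_right : M ⊓ C ≤ _) ha) ((le_sup_left : sigmaCore N ⊓ C ≤ _) hb)
  have hn : M ⊓ C ≤ normalizer ((sigmaCore N ⊓ C : Subgroup G) : Set G) :=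
    inf_le_right.trans (CfsgLib.Coprime.le_normalizer_inf_inf
      (D.le.trans (le_normalizer_sigmaCore N)) le_normalizer)
  have hcop : (Nat.card ↥(sigmaCore N ⊓ C)).Coprime (Nat.card ↥(M ⊓ C)) := by
    refine ((coprime_sigmaCore hU hG D.maxN fun t ht hd h => ?_).coprime_dvd_right
      (card_dvd_of_le inf_le_left)).symm
    haveI := Fact.mk ht
    obtain ⟨v, hv⟩ := exists_prime_orderOf_dvd_card' t hd
    have hV : Nat.card (zpowers (v : G)) = t := by rw [Nat.card_zpowers, orderOf_coe, hv]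
    have hVle : zpowers (v : G) ≤ M ⊓ N :=
      zpowers_le.2 (mem_inf.2 ⟨(mem_inf.1 v.2).1, D.le (mem_inf.1 v.2).2⟩)
    exact ne_bot_of_card_prime hV (le_bot_iff.1 (D.compl.2.2.1 ▸ le_inf hVle
      (pGroup_le_sigmaCore hU hG D.maxN h (isPGroup_of_card_prime hV)
        (hVle.trans inf_le_right))))
  have hcopU : (Nat.card ↥(sigmaCore N ⊓ C)).Coprime (Nat.card (zpowers w)) := by
    refine ((coprime_sigmaCore hU hG D.maxN fun t ht hd => hwσ t ht ?_).coprime_dvd_right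
      (card_dvd_of_le inf_le_left)).symm
    rwa [Nat.card_zpowers] at hd
  obtain ⟨a, ha, hae⟩ := CfsgLib.Coprime.sz_conj_le hn (hzC.trans hle) hcop hcopU
    (Or.inr (minSimple_solvable hG (ne_top_of_le_maximal D.maxN (hzC.trans D.le))))
  rw [CfsgLib.Coprime.conj_smul_eq_map] at hae
  have haC : a ∈ C := (mem_inf.1 ha).2
  have hw'M : a * w * a⁻¹ ∈ M ⊓ C := hae ⟨w, mem_zpowers w, rfl⟩
  refine Covered.of_conj a ?_
  have hax : a * x * a⁻¹ = x :=
    mul_inv_eq_iff_eq_mul.2 (mem_centralizer_singleton'.1 haC)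
  rw [show a * (x * x') * a⁻¹ = x * (a * x' * a⁻¹) by
    rw [show a * (x * x') * a⁻¹ = a * x * a⁻¹ * (a * x' * a⁻¹) by group, hax]]
  have hw'1 : a * w * a⁻¹ ≠ 1 := fun h => hw1 (conj_eq_one_iff.1 h)
  have how : orderOf (a * w * a⁻¹) = orderOf w := by
    rw [← MulAut.conj_apply, MulEquiv.orderOf_eq]
  have hoa : orderOf (a * x' * a⁻¹) = orderOf x' := by
    rw [← MulAut.conj_apply, MulEquiv.orderOf_eq]
  have hdvd : orderOf w ∣ orderOf x' := by
    have h1 := orderOf_dvd_natCard (zpowers x') hwz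
    rwa [Nat.card_zpowers] at h1
  rcases fix_cases hU hG hM hx hx1 hw'M hw'1
    (fun q hq hd => hσ q hq ((how ▸ hd).trans hdvd)) with ⟨-, hle'⟩ | ⟨-, -, hCM, -⟩
  · exact absurd hle' hxM
  refine covered_of_mem hU hG hM hx hx1 ?_ (hCM ?_) fun q hq hd => hσ q hq (hoa ▸ hd)
  · have := hc.map (MulAut.conj a).toMonoidHom
    change Commute (a * x * a⁻¹) (a * x' * a⁻¹) at this
    rwa [hax] at this
  · have hcw : Commute w x' := by
      rw [huw]
      exact hcuw.symm.mul_right (Commute.refl w)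
    exact mem_centralizer_singleton'.2 ((hcw.map (MulAut.conj a).toMonoidHom).symm.eq)

include hU hG in
/-- A product `x x'` with `x ∈ M_σ` and `x'` a commuting `κ(M)`-element is conjugate to an element
outside both factors of `Z`. -/
theorem exists_zHat_conj {M K : Subgroup G} (hM : IsCoatom M) (hK : IsPiHallOf (kappa M) K M)
    (hK1 : K ≠ ⊥) {x x' : G} (hx : x ∈ sigmaCore M) (hx1 : x ≠ 1) (hx'M : x' ∈ M)
    (hc : Commute x x') (hx'1 : x' ≠ 1)
    (hk : ∀ p : ℕ, p.Prime → p ∣ orderOf x' → p ∈ kappa M) :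
    ∃ w : G, w * (x * x') * w⁻¹ ∈
      (↑(K ⊔ kstar M K) : Set G) \ ((K : Set G) ∪ ↑(kstar M K)) := by
  obtain ⟨E, U, D⟩ := exists_kuData' hU hG hM hK hK1
  haveI : Group.IsSolvable M := minSimple_solvable hG (ne_top_of_le_maximal hM le_rfl)
  obtain ⟨m, hm⟩ := (CfsgLib.Coprime.hallD_of_solvable (G := M) (kappa M)).conj_le
    (U := (zpowers x').subgroupOf M) (fun t ht hd => hk t ht
      (by rwa [CfsgLib.Base.card_subgroupOf (zpowers_le.2 hx'M), Nat.card_zpowers] at hd))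
    (CfsgLib.Coprime.piHallOf_iff.1 hK).2
  have hkK : (m : G) * x' * (m : G)⁻¹ ∈ K := by
    have h := hm ⟨⟨x', hx'M⟩, mem_subgroupOf.2 (mem_zpowers x'), rfl⟩
    rw [mem_subgroupOf] at h
    exact h
  have hk1 : (m : G) * x' * (m : G)⁻¹ ≠ 1 := fun h => hx'1 (conj_eq_one_iff.1 h)
  have hsσ : (m : G) * x * (m : G)⁻¹ ∈ sigmaCore M :=
    (mem_normalizer_iff.1 (le_normalizer_sigmaCore M m.2) x).1 hx
  have hs1 : (m : G) * x * (m : G)⁻¹ ≠ 1 := fun h => hx1 (conj_eq_one_iff.1 h)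
  have hs : (m : G) * x * (m : G)⁻¹ ∈ kstar M K := by
    rw [← D.prime _ hkK hk1]
    exact mem_inf.2 ⟨hsσ, mem_centralizer_singleton'.2 (hc.map (MulAut.conj (m : G)).toMonoidHom).eq⟩
  have hbot := inf_kstar_eq_bot hU hG hM hK
  refine ⟨m, ?_⟩
  rw [show (m : G) * (x * x') * (m : G)⁻¹ =
    (m : G) * x * (m : G)⁻¹ * ((m : G) * x' * (m : G)⁻¹) by group]
  refine ⟨mul_mem ((le_sup_right : kstar M K ≤ K ⊔ kstar M K) hs)
    ((le_sup_left : K ≤ K ⊔ kstar M K) hkK), ?_⟩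
  rintro (h | h)
  · have h2 : (m : G) * x * (m : G)⁻¹ ∈ K ⊓ kstar M K :=
      mem_inf.2 ⟨(K.mul_mem_cancel_right hkK).1 h, hs⟩
    rw [hbot, mem_bot] at h2
    exact hs1 h2
  · have h2 : (m : G) * x' * (m : G)⁻¹ ∈ K ⊓ kstar M K :=
      mem_inf.2 ⟨hkK, ((kstar M K).mul_mem_cancel_left hs).1 h⟩
    rw [hbot, mem_bot] at h2
    exact hk1 h2

include hU in
theorem stmtS1379_of : StmtS1379.{u} := by
  intro G _ _ hG
  refine ⟨fun M N hM hN hnc => Set.disjoint_iff_inter_eq_empty.1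
    (tilde_disjoint hU hG hM hN hnc), fun hκ g hg => ?_, fun M K U hM hKU hK1 => ?_⟩
  · rcases covered hU hG hg with h | ⟨M, y, x, x', hM, -, -, -, -, -, hx'1, hk⟩
    · exact h
    · obtain ⟨p, hp, hd, -⟩ := exists_prime_le_zpowers hx'1
      exact absurd (hk p hp hd) (by rw [hκ M hM]; simp)
  obtain ⟨L, D⟩ := exists_partners hU hG hM hKU.hall hK1
  refine ⟨fun g hg => ?_, fun N hN y z hz => ?_⟩
  · rcases covered hU hG hg with h | ⟨H, y, x, x', hH, rfl, hx, hx1, hx'M, hc, hx'1, hk⟩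
    · exact Or.inl h
    refine Or.inr ?_
    obtain ⟨p, hp, hd, -⟩ := exists_prime_le_zpowers hx'1
    obtain ⟨c, hc'⟩ := (stmtS1369_of hU hG M hM K U hKU hK1 L D.maxL D.kstarL.symm D.hallL).2 H hH
      ⟨p, hk p hp hd⟩
    have hconj : ∀ T : Subgroup G, IsCoatom T → H = cj c T →
        c⁻¹ * x * c ∈ sigmaCore T ∧ c⁻¹ * x * c ≠ 1 ∧ c⁻¹ * x' * c ∈ T ∧
          Commute (c⁻¹ * x * c) (c⁻¹ * x' * c) ∧ c⁻¹ * x' * c ≠ 1 ∧
          ∀ q : ℕ, q.Prime → q ∣ orderOf (c⁻¹ * x' * c) → q ∈ kappa T := by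
      intro T _ hT
      subst hT
      rw [sigmaCore_cj, mem_cj] at hx
      refine ⟨hx, fun e => hx1 ?_, mem_cj.1 hx'M, ?_, fun e => hx'1 ?_, fun q hq hd => ?_⟩
      · simpa [mul_assoc] using congrArg (fun z => c * z * c⁻¹) e
      · have h1 : c⁻¹ * x * c * (c⁻¹ * x' * c) = c⁻¹ * (x * x') * c := by group
        have h2 : c⁻¹ * x' * c * (c⁻¹ * x * c) = c⁻¹ * (x' * x) * c := by group
        unfold Commute SemiconjBy
        rw [h1, h2, hc.eq]
      · simpa [mul_assoc] using congrArg (fun z => c * z * c⁻¹) e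
      · have ho : orderOf (c⁻¹ * x' * c) = orderOf x' := by
          rw [show c⁻¹ * x' * c = MulAut.conj c⁻¹ x' by simp, MulEquiv.orderOf_eq]
        have h3 := hk q hq (ho ▸ hd)
        rwa [kappa_map (MulAut.conj c)] at h3
    rcases hc' with h | h
    · obtain ⟨h1, h2, h3, h4, h5, h6⟩ := hconj M hM h
      obtain ⟨w, hw⟩ := exists_zHat_conj hU hG hM hKU.hall hK1 h1 h2 h3 h4 h5 h6
      exact ⟨y * c * w⁻¹, _, hw, by group⟩
    · obtain ⟨h1, h2, h3, h4, h5, h6⟩ := hconj L D.maxL h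
      obtain ⟨w, hw⟩ := exists_zHat_conj hU hG D.maxL D.hallL
        (fun e => D.pair.left_ne (D.sideM.trans e)) h1 h2 h3 h4 h5 h6
      rw [D.kstarL, sup_comm, Set.union_comm] at hw
      exact ⟨y * c * w⁻¹, _, hw, by group⟩
  · rw [← D.zHat_eq hU hG hM hKU.hall hK1] at hz
    exact zHat_not_tilde hU hG hM hKU.hall hK1 hN hz

end CfsgLib.FT.BG13
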