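import Cfsg.Agent.Lib.FT.BG12.UpstreamThirteen
import Cfsg.Agent.Lib.FT.BG11.Discharge
import Cfsg.Agent.Lib.FT.Discharge10
import Cfsg.Agent.Lib.FT.Discharge1395
import Cfsg.Agent.S1448

/-!
Discharge of what sections 12 to 14 assume.
-/

set_option autoImplicit false

universe u

namespace CfsgLib.FT.BG13

theorem stmtS1448' : StmtS1448.{u} :=
  fun {_} _ _ p _ hp R A hR hR1 hr hA hcop hodd hRA =>
    Cfsg.Agent.S1448.result p hp R A hR hR1 hr hA hcop hodd hRA

/-- The inputs of section 12. -/
theorem up : BG12.Up.{u} := BG12.up_of stmtS1403 stmtS1395 stmtS1448' stmtS1453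

/-- The inputs of sections 13 and 14. -/
theorem upstream : Upstream.{u} := BG12.upstream_thirteen up

end CfsgLib.FT.BG13
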