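import Cfsg.Agent.Lib.FT.BG13.General
import Cfsg.Agent.Lib.FT.BG13.FixedPointPrime
import Cfsg.Agent.Lib.OddOrder.SmallRank

/-!
Coprime actions with cyclic fixed points.
-/

set_option autoImplicit false
set_option linter.style.haveILetI false

namespace CfsgLib.FT.BG13

open Cfsg CfsgLib.Techniques Subgroup
open scoped commutatorElement

variable {G : Type*} [Group G] [Finite G]

/-- If `[V, Q] = V` for a coprime action on the `p`-group `V` then `Q` fixes no element of `V`
outside the Frattini subgroup. -/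
theorem mem_frattini_of_commutator_eq {p : ℕ} [Fact p.Prime] {Q V : Subgroup G} (hV : IsPGroup p V)
    (hQV : Q ≤ normalizer (V : Set G)) (hcop : (Nat.card Q).Coprime p) (hcomm : ⁅V, Q⁆ = V)
    {y : V} (hy : (y : G) ∈ centralizer (Q : Set G)) : y ∈ frattini V := by
  classical
  letI : CommGroup (V ⧸ frattini V) :=
    { (inferInstance : Group (V ⧸ frattini V)) with
      mul_comm := fun a b => by
        induction a using QuotientGroup.induction_on with
        | H a =>
        induction b using QuotientGroup.induction_on with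
        | H b =>
        rw [← QuotientGroup.mk_mul, ← QuotientGroup.mk_mul, QuotientGroup.eq]
        refine CfsgLib.PGroups.commutator_le_frattini hV ?_
        have : (a * b)⁻¹ * (b * a) = ⁅b⁻¹, a⁻¹⁆ := by simp only [commutatorElement_def]; group
        rw [this]
        exact commutator_mem_commutator (mem_top _) (mem_top _) }
  letI : Fintype Q := Fintype.ofFinite Q
  let act : Q → V →* V := fun a => (V.normalizerMonoidHom ⟨a, hQV a.2⟩).toMonoidHom
  have hact : ∀ (a : Q) (v : V), (act a v : G) = a * v * (a : G)⁻¹ := fun _ _ => rfl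
  let θ : V →* V ⧸ frattini V := ∏ a : Q, (QuotientGroup.mk' (frattini V)).comp (act a)
  have hθ : ∀ (b : Q) (v : V), θ (act b v) = θ v := by
    intro b v
    simp only [θ, MonoidHom.finsetProd_apply]
    refine Fintype.prod_equiv (Equiv.mulRight b) _ _ fun a => ?_
    simp only [MonoidHom.comp_apply, Equiv.coe_mulRight]
    congr 1
    exact Subtype.ext (by simp [hact, mul_assoc])
  have hker : V ≤ θ.ker.map V.subtype := by
    conv_lhs => rw [← hcomm]
    rw [commutator_le]
    intro v hv a ha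
    refine ⟨⟨v, hv⟩ * act ⟨a, ha⟩ ⟨v, hv⟩⁻¹, ?_, ?_⟩
    · rw [SetLike.mem_coe, MonoidHom.mem_ker, map_mul, hθ, ← map_mul, mul_inv_cancel, map_one]
    · simp [hact, commutatorElement_def, mul_assoc]
  obtain ⟨w, hw, hwy⟩ := hker y.2
  obtain rfl : w = y := Subtype.ext hwy
  have hfix : θ w = (QuotientGroup.mk' (frattini V) w) ^ Nat.card Q := by
    rw [Nat.card_eq_fintype_card, ← Finset.card_univ, ← Finset.prod_const]
    simp only [θ, MonoidHom.finsetProd_apply]
    refine Finset.prod_congr rfl fun a _ => congrArg (QuotientGroup.mk' (frattini V)) (Subtype.ext ?_)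
    rw [hact, mem_centralizer_iff.1 hy a a.2, mul_inv_cancel_right]
  rw [SetLike.mem_coe, MonoidHom.mem_ker, hfix] at hw
  have hp : QuotientGroup.mk' (frattini V) w ^ p = 1 := by
    rw [← map_pow, QuotientGroup.mk'_apply, QuotientGroup.eq_one_iff]
    exact CfsgLib.PGroups.pow_mem_frattini hV w
  have := pow_gcd_eq_one.2 ⟨hw, hp⟩
  rw [hcop.gcd_eq_one, pow_one, QuotientGroup.mk'_apply, QuotientGroup.eq_one_iff] at this
  exact this

/-- A group `Q = [Q, R]` acting on a cyclic group normalised by `R` acts trivially. -/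
theorem le_centralizer_of_isCyclic {Q R C : Subgroup G} (hC : IsCyclic C)
    (hQC : Q ≤ normalizer (C : Set G)) (hRC : R ≤ normalizer (C : Set G)) (hQR : ⁅Q, R⁆ = Q) :
    Q ≤ centralizer (C : Set G) := by
  rw [← hQR, commutator_le]
  intro q hq a ha
  refine mem_centralizer_iff.2 fun c hc => ?_
  haveI := hC
  obtain ⟨⟨g, hg⟩, hgen⟩ := IsCyclic.exists_generator (α := C)
  have key : ∀ x ∈ normalizer (C : Set G), ∀ y ∈ normalizer (C : Set G),
      ⁅x, y⁆ * g * ⁅x, y⁆⁻¹ = g := by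
    intro x hx y hy
    have hz : ∀ z ∈ normalizer (C : Set G), ∃ m : ℤ, z * g * z⁻¹ = g ^ m := fun z hz => by
      obtain ⟨m, hm⟩ := mem_zpowers_iff.1 (hgen ⟨z * g * z⁻¹, (mem_normalizer_iff.1 hz g).1 hg⟩)
      exact ⟨m, by simpa using (congrArg Subtype.val hm).symm⟩
    obtain ⟨m, hm⟩ := hz x hx
    obtain ⟨n, hn⟩ := hz y hy
    have e1 : x * y * g * (x * y)⁻¹ = g ^ (m * n) := by
      calc x * y * g * (x * y)⁻¹ = x * (y * g * y⁻¹) * x⁻¹ := by group
        _ = g ^ (m * n) := by rw [hn, ← conj_zpow, hm, zpow_mul]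
    have e2 : y * x * g * (y * x)⁻¹ = g ^ (m * n) := by
      calc y * x * g * (y * x)⁻¹ = y * (x * g * x⁻¹) * y⁻¹ := by group
        _ = g ^ (m * n) := by rw [hm, ← conj_zpow, hn, ← zpow_mul, mul_comm]
    have e3 : (y * x)⁻¹ * (g ^ (m * n)) * (y * x) = g := by rw [← e2]; group
    calc ⁅x, y⁆ * g * ⁅x, y⁆⁻¹
        = x * y * ((y * x)⁻¹ * g * (y * x)) * (x * y)⁻¹ := by
          simp only [commutatorElement_def]; group
      _ = g := by
          have h4 : (y * x)⁻¹ * g * (y * x) ∈ C := by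
            have := (mem_normalizer_iff''.1 (mul_mem hy hx) g).1 hg
            simpa using this
          obtain ⟨l, hl⟩ := mem_zpowers_iff.1 (hgen ⟨_, h4⟩)
          have hl' : g ^ l = (y * x)⁻¹ * g * (y * x) := by simpa using congrArg Subtype.val hl
          rw [← hl', ← conj_zpow, e1, ← zpow_mul, mul_comm, zpow_mul, hl']
          calc ((y * x)⁻¹ * g * (y * x)) ^ (m * n)
              = ((y * x)⁻¹ * g * ((y * x)⁻¹)⁻¹) ^ (m * n) := by rw [inv_inv]
            _ = (y * x)⁻¹ * g ^ (m * n) * (y * x) := by rw [conj_zpow, inv_inv]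
            _ = g := e3
  obtain ⟨l, hl⟩ := mem_zpowers_iff.1 (hgen ⟨c, hc⟩)
  have hl' : g ^ l = c := by simpa using congrArg Subtype.val hl
  have := congrArg (· ^ l) (key q (hQC hq) a (hRC ha))
  simp only [conj_zpow, hl'] at this
  exact (mul_inv_eq_iff_eq_mul.1 this).symm

/-- If `R` of prime order normalises `Q = [Q, R]`, both act coprimely on the `p`-group `S`,
`C_S(R)` is cyclic and `QR` centralises an element of order `p` of `S`, then `Q` centralises `S`. -/
theorem le_centralizer_of_cyclic_fix {R Q S : Subgroup G} {p r : ℕ} [hp : Fact p.Prime]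
    (hp2 : p ≠ 2) (hr : r.Prime) (hR : Nat.card R = r) (hS : IsPGroup p S) (hrp : r ≠ p)
    (hRS : R ≤ normalizer (S : Set G)) (hQS : Q ≤ normalizer (S : Set G))
    (hRQ : R ≤ normalizer (Q : Set G)) (hQs : Group.IsSolvable Q) (hodd : Odd (Nat.card Q))
    (hrQ : ¬ r ∣ Nat.card Q) (hpQ : ¬ p ∣ Nat.card Q) (hQR : ⁅Q, R⁆ = Q)
    (hcyc : IsCyclic ↥(S ⊓ centralizer (R : Set G))) {x : G} (hx : x ∈ S) (hxp : orderOf x = p)
    (hxR : x ∈ centralizer (R : Set G)) (hxQ : x ∈ centralizer (Q : Set G)) :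
    Q ≤ centralizer (S : Set G) := by
  haveI := hQs
  obtain ⟨D, hDS, hDexp, -, hND, hdet⟩ := CfsgLib.OddOrder.exists_detecting hp2 S hS
  have hQD : Q ≤ normalizer (D : Set G) := hQS.trans hND
  have hcopQp : (Nat.card Q).Coprime p := (Nat.Coprime.symm (hp.out.coprime_iff_not_dvd.2 hpQ))
  suffices h : Q ≤ centralizer (D : Set G) from fun a ha =>
    hdet a (hQS ha) (hcopQp.coprime_dvd_left (Subgroup.orderOf_dvd_natCard Q ha)) (h ha)
  set D₁ := ⁅D, Q⁆ with hD₁
  have hD₁D : D₁ ≤ D := CfsgLib.Coprime.commutator_le_of_le_normalizer hQD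
  have hDp : IsPGroup p D := hS.to_le hDS
  have hcopD : (Nat.card Q).Coprime (Nat.card D) := by
    obtain ⟨j, hj⟩ := IsPGroup.iff_card.1 hDp
    exact hj ▸ hcopQp.pow_right j
  have hD₁₁ : ⁅D₁, Q⁆ = D₁ := CfsgLib.Coprime.commutator_commutator_eq hQD hcopD (Or.inl hQs)
  have hD₁p : IsPGroup p D₁ := hDp.to_le hD₁D
  have hQD₁ : Q ≤ normalizer (D₁ : Set G) := normalizer_commutator_ge_right D Q
  have hRD₁ : R ≤ normalizer (D₁ : Set G) :=
    CfsgLib.OddOrder.le_normalizer_commutator (hRS.trans hND) hRQ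
  suffices hbot : D₁ = ⊥ by
    rw [← commutator_eq_bot_iff_le_centralizer, commutator_comm]
    exact hbot
  by_contra hne
  by_cases hfix : D₁ ⊓ centralizer (R : Set G) ≤ (frattini D₁).map D₁.subtype
  · have h1 := FixedPointPrime.commutator_le_centralizer_of_fix_le_frattini hp.out hr hR hD₁p hrp
      hRD₁ hQD₁ hRQ hQs hodd hrQ hpQ hfix
    rw [hQR, ← commutator_eq_bot_iff_le_centralizer, commutator_comm] at h1
    exact hne (hD₁₁ ▸ h1)
  obtain ⟨y, hy, hyΦ⟩ := SetLike.not_le_iff_exists.1 hfix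
  have hy1 : y ≠ 1 := fun h => hyΦ (h ▸ one_mem _)
  have hyp : orderOf y = p := orderOf_eq_prime (hDexp y (hD₁D hy.1)) hy1
  have hle : zpowers y ≤ zpowers x := by
    haveI := hcyc
    refine (CfsgLib.OddOrder.eq_of_card_eq_of_isCyclic (C := S ⊓ centralizer (R : Set G))
      (zpowers_le.2 ⟨hDS (hD₁D hy.1), hy.2⟩) (zpowers_le.2 ⟨hx, hxR⟩) ?_).le
    rw [Nat.card_zpowers, Nat.card_zpowers, hyp, hxp]
  have hyQ : y ∈ centralizer (Q : Set G) := (hle.trans (zpowers_le.2 hxQ)) (mem_zpowers y)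
  exact hyΦ ⟨⟨y, hy.1⟩, mem_frattini_of_commutator_eq hD₁p hQD₁ hcopQp hD₁₁ hyQ, rfl⟩

end CfsgLib.FT.BG13
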