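import Cfsg.Agent.Lib.FT.BG13.Tau

/-!
Consequences of BG 12.15: normalisers of nontrivial `σ(M)`-subgroups and primes of `M` that are
not ideal.
-/

set_option autoImplicit false
set_option linter.style.haveILetI false

universe u

namespace CfsgLib.FT.BG13

open Cfsg CfsgLib.OddOrder CfsgLib.Techniques _root_.Subgroup
open scoped commutatorElement

variable {G : Type u} [Group G] [Finite G]

variable (hU : Upstream.{u}) (hG : IsMinSimpleOddOrder G) {M : Subgroup G} (hM : IsCoatom M)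

include hU hG hM in
/-- BG 12.15 (d), (e) for an arbitrary nontrivial `q`-subgroup, `q ∈ σ(M)`. -/
theorem exists_factor_normalizer {q : ℕ} [hq' : Fact q.Prime] (hq : q ∈ sigma M) {Q : Subgroup G}
    (hQ : IsPGroup q Q) (hQ1 : Q ≠ ⊥) :
    ∃ (g : G) (L K : Subgroup G), IsCoatom L ∧ normalizer (Q : Set G) ≤ L ∧ K ≤ L ∧
      L ≤ normalizer (K : Set G) ∧ (∀ m ∈ L, ∃ a ∈ K, ∃ b ∈ cj g M ⊓ L, m = a * b) ∧
      ∀ p : ℕ, p.Prime → p ∣ Nat.card M → p ∣ Nat.card K → IsIdealPrime p G := by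
  obtain ⟨g, hg⟩ := hU.s1425 hG M hM Q hQ1 fun _ hp hd => eq_of_dvd_card_pGroup hQ hp hd ▸ hq
  refine ⟨g⁻¹, ?_⟩
  set M₁ := cj g⁻¹ M with hM₁
  have hM₁' : IsCoatom M₁ := isCoatom_cj hM _
  have hQM₁ : Q ≤ M₁ := by
    have := cj_mono (g := g⁻¹) (hg.trans (sigmaCore_le M))
    rwa [show Q.map (MulAut.conj g).toMonoidHom = cj g Q from rfl, cj_inv_cj] at this
  have hqM₁ : q ∈ sigma M₁ := by rw [hM₁, sigma_cj]; exact hq
  obtain ⟨L, hL, hNL⟩ :=
    exists_maximal_ge (minSimple_normalizer_ne_top hG hQ1 (isPGroup_ne_top hG hQ))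
  by_cases hne : L = M₁
  · refine ⟨L, ⊥, hL, hNL, bot_le,
      le_top.trans (eq_top_iff.2 fun _ _ => ?_).ge,
      fun m hm => ⟨1, one_mem _, m, ⟨hne ▸ hm, hm⟩, (one_mul m).symm⟩,
      fun p hp _ hd => absurd (card_bot (G := G) ▸ hd) hp.not_dvd_one⟩
    rw [normalizer_eq_top]; trivial
  have hcard : Nat.card M₁ = Nat.card M := card_cj _ _
  obtain ⟨h1, h2⟩ := hU.p1215 hG M₁ hM₁' q hqM₁ Q hQ hQ1 hQM₁ L hL hne hNL
  by_cases hqL : q ∈ sigma L
  · obtain ⟨-, hfac, -⟩ := h1 hqL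
    exact ⟨L, piCoreOf (beta L) L, hL, hNL, map_subtype_le _, le_normalizer_piCoreOf _ _, hfac,
      fun p hp _ hd => ((betaCore_hallOf hU hG hL).2.1 p hp hd).2⟩
  · obtain ⟨-, hβ, hE⟩ := h2 hqL
    refine ⟨L, sigmaCore L, hL, hNL, sigmaCore_le L, le_normalizer_sigmaCore L, fun m hm => ?_,
      fun p hp hdM hd => (hβ p (sigmaCore_primes hU hG hL hp hd) (hcard ▸ hdM)).2⟩
    obtain ⟨a, ha, b, hb, rfl⟩ := hE.2.2.2 m hm
    refine ⟨a * b * a⁻¹, ?_, a, ha, by group⟩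
    exact (mem_normalizer_iff.1 (le_normalizer_sigmaCore L ha.2) b).1 hb

include hU hG hM in
/-- A `p`-group normalising a nontrivial `σ(M)`-group of prime power order embeds into `M`, if `p`
divides `|M|` and is not ideal. -/
theorem exists_cj_le_of_not_ideal {p q : ℕ} [hp : Fact p.Prime] [Fact q.Prime] (hq : q ∈ sigma M)
    {Q T : Subgroup G} (hQ : IsPGroup q Q) (hQ1 : Q ≠ ⊥) (hT : IsPGroup p T)
    (hTQ : T ≤ normalizer (Q : Set G)) (hd : p ∣ Nat.card M) (hni : ¬ IsIdealPrime p G) :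
    ∃ g : G, cj g T ≤ M := by
  obtain ⟨g, L, K, -, hNL, hKL, hLK, hfac, hK⟩ := exists_factor_normalizer hU hG hM hq hQ hQ1
  have hpK : ¬ p ∣ Nat.card K := fun h => hni (hK p hp.out hd h)
  set Y := cj g M ⊓ L with hY
  obtain ⟨S, hS⟩ := exists_sylIn (p := p) Y
  have hsup : Y ⊔ K = L := le_antisymm (sup_le inf_le_right hKL) fun m hm => by
    obtain ⟨a, ha, b, hb, rfl⟩ := hfac m hm
    exact mul_mem (mem_sup_right ha) (mem_sup_left hb)
  have hdvd : Y.relIndex L ∣ Nat.card K := by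
    have h := CfsgLib.Coprime.card_sup_mul_card_inf (H := Y) (N := K) (inf_le_right.trans hLK)
    rw [hsup] at h
    have h' : Nat.card Y * Y.relIndex L = Nat.card L := by
      rw [← relIndex_bot_left Y, relIndex_mul_relIndex _ _ _ bot_le inf_le_right, relIndex_bot_left]
    rw [← h', mul_assoc] at h
    exact Dvd.intro _ (Nat.eq_of_mul_eq_mul_left Nat.card_pos h)
  have hSL : SylIn p S L := ⟨hS.le.trans inf_le_right, hS.isPGroup, fun h => by
    rw [← relIndex_mul_relIndex _ _ _ hS.le inf_le_right] at h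
    rcases hp.out.dvd_mul.1 h with h | h
    · exact hS.not_dvd h
    · exact hpK (h.trans hdvd)⟩
  obtain ⟨l, -, hl⟩ := hSL.exists_conj hT (hTQ.trans hNL)
  refine ⟨g⁻¹ * l, ?_⟩
  rw [cj_mul]
  have := cj_mono (g := g⁻¹) (hl.trans (hS.le.trans inf_le_left))
  rwa [cj_inv_cj] at this

include hU hG hM in
/-- For `p ∈ τ₁(M)` not ideal the derived normaliser of a nontrivial `σ(M)`-group of prime power
order is a `p'`-group. -/
theorem not_dvd_derived_normalizer {p q : ℕ} [hp : Fact p.Prime] [Fact q.Prime] (hp1 : p ∈ tau1 M)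
    (hq : q ∈ sigma M) {Q : Subgroup G} (hQ : IsPGroup q Q) (hQ1 : Q ≠ ⊥)
    (hni : ¬ IsIdealPrime p G) :
    ¬ p ∣ Nat.card ↥⁅normalizer (Q : Set G), normalizer (Q : Set G)⁆ := by
  obtain ⟨g, L, K, -, hNL, hKL, hLK, hfac, hK⟩ := exists_factor_normalizer hU hG hM hq hQ hQ1
  intro hd
  have hpK : ¬ p ∣ Nat.card K := fun h => hni (hK p hp.out hp1.2.2.1 h)
  set Y := cj g M ⊓ L with hY
  have hLR : ⁅L, L⁆ ≤ ⁅Y, Y⁆ ⊔ K := by
    refine commutator_le.2 fun m hm n hn => ?_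
    obtain ⟨a, ha, b, hb, rfl⟩ := hfac m hm
    obtain ⟨c, hc, d, hd, rfl⟩ := hfac n hn
    have hbK : ∀ x ∈ K, b * x * b⁻¹ ∈ K := fun x hx => (mem_normalizer_iff.1 (hLK hb.2) x).1 hx
    have hdK : ∀ x ∈ K, d * x * d⁻¹ ∈ K := fun x hx => (mem_normalizer_iff.1 (hLK hd.2) x).1 hx
    have e : ⁅a * b, c * d⁆ = a * (b * c * b⁻¹) * ⁅b, d⁆ * (d * a⁻¹ * d⁻¹) * c⁻¹ := by
      simp only [commutatorElement_def]; group
    rw [e]
    exact mul_mem (mul_mem (mul_mem (mul_mem (mem_sup_right ha) (mem_sup_right (hbK c hc)))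
      (mem_sup_left (commutator_mem_commutator hb hd))) (mem_sup_right (hdK _ (inv_mem ha))))
      (mem_sup_right (inv_mem hc))
  have h1 := hd.trans (card_dvd_of_le ((commutator_mono hNL hNL).trans hLR))
  have h2 := h1.trans (CfsgLib.Coprime.card_sup_dvd
    (((commutator_le_self Y).trans inf_le_right).trans hLK))
  rcases hp.out.dvd_mul.1 h2 with h | h
  · refine hp1.2.2.2.1 (h.trans ?_)
    rw [← card_cj g ⁅M, M⁆, cj_commutator]
    exact card_dvd_of_le (commutator_mono inf_le_left inf_le_left)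
  · exact hpK h

end CfsgLib.FT.BG13
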