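import Cfsg.Agent.Lib.FT.BG13.S139

/-!
The primes of `κ(M)` and the partner maximal subgroup (BG 13.10, 14.2): a subgroup of order
`p ∈ κ(M)` has its normaliser in exactly one maximal subgroup `M*`, `p ∈ σ(M*)`, and the situation
is symmetric in `M` and `M*`.
-/

set_option autoImplicit false
set_option linter.style.haveILetI false
set_option linter.unusedSectionVars false

universe u

namespace CfsgLib.FT.BG13

open Cfsg CfsgLib.OddOrder CfsgLib.Techniques _root_.Subgroup
open scoped commutatorElement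

variable {G : Type u} [Group G] [Finite G]

/-- A subgroup of prime order is cyclic, generated by an element of that order. -/
theorem exists_gen_of_card_prime {p : ℕ} [Fact p.Prime] {P : Subgroup G} (hP : Nat.card P = p) :
    ∃ x : G, x ∈ P ∧ orderOf x = p ∧ zpowers x = P := by
  obtain ⟨x, hx⟩ := exists_prime_orderOf_dvd_card' p (dvd_of_eq hP.symm)
  refine ⟨x, x.2, by rw [orderOf_coe, hx], Subgroup.eq_of_le_of_card_ge (zpowers_le.2 x.2) ?_⟩
  rw [hP, Nat.card_zpowers, orderOf_coe, hx]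

theorem exists_maximal_normalizer (hG : IsMinSimpleOddOrder G) {p : ℕ} [Fact p.Prime]
    {X : Subgroup G} (hX : IsPGroup p X) (hX1 : X ≠ ⊥) :
    ∃ L : Subgroup G, IsCoatom L ∧ normalizer (X : Set G) ≤ L :=
  exists_maximal_ge (minSimple_normalizer_ne_top hG hX1 (isPGroup_ne_top hG hX))

/-- An abelian group is centralised by its subgroups. -/
theorem le_centralizer_of_le_commutative {A B C : Subgroup G} (hC : IsMulCommutative C)
    (hA : A ≤ C) (hB : B ≤ C) : A ≤ centralizer (B : Set G) :=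
  hA.trans ((le_centralizer_iff_isMulCommutative.2 hC).trans (centralizer_le hB))

variable (hU : Upstream.{u}) (hG : IsMinSimpleOddOrder G) {M : Subgroup G} (hM : IsCoatom M)

include hU hG hM in
theorem mem_kappa_of {p : ℕ} [hp : Fact p.Prime] (hpt : Tau13 M p) {P : Subgroup G}
    (hP : Nat.card P = p) (hPM : P ≤ M) (hC : sigmaCore M ⊓ centralizer (P : Set G) ≠ ⊥) :
    p ∈ kappa M := by
  refine ⟨hp.out, hpt.2.2.1, hpt.2.1, fun S => ?_⟩
  set T := (S : Subgroup M).map M.subtype with hT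
  have hTp : IsPGroup p T := S.isPGroup'.map _
  refine ⟨((equivMapOfInjective (S : Subgroup M) M.subtype M.subtype_injective).isCyclic).2
    (isCyclic_of_pGroup_le hG hpt.2.2.2 (map_subtype_le _) hTp), ?_⟩
  obtain ⟨p', hp', hpd, Y, hYT, hY⟩ := exists_card_prime (sylIn_ne_bot (sylIn_sylow_map S) hpt.2.2.1)
  obtain rfl : p' = p := eq_of_dvd_card_pGroup hTp hp' hpd
  obtain ⟨m, hm, he⟩ := exists_conj_of_rank_one hG hpt.2.2.2 hPM (hYT.trans (map_subtype_le _)) hP hY
  obtain ⟨x, hxY, hxo, -⟩ := exists_gen_of_card_prime hY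
  obtain ⟨x', hx', hxe⟩ := hYT hxY
  obtain ⟨⟨c, hc⟩, hc1⟩ := (ne_bot_iff_exists_ne_one).1 hC
  refine ⟨x', hx', fun h => ?_, m * c * m⁻¹, ?_, ?_, ?_⟩
  · rw [← hxe, h, map_one, orderOf_one] at hxo
    exact hp.out.ne_one hxo.symm
  · exact (mem_normalizer_iff.1 (le_normalizer_sigmaCore M hm) c).1 hc.1
  · intro h
    exact hc1 (Subtype.ext (conj_eq_one_iff.1 h))
  · have hxm : m⁻¹ * x * m ∈ P := by
      rw [← he] at hxY
      exact mem_cj.1 hxY
    have h1 := mem_centralizer_iff.1 hc.2 _ hxm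
    rw [show (x' : G) = x from hxe]
    calc x * (m * c * m⁻¹) = m * (m⁻¹ * x * m * c) * m⁻¹ := by group
      _ = m * c * m⁻¹ * x := by rw [h1]; group

include hU hG hM in
theorem tau13_of_kappa {p : ℕ} [hp : Fact p.Prime] (hp : p ∈ kappa M) : Tau13 M p := by
  obtain ⟨T, hT⟩ := exists_sylIn (p := p) M
  obtain ⟨S, hS⟩ := exists_sylow_of_sylIn hT
  refine ⟨Fact.out, hp.2.2.1, hp.2.1, (pRankLE_iff_sylIn hT).2 (pRankLE_one_of_cyclic ?_)⟩
  rw [← hS]
  exact ((equivMapOfInjective (S : Subgroup M) M.subtype M.subtype_injective).isCyclic).1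
    (hp.2.2.2 S).1

include hU hG hM in
/-- Every subgroup of order `p ∈ κ(M)` of `M` has nontrivial fixed points in `M_σ`. -/
theorem fix_ne_bot_of_kappa {p : ℕ} [hp : Fact p.Prime] (hpk : p ∈ kappa M) {P : Subgroup G}
    (hP : Nat.card P = p) (hPM : P ≤ M) : sigmaCore M ⊓ centralizer (P : Set G) ≠ ⊥ := by
  obtain ⟨S⟩ : Nonempty (Sylow p M) := inferInstance
  obtain ⟨x, hxS, hx1, y, hy, hy1, hxy⟩ := (hpk.2.2.2 S).2
  have hx1' : zpowers (x : G) ≠ ⊥ := fun h => hx1 (Subtype.ext (zpowers_eq_bot.1 h))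
  have hxp : IsPGroup p (zpowers (x : G)) :=
    (S.isPGroup'.map M.subtype).to_le (zpowers_le.2 ⟨x, hxS, rfl⟩)
  obtain ⟨p', hp', hpd, Y, hYx, hY⟩ := exists_card_prime hx1'
  obtain rfl : p' = p := eq_of_dvd_card_pGroup hxp hp' hpd
  obtain ⟨m, hm, he⟩ := exists_conj_of_rank_one hG (tau13_of_kappa hU hG hM hpk).2.2.2
    (hYx.trans (zpowers_le.2 x.2)) hPM hY hP
  have hyY : y ∈ centralizer (Y : Set G) := by
    refine centralizer_le hYx ?_
    rw [centralizer_zpowers', mem_centralizer_singleton']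
    exact hxy.symm
  intro hbot
  refine hy1 ((conj_eq_one_iff (a := m)).1 (mem_bot.1 (hbot ▸ mem_inf.2
    ⟨(mem_normalizer_iff.1 (le_normalizer_sigmaCore M hm) y).1 hy, ?_⟩)))
  rw [← he]
  exact (map_centralizer_subgroup (MulAut.conj m) Y).le ⟨y, hyY, rfl⟩

include hU hG hM in
theorem compl_le_normalizer_of_tau3 {p : ℕ} [hp : Fact p.Prime] (hp3 : p ∈ tau3 M) {E P : Subgroup G}
    (hE : IsComplIn E (sigmaCore M) M) (hPE : P ≤ E) (hP : Nat.card P = p) :
    E ≤ normalizer (P : Set G) := by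
  haveI : Group.IsSolvable E := minSimple_solvable hG (ne_top_of_le_maximal hM hE.1)
  obtain ⟨H, hH, hPH⟩ := (CfsgLib.Coprime.hallD_of_solvable (G := E) (tau3 M)).exists_le
    (U := P.subgroupOf E) fun t ht hd => eq_of_dvd_card_pGroup (isPGroup_of_card_prime hP) ht
      (by rwa [CfsgLib.Base.card_subgroupOf hPE] at hd) ▸ hp3
  obtain ⟨hcyc, -, hn⟩ := (hU.s1415 hG M hM E hE).2.2 _ (CfsgLib.Coprime.piHallOf_map_subtype hH)
  exact le_normalizer_of_isCyclic hcyc
    (by rw [← map_subgroupOf_eq_of_le hPE]; exact map_mono hPH) hn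

include hU hG hM in
/-- BG 12.14 (c) for an element of order `t ∈ τ₂(M)` with a fixed point in `M_σ`. -/
theorem unique_of_tau2_fix {t : ℕ} [Fact t.Prime] (ht : t ∈ tau2 M) {R : Subgroup G}
    (hR : Nat.card R = t) (hRM : R ≤ M) (hC : sigmaCore M ⊓ centralizer (R : Set G) ≠ ⊥) :
    centralizer (R : Set G) ≤ M ∧
      ∀ L : Subgroup G, IsCoatom L → centralizer (R : Set G) ≤ L → L = M := by
  obtain ⟨x, hxR, hxo, hxz⟩ := exists_gen_of_card_prime hR
  obtain ⟨E, hE⟩ := exists_compl hU hG hM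
  obtain ⟨⟨c, hc⟩, hc1⟩ := (ne_bot_iff_exists_ne_one).1 hC
  have hx1 : x ≠ 1 := fun h => (Fact.out : t.Prime).ne_one (by rw [← hxo, h, orderOf_one])
  have h := (hU.s1420 hG M hM E hE).2.2.2 x (hRM hxR) hx1
    (fun s hs hd => by rwa [(Nat.prime_dvd_prime_iff_eq hs Fact.out).1 (hxo ▸ hd)])
    ⟨hRM hxR, c, hc.1, fun h => hc1 (Subtype.ext h), mem_centralizer_iff.1 hc.2 x hxR⟩
  rwa [← hxz, centralizer_zpowers']

/-! ### The partner of a prime in `κ(M)` -/

variable {p : ℕ} [hp : Fact p.Prime] {P L : Subgroup G}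

include hU hG hM in
/-- BG 13.10: `p ∈ σ(M*)`. -/
theorem partner_sigma (hpk : p ∈ kappa M) (hP : Nat.card P = p) (hPM : P ≤ M) (hL : IsCoatom L)
    (hN : normalizer (P : Set G) ≤ L) : p ∈ sigma L := by
  have hpt := tau13_of_kappa hU hG hM hpk
  refine (sigma_or_tau2 hU hG hP hL hN).resolve_right fun h2 => ?_
  have hnc := not_conj hU hG hP hL hN hpt
  have hbot := commutator_eq_bot_of_tau2 hU hG hM hP hL hN hpt h2
  obtain ⟨q, hq, hqd, X, hX0, hX⟩ := exists_card_prime (fix_ne_bot_of_kappa hU hG hM hpk hP hPM)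
  haveI := Fact.mk hq
  have hXσ : X ≤ sigmaCore M := hX0.trans inf_le_left
  have hXL : X ≤ L := hX0.trans (inf_le_right.trans (centralizer_le_of_normalizer_le hN))
  have hqM : q ∈ sigma M := sigmaCore_primes hU hG hM hq (hX ▸ card_dvd_of_le hXσ)
  have hXp := isPGroup_of_card_prime hX
  have huX : centralizer (X : Set G) ≤ M ∧
      ∀ N : Subgroup G, IsCoatom N → centralizer (X : Set G) ≤ N → N = M := by
    rcases tau13_iff.1 hpt with h1 | h3
    · exact unique_of_tau1 hU hG hM h1 hP hPM hX hX0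
    · obtain ⟨E, hE, hPE⟩ := exists_compl_ge hU hG hM hPM
        fun t ht hd => eq_of_dvd_card_pGroup (isPGroup_of_card_prime hP) ht hd ▸ hpt.2.1
      have hEN := (compl_le_normalizer_of_tau3 hU hG hM h3 hE hPE hP).trans hN
      refine unique_of_beta_or_derived hU hG hM hX hXσ
        (Or.inr ((le_inf hXσ ?_).trans (hU.s1426 hG M hM E hE).1))
      exact ((le_inf hXσ hXL).trans (commutator_eq_bot_iff_le_centralizer.1 hbot)).trans
        (centralizer_le (le_inf hE.1 hEN))
  have hqL : q ∉ sigma L := fun h => by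
    obtain ⟨g, hg⟩ := sigma_disjoint hU hG hM hL hqM h
    exact hnc g hg
  have hPL : P ≤ L := le_normalizer.trans hN
  have hPp := isPGroup_of_card_prime hP
  have hXP : X ≤ centralizer (P : Set G) := hX0.trans inf_le_right
  obtain ⟨E, hE, hXPE⟩ := exists_compl_ge hU hG hL (sup_le hXL hPL) fun t ht hd => by
    rcases ht.dvd_mul.1 (hd.trans (CfsgLib.Coprime.card_sup_dvd
      (hXP.trans (centralizer_le_normalizer _)))) with h | h
    · exact eq_of_dvd_card_pGroup hXp ht h ▸ hqL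
    · exact eq_of_dvd_card_pGroup hPp ht h ▸ h2.2.1
  obtain ⟨A, hAE, hA, hA2⟩ := exists_elementary_compl hU hG hL h2 hE
  have hAp : IsPGroup p A := CfsgLib.Base.isPGroup_of_isElementaryAbelian hA
  obtain ⟨⟨hEA, hline⟩, ⟨-, -, hNA⟩, -⟩ := hU.s1418 hG L hL E hE p h2 A ⟨hAE, hA, hA2⟩
  have hPA : P ≤ A := hline P (le_sup_right.trans hXPE) hP
  have hAX : ¬ A ≤ centralizer (X : Set G) := fun h =>
    BG12.not_isCyclic_of_sq hA hA2 (isCyclic_of_pGroup_le hG hpt.2.2.2 (h.trans huX.1) hAp)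
  have hA1 : A ≠ ⊥ := fun h => ne_bot_of_card_prime hP (le_bot_iff.1 (h ▸ hPA))
  obtain ⟨N, hN', hNN⟩ := exists_maximal_normalizer hG hAp hA1
  have hAN : A ≤ N := le_normalizer.trans hNN
  have hpN : p ∈ sigma N := by
    refine (BG12.sigma_or_tau2_of_normalizer_le hU.s1403 hG hN' hAp hA1 hNN).resolve_right
      fun h2' => ?_
    obtain ⟨E', hE', hAE'⟩ := exists_compl_ge hU hG hN' hAN
      fun t ht hd => eq_of_dvd_card_pGroup hAp ht hd ▸ h2'.2.1
    exact ((hU.s1418 hG N hN' E' hE' p h2' A ⟨hAE', hA, hA2⟩).2.1.2.2) hNN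
  have hqN : q ∉ sigma N := fun h => by
    obtain ⟨g, hg⟩ := sigma_disjoint hU hG hM hN' hqM h
    refine hpt.2.1 ?_
    rwa [hg, sigma_cj] at hpN
  have hXA : X ≤ normalizer (A : Set G) := (le_sup_left.trans hXPE).trans hEA
  have hXN : X ≤ N := hXA.trans hNN
  have hPσ : P ≤ sigmaCore N := hPA.trans (pGroup_le_sigmaCore hU hG hN' hpN hAp hAN)
  have hPX : P ≤ centralizer (X : Set G) := le_centralizer_iff.1 hXP
  rcases tau_cases hU hG hN' (hX ▸ card_dvd_of_le hXN) hqN with hq13 | hq2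
  · rcases tau13_iff.1 hq13 with hq1 | hq3
    · obtain ⟨-, hu⟩ := unique_of_tau1 hU hG hN' hq1 hX hXN hP (le_inf hPσ hPX)
      have hLN := hu L hL (centralizer_le_of_normalizer_le hN)
      exact h2.2.1 (hLN ▸ hpN)
    · refine hAX (le_centralizer_iff.1 (centralizes_of_beta hU hG hN'
        (le_derived_of_tau3 hU hG hN' hq3 hXp hXN)
        ((pGroup_le_sigmaCore hU hG hN' hpN hAp hAN).trans
          (sigmaCore_le_derived hU.s1403 hG hN')) hXA
        (coprime_of_pGroups hXp hAp fun e => hpt.2.1 (e ▸ hqM))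
        fun t ht hd h => not_ideal_of_tau2 hU hG hL h2 (eq_of_dvd_card_pGroup hAp ht hd ▸ h.2)))
  · obtain ⟨hCN, hu⟩ := unique_of_tau2_fix hU hG hN' hq2 hX hXN
      fun h => ne_bot_of_card_prime hP (le_bot_iff.1 (h ▸ le_inf hPσ hPX))
    exact hpt.2.1 ((hu M hM huX.1).symm ▸ hpN)

include hU hG hM in
/-- `M_σ ∩ M* = C_{M_σ}(P)`. -/
theorem partner_inf (hpk : p ∈ kappa M) (hP : Nat.card P = p) (hPM : P ≤ M) (hL : IsCoatom L)
    (hN : normalizer (P : Set G) ≤ L) :
    sigmaCore M ⊓ L = sigmaCore M ⊓ centralizer (P : Set G) :=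
  le_antisymm (le_inf inf_le_left (le_centralizer_iff.1 (pGroup_le_centralizer hU hG hM hP hL hN
      (tau13_of_kappa hU hG hM hpk) (le_inf hPM (le_normalizer.trans hN))
      (isPGroup_of_card_prime hP))))
    (inf_le_inf_left _ (centralizer_le_of_normalizer_le hN))

include hU hG hM in
/-- Every subgroup of prime order of `M_σ ∩ M*` belongs to `κ(M*)` and has its normaliser in `M`
only. -/
theorem partner_step (hpk : p ∈ kappa M) (hP : Nat.card P = p) (hPM : P ≤ M) (hL : IsCoatom L)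
    (hN : normalizer (P : Set G) ≤ L) {q : ℕ} [Fact q.Prime] {X : Subgroup G}
    (hX : Nat.card X = q) (hXH : X ≤ sigmaCore M ⊓ L) :
    q ∈ kappa L ∧ normalizer (X : Set G) ≤ M ∧
      ∀ N : Subgroup G, IsCoatom N → normalizer (X : Set G) ≤ N → N = M := by
  have hpt := tau13_of_kappa hU hG hM hpk
  have hnc := not_conj hU hG hP hL hN hpt
  have hpL := partner_sigma hU hG hM hpk hP hPM hL hN
  have hPL : P ≤ L := le_normalizer.trans hN
  have hPσ : P ≤ sigmaCore L :=
    pGroup_le_sigmaCore hU hG hL hpL (isPGroup_of_card_prime hP) hPL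
  have hXP : X ≤ centralizer (P : Set G) :=
    (hXH.trans (partner_inf hU hG hM hpk hP hPM hL hN).le).trans inf_le_right
  have hXσ : X ≤ sigmaCore M := hXH.trans inf_le_left
  have hXL : X ≤ L := hXH.trans inf_le_right
  have hXM : X ≤ M := hXσ.trans (sigmaCore_le M)
  have hqM : q ∈ sigma M := sigmaCore_primes hU hG hM Fact.out (hX ▸ card_dvd_of_le hXσ)
  have hqL : q ∉ sigma L := fun h => by
    obtain ⟨g, hg⟩ := sigma_disjoint hU hG hM hL hqM h
    exact hnc g hg
  have hC : sigmaCore L ⊓ centralizer (X : Set G) ≠ ⊥ := fun h =>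
    ne_bot_of_card_prime hP (le_bot_iff.1 (h ▸ le_inf hPσ (le_centralizer_iff.1 hXP)))
  have hq13 : Tau13 L q := by
    refine (tau_cases hU hG hL (hX ▸ card_dvd_of_le hXL) hqL).resolve_right fun h2 => ?_
    obtain ⟨hCL, -⟩ := unique_of_tau2_fix hU hG hL h2 hX hXL hC
    have hq2 : q ≠ 2 := minSimple_ne_two hG (hX ▸ card_subgroup_dvd_card X)
    obtain ⟨S, hS, hXS⟩ := exists_sylIn_ge (p := q) (isPGroup_of_card_prime hX) hXσ
    have hSM : SylIn q S M := by
      refine ⟨hS.le.trans (sigmaCore_le M), hS.isPGroup, fun h => ?_⟩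
      rw [← relIndex_mul_relIndex _ _ _ hS.le (sigmaCore_le M)] at h
      rcases (Fact.out : q.Prime).dvd_mul.1 h with h | h
      · exact hS.not_dvd h
      · exact (sigmaCore_hallOf hU hG hM).2.2 q Fact.out hqM h
    have hSnc : ¬ IsCyclic S := fun h => by
      have h1 : PRankLE q 1 S := pRankLE_one_of_cyclic h
      have h2' : PRankLE q 1 ↥(⊤ : Subgroup G) :=
        (pRankLE_iff_sylIn (sigma_sylIn_top hqM hSM)).2 h1
      exact h2.2.2.2 (CfsgLib.Base.pRankLE_of_injective (inclusion le_top)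
        (inclusion_injective le_top) h2')
    have hD : ¬ IsCyclic ↥(S ⊓ centralizer (X : Set G)) := by
      intro h
      obtain ⟨z, hzS, hz, hzc⟩ := exists_central_orderOf hS.isPGroup
        fun e => ne_bot_of_card_prime hX (le_bot_iff.1 (e ▸ hXS))
      haveI := h
      have hXc : X ≤ centralizer (X : Set G) := by
        haveI := isCyclic_of_prime_card hX
        exact le_centralizer_iff_isMulCommutative.2 inferInstance
      have hzX : zpowers z = X := by
        refine CfsgLib.OddOrder.eq_of_card_eq_of_isCyclic (C := S ⊓ centralizer (X : Set G))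
          (zpowers_le.2 ⟨hzS, mem_centralizer_iff.2 fun b hb => ?_⟩) (le_inf hXS hXc)
          (by rw [Nat.card_zpowers, hz, hX])
        exact (hzc b (hXS hb))
      refine hSnc ?_
      have hSX : S ≤ centralizer (X : Set G) := by
        rw [← hzX, centralizer_zpowers']
        exact fun s hs => mem_centralizer_singleton'.2 (hzc s hs)
      rwa [inf_eq_left.2 hSX] at h
    obtain ⟨A, hAD, hA, hA2⟩ := exists_elementary_sq (M := S ⊓ centralizer (X : Set G)) (p := q)
      fun h1 => hD (isCyclic_of_pRankLE_one hq2 (hS.isPGroup.to_le inf_le_left) h1)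
    have h0 := (hU.s1417 hG L hL q h2 A ⟨hAD.trans (inf_le_right.trans hCL), hA, hA2⟩).2.2.2.2.1
      M hM (fun e => hnc 1 (by rw [cj_one, e])) (hAD.trans (inf_le_left.trans hSM.le))
    exact ne_bot_of_card_prime hP (le_bot_iff.1 (h0 ▸ le_inf hPσ hPM))
  have hqk := mem_kappa_of hU hG hL hq13 hX hXL hC
  have huniq : ∀ N : Subgroup G, IsCoatom N → normalizer (X : Set G) ≤ N → N = M := by
    intro N hN' hXN
    have hqN := partner_sigma hU hG hL hqk hX hXL hN' hXN
    obtain ⟨g, rfl⟩ := sigma_disjoint hU hG hM hN' hqM hqN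
    obtain ⟨c, hc, he⟩ := exists_centralizer_cj_eq hU.s1403 hG hM hqM (Nat.card G) X le_add_self
      (isPGroup_of_card_prime hX) (ne_bot_of_card_prime hX) 1 g (by rwa [cj_one])
      (le_normalizer.trans hXN)
    rw [cj_one] at he
    have hcN : c ∈ cj g M := hXN (centralizer_le_normalizer _ hc)
    calc cj g M = cj c⁻¹ (cj g M) := (cj_eq_self_of_mem (inv_mem hcN)).symm
      _ = M := by rw [← he, cj_inv_cj]
  obtain ⟨N, hN', hXN⟩ := exists_maximal_normalizer hG (isPGroup_of_card_prime hX)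
    (ne_bot_of_card_prime hX)
  exact ⟨hqk, huniq N hN' hXN ▸ hXN, huniq⟩

/-! ### Pairs -/

/-- What one knows about one side of a pair of partners. -/
def PairSide (M L : Subgroup G) : Prop :=
  ∀ (q : ℕ) [Fact q.Prime] (X : Subgroup G), Nat.card X = q → X ≤ sigmaCore M ⊓ L →
    q ∈ kappa L ∧ normalizer (X : Set G) ≤ M ∧
      (∀ N : Subgroup G, IsCoatom N → normalizer (X : Set G) ≤ N → N = M) ∧
      sigmaCore L ⊓ centralizer (X : Set G) = sigmaCore L ⊓ M

/-- A pair of partners. -/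
structure KPair (M L : Subgroup G) : Prop where
  maxM : IsCoatom M
  maxL : IsCoatom L
  nconj : ∀ g : G, L ≠ cj g M
  left_ne : sigmaCore M ⊓ L ≠ ⊥
  right_ne : sigmaCore L ⊓ M ≠ ⊥
  left : PairSide M L
  right : PairSide L M

theorem KPair.symm {M L : Subgroup G} (D : KPair M L) : KPair L M :=
  ⟨D.maxL, D.maxM, BG12.not_conj_symm D.nconj, D.right_ne, D.left_ne, D.right, D.left⟩

theorem KPair.ne {M L : Subgroup G} (D : KPair M L) : L ≠ M := fun h =>
  D.nconj 1 (by rw [cj_one, h])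

include hU hG hM in
/-- BG 13.10, 14.2: the partner. -/
theorem exists_pair (hpk : p ∈ kappa M) (hP : Nat.card P = p) (hPM : P ≤ M) (hL : IsCoatom L)
    (hN : normalizer (P : Set G) ≤ L) : KPair M L ∧ P ≤ sigmaCore L ⊓ M := by
  have hpL := partner_sigma hU hG hM hpk hP hPM hL hN
  have hPH : P ≤ sigmaCore L ⊓ M :=
    le_inf (pGroup_le_sigmaCore hU hG hL hpL (isPGroup_of_card_prime hP) (le_normalizer.trans hN))
      hPM
  have hH := fix_ne_bot_of_kappa hU hG hM hpk hP hPM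
  rw [← partner_inf hU hG hM hpk hP hPM hL hN] at hH
  obtain ⟨q, hq, -, X, hXH, hX⟩ := exists_card_prime hH
  haveI := Fact.mk hq
  obtain ⟨hqk, hXN, -⟩ := partner_step hU hG hM hpk hP hPM hL hN hX hXH
  have hXL : X ≤ L := hXH.trans inf_le_right
  have hside : PairSide M L := by
    intro r hr Y hY hYH
    obtain ⟨hrk, hYN, hYu⟩ := partner_step hU hG hM hpk hP hPM hL hN hY hYH
    exact ⟨hrk, hYN, hYu, (partner_inf hU hG hL hrk hY (hYH.trans inf_le_right) hM hYN).symm⟩
  have hside' : PairSide L M := by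
    intro r hr Y hY hYH
    obtain ⟨hrk, hYN, hYu⟩ := partner_step hU hG hL hqk hX hXL hM hXN hY hYH
    exact ⟨hrk, hYN, hYu, (partner_inf hU hG hM hrk hY (hYH.trans inf_le_right) hL hYN).symm⟩
  exact ⟨⟨hM, hL, not_conj hU hG hP hL hN (tau13_of_kappa hU hG hM hpk), hH,
    fun h => ne_bot_of_card_prime hP (le_bot_iff.1 (h ▸ hPH)), hside, hside'⟩, hPH⟩

variable {X Y R : Subgroup G}

include hU hG in
omit hM in
theorem KPair.sigmaCore_inf (D : KPair M L) : sigmaCore M ⊓ sigmaCore L = ⊥ :=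
  inf_eq_bot_of_primes (fun _ hq hd => sigmaCore_primes hU hG D.maxM hq hd) fun q hq hd h => by
    obtain ⟨g, hg⟩ := sigma_disjoint hU hG D.maxM D.maxL h (sigmaCore_primes hU hG D.maxL hq hd)
    exact D.nconj g hg

include hU hG in
omit hM in
theorem KPair.commutator_eq_bot (D : KPair M L) : ⁅sigmaCore M ⊓ L, sigmaCore L ⊓ M⁆ = ⊥ := by
  rw [← le_bot_iff, ← D.sigmaCore_inf hU hG, commutator_le]
  intro a ha' b hb'
  have ha := mem_inf.1 ha'
  have hb := mem_inf.1 hb'
  rw [commutatorElement_def]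
  refine mem_inf.2 ⟨?_, ?_⟩
  · rw [mul_assoc, mul_assoc, ← mul_assoc b]
    exact mul_mem ha.1 ((mem_normalizer_iff.1 (le_normalizer_sigmaCore M hb.2) _).1 (inv_mem ha.1))
  · exact mul_mem ((mem_normalizer_iff.1 (le_normalizer_sigmaCore L ha.2) b).1 hb.1) (inv_mem hb.1)

include hU hG in
omit hM in
/-- A subgroup of prime order outside `M_σ` centralising elements of both sides lies in `κ(M)`. -/
theorem KPair.kappa_of_fix (D : KPair M L) {r q t : ℕ} [Fact r.Prime] [Fact q.Prime] [Fact t.Prime]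
    (hR : Nat.card R = r) (hRM : R ≤ M) (hRL : R ≤ L) (hr : r ∉ sigma M) (hX : Nat.card X = q)
    (hXH : X ≤ sigmaCore M ⊓ L) (hY : Nat.card Y = t) (hYH : Y ≤ sigmaCore L ⊓ M)
    (hRX : R ≤ centralizer (X : Set G)) (hRY : R ≤ centralizer (Y : Set G)) : r ∈ kappa M := by
  have hCM : sigmaCore M ⊓ centralizer (R : Set G) ≠ ⊥ := fun h =>
    ne_bot_of_card_prime hX (le_bot_iff.1 (h ▸ le_inf (hXH.trans inf_le_left)
      (le_centralizer_iff.1 hRX)))
  rcases tau_cases hU hG D.maxM (hR ▸ card_dvd_of_le hRM) hr with h13 | h2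
  · exact mem_kappa_of hU hG D.maxM h13 hR hRM hCM
  exfalso
  obtain ⟨hC, hu⟩ := unique_of_tau2_fix hU hG D.maxM h2 hR hRM hCM
  by_cases hrL : r ∈ sigma L
  · have hRH : R ≤ sigmaCore L ⊓ M :=
      le_inf (pGroup_le_sigmaCore hU hG D.maxL hrL (isPGroup_of_card_prime hR) hRL) hRM
    exact h2.2.2.2 (tau13_of_kappa hU hG D.maxM (D.right r R hR hRH).1).2.2.2
  have hCL : sigmaCore L ⊓ centralizer (R : Set G) ≠ ⊥ := fun h =>
    ne_bot_of_card_prime hY (le_bot_iff.1 (h ▸ le_inf (hYH.trans inf_le_left)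
      (le_centralizer_iff.1 hRY)))
  rcases tau_cases hU hG D.maxL (hR ▸ card_dvd_of_le hRL) hrL with h13 | h2L
  · have hrk := mem_kappa_of hU hG D.maxL h13 hR hRL hCL
    obtain ⟨N, hN, hRN⟩ := exists_maximal_normalizer hG (isPGroup_of_card_prime hR)
      (ne_bot_of_card_prime hR)
    have hrN := partner_sigma hU hG D.maxL hrk hR hRL hN hRN
    rw [hu N hN (centralizer_le_of_normalizer_le hRN)] at hrN
    exact hr hrN
  · exact D.ne (hu L D.maxL (unique_of_tau2_fix hU hG D.maxL h2L hR hRL hCL).1)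

end CfsgLib.FT.BG13
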