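import Cfsg.Agent.Lib.FT.BG13.Count

/-!
BG 14.7: the partner `M*` of a maximal subgroup with `κ(M) ≠ ∅`.
-/

set_option autoImplicit false
set_option linter.style.haveILetI false
set_option linter.unusedSectionVars false

universe u

namespace CfsgLib.FT.BG13

open Cfsg CfsgLib.OddOrder CfsgLib.Techniques _root_.Subgroup
open scoped commutatorElement

variable {G : Type u} [Group G] [Finite G]

/-- BG 14.7: `L` is the partner of `M` for the Hall `κ(M)`-subgroup `K`. -/
structure Partners (M K L : Subgroup G) : Prop where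
  maxL : IsCoatom L
  pair : KPair M L
  side : sigmaCore L ⊓ M = K
  sideM : sigmaCore M ⊓ L = kstar M K
  kstarL : kstar L (kstar M K) = K
  hallL : IsPiHallOf (kappa L) (kstar M K) L
  inter : M ⊓ L = K ⊔ kstar M K
  vertex : IsVertex (K ⊔ kstar M K) L
  two : ∀ N, IsVertex (K ⊔ kstar M K) N → N = M ∨ N = L
  cyclicK : IsCyclic K
  cyclicKs : IsCyclic (kstar M K)
  kappa_eq : kappa M = tau1 M
  someP2 : ¬ AllKappaSigma M ∨ ¬ AllKappaSigma L
  primeK : ¬ AllKappaSigma M → (Nat.card K).Prime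
  primeKs : ¬ AllKappaSigma L → (Nat.card (kstar M K)).Prime

variable (hU : Upstream.{u}) (hG : IsMinSimpleOddOrder G)
variable {M K X : Subgroup G}

include hU hG in
/-- A nilpotent subgroup of `M` with primes in `κ(M)` is cyclic. -/
theorem isCyclic_of_kappa (hM : IsCoatom M) (hXM : X ≤ M)
    (hX : ∀ q : ℕ, q.Prime → q ∣ Nat.card X → q ∈ kappa M) (hn : Group.IsNilpotent X) :
    IsCyclic X := by
  haveI := hn
  haveI : IsZGroup X := ⟨fun p hp P => by
    haveI := Fact.mk hp
    by_cases hd : p ∣ Nat.card X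
    · haveI := isCyclic_of_pGroup_le hG (tau13_of_kappa hU hG hM (hX p hp hd)).2.2.2
        ((map_subtype_le (P : Subgroup X)).trans hXM) (P.isPGroup'.map X.subtype)
      exact ((equivMapOfInjective (P : Subgroup X) X.subtype X.subtype_injective).isCyclic).2
        inferInstance
    · haveI : Subsingleton (P : Subgroup X) := by
        rw [← Finite.card_le_one_iff_subsingleton]
        obtain ⟨n, hn⟩ := IsPGroup.iff_card.1 P.isPGroup'
        rcases n with _ | n
        · rw [hn, pow_zero]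
        · exact absurd ((dvd_pow_self p n.succ_ne_zero).trans (hn ▸ card_subgroup_dvd_card _)) hd
      exact isCyclic_of_subsingleton⟩
  infer_instance

include hU hG in
/-- BG 14.7. -/
theorem exists_partners (hM : IsCoatom M) (hK : IsPiHallOf (kappa M) K M) (hK1 : K ≠ ⊥) :
    ∃ L, Partners M K L := by
  set Z := K ⊔ kstar M K with hZ
  have hMv : IsVertex Z M := ⟨hM, K, hK, hK1, rfl⟩
  obtain ⟨N₀, hN₀, hP2⟩ := exists_not_allKappaSigma hU hG hM hK hK1
  have hN₀v := hN₀
  obtain ⟨hN₀m, K₀, hK₀, hK₀1, hK₀Z⟩ := hN₀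
  obtain ⟨hy, -⟩ := prime_of_not_allKappaSigma hU hG hN₀m hK₀ hK₀1 hP2
  -- there are two vertices
  have hkey : ∀ N, IsVertex Z N → N ≠ N₀ → Nat.card K₀ ∈ sigma N := by
    intro N hN hne
    obtain ⟨p, hp, hpd, -⟩ := exists_card_prime (hN.inter_sigmaCore_ne_bot hU hG)
    have hpZ : p ∣ Nat.card Z := hpd.trans (card_dvd_of_le inf_le_left)
    have hpN : p ∈ sigma N := sigmaCore_primes hU hG hN.1 hp (hpd.trans (card_dvd_of_le inf_le_right))
    have hp0 : p ∉ sigma N₀ := fun h => hne (hN₀v.eq_of_sigma hU hG hN h hpN hpZ)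
    rw [hZ, ← hK₀Z, card_sup_kstar hU hG hN₀m hK₀] at hpZ
    have hpk := (hp.dvd_mul.1 hpZ).resolve_right fun h2 =>
      hp0 (sigmaCore_primes hU hG hN₀m hp (h2.trans (card_dvd_of_le inf_le_left)))
    rwa [← (Nat.prime_dvd_prime_iff_eq hp hy).1 hpk]
  obtain ⟨p, hp, hpd, Y, hYK, hY⟩ := exists_card_prime hK1
  haveI := Fact.mk hp
  obtain ⟨L, hL, hN⟩ := exists_maximal_normalizer hG (isPGroup_of_card_prime hY)
    (ne_bot_of_card_prime hY)
  obtain ⟨P, hI, hH, hHK, -⟩ := partner_inter hU hG hM hK hK1 hYK (hY.symm ▸ hp) hL hN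
  have hLv := partner_isVertex hU hG hM hK hK1 hYK (hY.symm ▸ hp) hL hN
  have hyd : Nat.card K₀ ∣ Nat.card Z := card_dvd_of_le ((le_sup_left : K₀ ≤ _).trans hK₀Z.le)
  have htwo : ∀ N, IsVertex Z N → N = M ∨ N = L := by
    intro N hN
    by_cases h0 : N = N₀
    · by_contra h
      push Not at h
      have e1 : M ≠ N₀ := fun e => h.1 (h0.trans e.symm)
      have e2 : L ≠ N₀ := fun e => h.2 (h0.trans e.symm)
      exact P.ne (hMv.eq_of_sigma hU hG hLv (hkey M hMv e1) (hkey L hLv e2) hyd)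
    · by_cases h1 : M = N₀
      · exact Or.inr (hLv.eq_of_sigma hU hG hN (hkey L hLv fun e => P.ne (e.trans h1.symm))
          (hkey N hN h0) hyd)
      · exact Or.inl (hMv.eq_of_sigma hU hG hN (hkey M hMv h1) (hkey N hN h0) hyd)
  have hKL : K ≤ L := (le_sup_left.trans hI.ge).trans inf_le_right
  have hKσ : K ≤ sigmaCore L := le_sigmaCore hU hG hL hKL fun q hq hd => by
    obtain ⟨N, hN, hqN⟩ := exists_vertex_sigma hU hG hM hK hK1 hq
      (hd.trans (card_dvd_of_le le_sup_left))
    rcases htwo N hN with rfl | rfl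
    · exact absurd hqN (hK.2.1 q hq hd).2.2.1
    · exact hqN
  have hside : sigmaCore L ⊓ M = K := le_antisymm hHK (le_inf hKσ hK.1)
  -- the Hall subgroup of `L`
  have hLv' := hLv
  obtain ⟨-, K', hK', hK'1, hK'Z⟩ := hLv'
  have hkL : kstar L K' = K := by
    rw [← inter_sigmaCore hU hG hL hK', hK'Z]
    refine le_antisymm ?_ (le_inf le_sup_left hKσ)
    exact (le_inf inf_le_right (inf_le_left.trans hMv.le)).trans hside.le
  have hK'σ : K' ≤ kstar M K := by
    rw [← inter_sigmaCore hU hG hM hK]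
    refine le_inf (le_sup_left.trans hK'Z.le) (le_sigmaCore hU hG hM
      ((le_sup_left.trans hK'Z.le).trans hMv.le) fun q hq hd => ?_)
    obtain ⟨N, hN, hqN⟩ := exists_vertex_sigma hU hG hM hK hK1 hq
      (hd.trans (card_dvd_of_le (le_sup_left.trans hK'Z.le)))
    rcases htwo N hN with rfl | rfl
    · exact hqN
    · exact absurd hqN (hK'.2.1 q hq hd).2.2.1
  have hK'eq : K' = kstar M K := by
    refine Subgroup.eq_of_le_of_card_ge hK'σ ?_
    have h1 : Nat.card ↥(K' ⊔ kstar L K') = Nat.card ↥(K ⊔ kstar M K) :=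
      congrArg (fun H : Subgroup G => Nat.card H) hK'Z
    rw [card_sup_kstar hU hG hL hK', card_sup_kstar hU hG hM hK, hkL,
      mul_comm (Nat.card K) _] at h1
    exact (Nat.eq_of_mul_eq_mul_right Nat.card_pos h1).ge
  subst hK'eq
  have hne' : kstar M K ≠ ⊥ := hK'1
  have hpK : ¬ AllKappaSigma M → (Nat.card K).Prime := fun h =>
    (prime_of_not_allKappaSigma hU hG hM hK hK1 h).1
  have hpKs : ¬ AllKappaSigma L → (Nat.card (kstar M K)).Prime := fun h =>
    (prime_of_not_allKappaSigma hU hG hL hK' hne' h).1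
  have hsome : ¬ AllKappaSigma M ∨ ¬ AllKappaSigma L := by
    rcases htwo N₀ hN₀v with rfl | rfl
    · exact Or.inl hP2
    · exact Or.inr hP2
  have hcyc : IsCyclic K ∧ IsCyclic (kstar M K) := by
    rcases hsome with h | h
    · refine ⟨haveI := Fact.mk (hpK h); isCyclic_of_prime_card rfl, ?_⟩
      haveI := (prime_of_not_allKappaSigma hU hG hM hK hK1 h).2
      exact isCyclic_of_kappa hU hG hL hK'.1 hK'.2.1
        (Group.nilpotent_of_mulEquiv (subgroupOfEquivOfLe (inf_le_left : kstar M K ≤ sigmaCore M)))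
    · refine ⟨?_, haveI := Fact.mk (hpKs h); isCyclic_of_prime_card rfl⟩
      haveI := (prime_of_not_allKappaSigma hU hG hL hK' hne' h).2
      exact isCyclic_of_kappa hU hG hM hK.1 hK.2.1
        (Group.nilpotent_of_mulEquiv (subgroupOfEquivOfLe hKσ))
  have hκ : kappa M = tau1 M := by
    obtain ⟨E, U, D⟩ := exists_kuData' hU hG hM hK hK1
    rcases D.cases with ⟨-, h⟩ | ⟨hU0, p, hpk, hp3⟩
    · exact h
    exfalso
    have hEK : E = K := by rw [← D.sup, hU0, sup_bot_eq]
    haveI := isMulCommutative_of_cyclic hcyc.1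
    have hd := dvd_derived_sigmaCompl D.compl hp3.2.1 hp3.1 hp3.2.2.1
    rw [hEK, commutator_eq_bot_iff_le_centralizer.2
      (le_centralizer_iff_isMulCommutative.2 inferInstance), card_bot] at hd
    exact hp3.1.ne_one (Nat.dvd_one.1 hd)
  exact ⟨L, hL, P, hside, hH, hkL, hK', hI, hLv, htwo, hcyc.1, hcyc.2, hκ, hsome, hpK, hpKs⟩

end CfsgLib.FT.BG13
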