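import Cfsg.Agent.Lib.FT.BG13.Partners

/-!
BG 14.7 as stated.
-/

set_option autoImplicit false
set_option linter.style.haveILetI false
set_option linter.unusedSectionVars false

universe u

namespace CfsgLib.FT.BG13

open Cfsg CfsgLib.OddOrder CfsgLib.Techniques _root_.Subgroup
open scoped commutatorElement

variable {G : Type u} [Group G] [Finite G]

theorem card_of_decomposition_bot {M K U : Subgroup G} (h : IsSigmaDecomposition M K U)
    (hU1 : U = ⊥) : M ≤ K ⊔ sigmaCore M := fun m hm => by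
  obtain ⟨a, ha, b, hb, rfl⟩ := h.compl.2.2.2 m hm
  rw [hU1, mem_bot] at ha
  rwa [ha, one_mul]

variable (hU : Upstream.{u}) (hG : IsMinSimpleOddOrder G)
variable {M K L U : Subgroup G}

include hU hG in
theorem allKappaSigma_of_bot (hM : IsCoatom M) (h : IsSigmaDecomposition M K U) (hU1 : U = ⊥) :
    AllKappaSigma M := by
  intro t ht hd
  have hd' := hd.trans ((card_dvd_of_le (card_of_decomposition_bot h hU1)).trans
    (CfsgLib.Coprime.card_sup_dvd (h.hall.1.trans (le_normalizer_sigmaCore M))))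
  rcases ht.dvd_mul.1 hd' with h' | h'
  · exact Or.inr (h.hall.2.1 t ht h')
  · exact Or.inl (sigmaCore_primes hU hG hM ht h')

/-- The abelian group `Z`. -/
theorem Partners.isCyclic (D : Partners M K L) (hU : Upstream.{u}) (hG : IsMinSimpleOddOrder G)
    (hM : IsCoatom M) (hK : IsPiHallOf (kappa M) K M) : IsCyclic ↥(K ⊔ kstar M K) := by
  obtain ⟨a, ha⟩ := D.cyclicK
  obtain ⟨b, hb⟩ := D.cyclicKs
  have hca : orderOf (a : G) = Nat.card K := by
    rw [orderOf_coe]; exact orderOf_eq_card_of_forall_mem_zpowers ha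
  have hcb : orderOf (b : G) = Nat.card (kstar M K) := by
    rw [orderOf_coe]; exact orderOf_eq_card_of_forall_mem_zpowers hb
  have hcop : (orderOf (a : G)).Coprime (orderOf (b : G)) := by
    rw [hca, hcb]
    exact (coprime_sigmaCore hU hG hM fun q hq hd => (hK.2.1 q hq hd).2.2.1).coprime_dvd_right
      (card_dvd_of_le inf_le_left)
  have hab : (a : G) * b ∈ K ⊔ kstar M K :=
    mul_mem ((le_sup_left : K ≤ K ⊔ kstar M K) a.2)
      ((le_sup_right : kstar M K ≤ K ⊔ kstar M K) b.2)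
  refine isCyclic_of_orderOf_eq_card (⟨(a : G) * b, hab⟩ : ↥(K ⊔ kstar M K)) ?_
  rw [← orderOf_coe]
  change orderOf ((a : G) * b) = _
  rw [(show Commute (a : G) b from commute_kstar a.2 b.2).orderOf_mul_eq_mul_orderOf_of_coprime hcop,
    hca, hcb, card_sup_kstar hU hG hM hK]

include hU hG in
theorem Partners.zHat_eq (D : Partners M K L) (hM : IsCoatom M) (hK : IsPiHallOf (kappa M) K M)
    (hK1 : K ≠ ⊥) :
    zHat (K ⊔ kstar M K) =
      (↑(K ⊔ kstar M K) : Set G) \ ((K : Set G) ∪ ↑(kstar M K)) := by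
  have hv : IsVertex (K ⊔ kstar M K) M := ⟨hM, K, hK, hK1, rfl⟩
  have hKL : K ≤ sigmaCore L := D.side.ge.trans inf_le_left
  ext z
  constructor
  · rintro ⟨hz, hN⟩
    exact ⟨hz, by
      rintro (h | h)
      exacts [hN L D.vertex (hKL h), hN M hv (kstar_le M K h)]⟩
  · rintro ⟨hz, hn⟩
    refine ⟨hz, fun N hN hzN => hn ?_⟩
    rcases D.two N hN with rfl | rfl
    · refine Or.inr ?_
      rw [SetLike.mem_coe, ← inter_sigmaCore hU hG hM hK]
      exact mem_inf.2 ⟨hz, hzN⟩
    · refine Or.inl ?_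
      rw [SetLike.mem_coe, ← D.side]
      exact mem_inf.2 ⟨hzN, hv.le hz⟩

include hU hG in
theorem Partners.ncard_zHat (D : Partners M K L) (hM : IsCoatom M)
    (hK : IsPiHallOf (kappa M) K M) (hK1 : K ≠ ⊥) :
    (zHat (K ⊔ kstar M K)).ncard + (Nat.card K + Nat.card (kstar M K)) =
      Nat.card K * Nat.card (kstar M K) + 1 := by
  rw [D.zHat_eq hU hG hM hK hK1]
  have hsub : (K : Set G) ∪ ↑(kstar M K) ⊆ (↑(K ⊔ kstar M K) : Set G) :=
    Set.union_subset (le_sup_left : K ≤ K ⊔ kstar M K) (le_sup_right : kstar M K ≤ K ⊔ kstar M K)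
  have h1 := Set.ncard_sdiff_add_ncard_of_subset hsub
  have h2 := Set.ncard_union_add_ncard_inter (K : Set G) ↑(kstar M K)
  rw [show (K : Set G) ∩ ↑(kstar M K) = ↑(K ⊓ kstar M K) from rfl,
    inf_kstar_eq_bot hU hG hM hK, coe_bot, Set.ncard_singleton] at h2
  have h3 : ∀ H : Subgroup G, (H : Set G).ncard = Nat.card H := fun H =>
    (Nat.card_coe_set_eq _).symm
  rw [h3, h3] at h2
  rw [h3, card_sup_kstar hU hG hM hK] at h1
  omega

include hU hG in
theorem Partners.card_bounds (D : Partners M K L) (hM : IsCoatom M)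
    (hK : IsPiHallOf (kappa M) K M) :
    3 ≤ Nat.card K ∧ 3 ≤ Nat.card (kstar M K) ∧ Nat.card K ≠ Nat.card (kstar M K) ∧
      Odd (Nat.card K) ∧ Odd (Nat.card (kstar M K)) := by
  have hne : ∀ H : Subgroup G, H ≠ ⊥ → 3 ≤ Nat.card H := fun H hH => by
    obtain ⟨p, hp, hd, -⟩ := exists_card_prime hH
    have h2 := hp.two_le
    have h3 := Nat.le_of_dvd Nat.card_pos hd
    have h4 := minSimple_ne_two hG (hd.trans (card_subgroup_dvd_card H))
    omega
  have hK' : K ≠ ⊥ := fun h => D.pair.right_ne (D.side.trans h)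
  have hKs : kstar M K ≠ ⊥ := fun h => D.pair.left_ne (D.sideM.trans h)
  refine ⟨hne K hK', hne _ hKs, fun h => ?_, hG.1.of_dvd_nat (card_subgroup_dvd_card K),
    hG.1.of_dvd_nat (card_subgroup_dvd_card _)⟩
  obtain ⟨p, hp, hd, -⟩ := exists_card_prime hK'
  exact (hK.2.1 p hp hd).2.2.1
    (sigmaCore_primes hU hG hM hp ((h ▸ hd).trans (card_dvd_of_le inf_le_left)))

include hU hG in
theorem Partners.half (D : Partners M K L) (hM : IsCoatom M) (hK : IsPiHallOf (kappa M) K M)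
    (hK1 : K ≠ ⊥) : Nat.card G < 2 * (conjSet (zHat (K ⊔ kstar M K))).ncard := by
  rw [ncard_conjSet hU hG hM hK hK1, ← (K ⊔ kstar M K).card_mul_index,
    card_sup_kstar hU hG hM hK]
  obtain ⟨h1, h2, h3, hk, hl⟩ := D.card_bounds hU hG hM hK
  have h4 := D.ncard_zHat hU hG hM hK hK1
  generalize Nat.card K = k at h1 h3 h4 hk
  generalize Nat.card (kstar M K) = l at h2 h3 h4 hl
  rw [Nat.odd_iff] at hk hl
  generalize (zHat (K ⊔ kstar M K)).ncard = c at h4
  have hi : 0 < (K ⊔ kstar M K).index := Nat.pos_of_ne_zero index_ne_zero_of_finite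
  generalize (K ⊔ kstar M K).index = i at hi
  obtain ⟨a, rfl⟩ : ∃ a, k = a + 3 := ⟨k - 3, by omega⟩
  obtain ⟨b, rfl⟩ : ∃ b, l = b + 3 := ⟨l - 3, by omega⟩
  have h5 : (a + 3) * (b + 3) = a * b + 3 * a + 3 * b + 9 := by ring
  have h6 : (a + 3) * (b + 3) < 2 * c := by omega
  calc (a + 3) * (b + 3) * i < 2 * c * i := Nat.mul_lt_mul_of_pos_right h6 hi
    _ = 2 * (i * c) := by ring

include hU hG in
/-- A part in `σ(M)` of an element of `Ẑ`. -/
theorem Partners.exists_part (D : Partners M K L) (hM : IsCoatom M)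
    (hK : IsPiHallOf (kappa M) K M) (hK1 : K ≠ ⊥) {z : G} (hz : z ∈ zHat (K ⊔ kstar M K)) :
    ∃ p : ℕ, p.Prime ∧ p ∣ orderOf z ∧ p ∈ sigma M := by
  obtain ⟨N, N', hN, hN', hne, p, q, hp, hq, hpd, hqd, hpN, hqN'⟩ :=
    exists_two_parts hU hG hM hK hK1 hz
  rcases D.two N hN with rfl | rfl
  · exact ⟨p, hp, hpd, hpN⟩
  · rcases D.two N' hN' with rfl | rfl
    · exact ⟨q, hq, hqd, hqN'⟩
    · exact absurd rfl hne

include hU hG in
theorem Partners.eq_of_hall (D : Partners M K L) (hK1 : K ≠ ⊥) {Mstar : Subgroup G}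
    (hMs : IsCoatom Mstar)
    (hKst : K = sigmaCore Mstar ⊓ centralizer ((kstar M K : Subgroup G) : Set G)) :
    Mstar = L := by
  obtain ⟨p, hp, -, Y, hYK, hY⟩ := exists_card_prime hK1
  haveI := Fact.mk hp
  have hYs : Y ≤ sigmaCore Mstar := hYK.trans (hKst.le.trans inf_le_left)
  have hYH : Y ≤ sigmaCore L ⊓ M := hYK.trans D.side.ge
  obtain ⟨g, hg⟩ := sigma_disjoint hU hG D.maxL hMs
    (sigmaCore_primes hU hG D.maxL hp (hY ▸ card_dvd_of_le (hYH.trans inf_le_left)))
    (sigmaCore_primes hU hG hMs hp (hY ▸ card_dvd_of_le hYs))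
  rw [hg]
  refine cj_eq_of_normalizer_le hU hG D.maxL
    (sigmaCore_primes hU hG D.maxL hp (hY ▸ card_dvd_of_le (hYH.trans inf_le_left)))
    (isPGroup_of_card_prime hY) (ne_bot_of_card_prime hY) (D.pair.right p Y hY hYH).2.1 ?_
  rw [← hg]
  exact hYs.trans (sigmaCore_le Mstar)

include hU in
theorem stmtS1351_of : StmtS1351.{u} := by
  intro G _ _ hG M hM
  haveI : Group.IsSolvable M := minSimple_solvable hG (ne_top_of_le_maximal hM le_rfl)
  obtain ⟨H, hH, -⟩ := (CfsgLib.Coprime.hallD_of_solvable (G := M) (kappa M)).exists_le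
    (U := (⊥ : Subgroup M)) (by
      intro t ht hd
      rw [card_bot] at hd
      exact absurd (Nat.dvd_one.1 hd) ht.ne_one)
  refine ⟨⟨_, CfsgLib.Coprime.piHallOf_map_subtype hH⟩, fun K hK => ?_⟩
  by_cases hK1 : K = ⊥
  · subst hK1
    exact isCyclic_of_subsingleton
  · obtain ⟨L, D⟩ := exists_partners hU hG hM hK hK1
    exact D.cyclicK

include hU in
theorem stmtS1366_of : StmtS1366.{u} := by
  intro G _ _ hG M hM K U hKU hK1
  obtain ⟨L, D⟩ := exists_partners hU hG hM hKU.hall hK1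
  exact ⟨L, ⟨D.maxL, D.kstarL.symm, D.hallL⟩, fun N hN => D.eq_of_hall hU hG hK1 hN.1 hN.2.1⟩

include hU in
theorem stmtS1367_of : StmtS1367.{u} := by
  intro G _ _ hG M hM K U hKU hK1 Ms hMs hKst _
  obtain ⟨L, D⟩ := exists_partners hU hG hM hKU.hall hK1
  obtain rfl := D.eq_of_hall hU hG hK1 hMs hKst
  obtain ⟨E, U₁, DM⟩ := exists_kuData' hU hG hM hKU.hall hK1
  obtain ⟨E', U₂, DL⟩ := exists_kuData' hU hG D.maxL D.hallL fun h => D.pair.left_ne (D.sideM.trans h)
  refine ⟨fun X hX hXp => ?_, fun Y hY hYp => ?_⟩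
  · haveI := Fact.mk hXp
    exact unique_of_beta_or_derived hU hG hM rfl (hX.trans inf_le_left) (DM.unique _ X rfl hX)
  · haveI := Fact.mk hYp
    have hY' : Y ≤ kstar Ms (kstar M K) := hY.trans D.kstarL.ge
    exact unique_of_beta_or_derived hU hG D.maxL rfl (hY'.trans inf_le_left)
      (DL.unique _ Y rfl hY')

include hU in
theorem stmtS1368_of : StmtS1368.{u} := by
  intro G _ _ hG M hM K U hKU hK1 Ms hMs hKst _
  obtain ⟨L, D⟩ := exists_partners hU hG hM hKU.hall hK1
  obtain rfl := D.eq_of_hall hU hG hK1 hMs hKst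
  exact ⟨D.inter, D.isCyclic hU hG hM hKU.hall⟩

include hU in
theorem stmtS1369_of : StmtS1369.{u} := by
  intro G _ _ hG M hM K U hKU hK1 Ms hMs hKst _
  obtain ⟨L, D⟩ := exists_partners hU hG hM hKU.hall hK1
  obtain rfl := D.eq_of_hall hU hG hK1 hMs hKst
  refine ⟨?_, fun H hH hHk => ?_⟩
  · by_cases hU1 : U = ⊥
    · exact Or.inr fun Us hUs hUs1 => (D.someP2.resolve_left fun h =>
        h (allKappaSigma_of_bot hU hG hM hKU hU1)) (allKappaSigma_of_bot hU hG D.maxL hUs hUs1)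
    · exact Or.inl hU1
  haveI : Group.IsSolvable H := minSimple_solvable hG (ne_top_of_le_maximal hH le_rfl)
  obtain ⟨W, hW, -⟩ := (CfsgLib.Coprime.hallD_of_solvable (G := H) (kappa H)).exists_le
    (U := (⊥ : Subgroup H)) (by
      intro t ht hd
      rw [card_bot] at hd
      exact absurd (Nat.dvd_one.1 hd) ht.ne_one)
  have hKH := CfsgLib.Coprime.piHallOf_map_subtype hW
  set KH := W.map H.subtype with hKHdef
  have hKH1 : KH ≠ ⊥ := fun h => by
    obtain ⟨q, hq⟩ := hHk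
    exact hKH.2.2 q hq.1 hq (by rw [h, relIndex_bot_left]; exact hq.2.1)
  obtain ⟨LH, DH⟩ := exists_partners hU hG hH hKH hKH1
  obtain ⟨a, ha1, ha2⟩ : ∃ a, a ∈ conjSet (zHat (K ⊔ kstar M K)) ∧
      a ∈ conjSet (zHat (KH ⊔ kstar H KH)) := by
    by_contra h
    push Not at h
    have hd : Disjoint (conjSet (zHat (K ⊔ kstar M K))) (conjSet (zHat (KH ⊔ kstar H KH))) :=
      Set.disjoint_left.2 h
    have h1 := Set.ncard_union_eq hd
    have h2 := Set.ncard_le_ncard (Set.subset_univ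
      (conjSet (zHat (K ⊔ kstar M K)) ∪ conjSet (zHat (KH ⊔ kstar H KH))))
    rw [Set.ncard_univ] at h2
    have h3 := D.half hU hG hM hKU.hall hK1
    have h4 := DH.half hU hG hH hKH hKH1
    omega
  obtain ⟨g, z, hz, rfl⟩ := ha1
  obtain ⟨w, y, hy, he⟩ := ha2
  obtain ⟨p, hp, hpd, hpH⟩ := DH.exists_part hU hG hH hKH hKH1 hy
  have ho : orderOf z = orderOf y := by
    have := congrArg orderOf he
    simpa [← MulAut.conj_apply, MulEquiv.orderOf_eq] using this
  obtain ⟨N, hN, hpN⟩ := exists_vertex_sigma hU hG hM hKU.hall hK1 hp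
    ((ho.symm ▸ hpd : p ∣ orderOf z).trans (orderOf_dvd_natCard _ hz.1))
  obtain ⟨c, hc⟩ := sigma_disjoint hU hG hN.1 hH hpN hpH
  rcases D.two N hN with rfl | rfl
  · exact ⟨c, Or.inl hc⟩
  · exact ⟨c, Or.inr hc⟩

include hU in
theorem stmtS1434_of : StmtS1434.{u} := by
  intro G _ _ hG M hM K U hKU hK1 Ms hMs hKst _
  obtain ⟨L, D⟩ := exists_partners hU hG hM hKU.hall hK1
  obtain rfl := D.eq_of_hall hU hG hK1 hMs hKst
  have hK := hKU.hall
  obtain ⟨E, U₁, DM⟩ := exists_kuData' hU hG hM hK hK1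
  have hKs1 : kstar M K ≠ ⊥ := fun h => D.pair.left_ne (D.sideM.trans h)
  obtain ⟨E', U₂, DL⟩ := exists_kuData' hU hG D.maxL D.hallL hKs1
  have hcyc := D.isCyclic hU hG hM hK
  haveI := hcyc
  have hcomm : IsMulCommutative ↥(K ⊔ kstar M K) := isMulCommutative_of_cyclic hcyc
  have hZC : ∀ w ∈ K ⊔ kstar M K, K ⊔ kstar M K ≤ centralizer ({w} : Set G) := fun w hw =>
    (le_centralizer_iff_isMulCommutative.2 hcomm).trans
      (centralizer_le (Set.singleton_subset_iff.2 hw))
  have hzhat := D.zHat_eq hU hG hM hK hK1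
  refine ⟨D.kappa_eq, ⟨D.sideM.ge.trans inf_le_right, fun q hq hd =>
    sigmaCore_primes hU hG hM hq (hd.trans (card_dvd_of_le inf_le_left)), fun q hq hσ hd => ?_⟩,
    ?_, ?_, ?_, ?_⟩
  · -- Hall `σ(M)`-subgroup
    haveI : Group.IsSolvable Ms := minSimple_solvable hG (ne_top_of_le_maximal D.maxL le_rfl)
    have hKsL : kstar M K ≤ Ms := D.sideM.ge.trans inf_le_right
    obtain ⟨W, hW, hle⟩ := (CfsgLib.Coprime.hallD_of_solvable (G := Ms) (sigma M)).exists_le
      (U := (kstar M K).subgroupOf Ms) fun t ht hdt => sigmaCore_primes hU hG hM ht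
        ((by rwa [CfsgLib.Base.card_subgroupOf hKsL] at hdt : t ∣ Nat.card (kstar M K)).trans
          (card_dvd_of_le inf_le_left))
    have hH := CfsgLib.Coprime.piHallOf_map_subtype hW
    set Hs := W.map Ms.subtype with hHsdef
    have hKH : kstar M K ≤ Hs := by
      rw [← map_subgroupOf_eq_of_le hKsL]
      exact map_mono hle
    have hne : Hs ⊓ kstar M K ≠ ⊥ := by
      rw [inf_eq_right.2 hKH]
      exact hKs1
    have hσH : Hs ≤ sigmaCore M := le_sigmaCore_of_meets hU hG hM hK hK1 DM hH.2.1 hne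
    have he : Hs = kstar M K := le_antisymm ((le_inf hσH hH.1).trans D.sideM.le) hKH
    exact hH.2.2 q hq hσ (he.symm ▸ hd)
  · intro x hx hx1 y hy hy1
    have hxZ : x ∈ K ⊔ kstar M K := (le_sup_left : K ≤ _ ⊔ _) hx
    have hyZ : y ∈ K ⊔ kstar M K := (le_sup_right : kstar M K ≤ K ⊔ kstar M K) hy
    refine ⟨le_antisymm ?_ (le_inf (D.inter.ge.trans inf_le_left) (hZC x hxZ)),
      le_antisymm ?_ (le_inf (D.inter.ge.trans inf_le_right) (hZC y hyZ)), ?_⟩
    · refine le_trans (inf_le_inf_left _ ?_) (DM.inf_normalizer_le (X := zpowers x)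
        (zpowers_le.2 hx) fun h => hx1 (zpowers_eq_bot.1 h))
      rw [← centralizer_zpowers']
      exact centralizer_le_normalizer _
    · refine (le_trans (inf_le_inf_left _ ?_) (DL.inf_normalizer_le (X := zpowers y)
        (zpowers_le.2 hy) fun h => hy1 (zpowers_eq_bot.1 h))).trans ?_
      · rw [← centralizer_zpowers']
        exact centralizer_le_normalizer _
      · rw [D.kstarL, sup_comm]
    · refine le_antisymm (fun g hg => ?_) (hZC _ (mul_mem hxZ hyZ))
      have hz : x * y ∈ zHat (K ⊔ kstar M K) := by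
        rw [hzhat]
        refine ⟨mul_mem hxZ hyZ, ?_⟩
        have hbot := inf_kstar_eq_bot hU hG hM hK
        rintro (h | h)
        · have h2 : y ∈ K ⊓ kstar M K := mem_inf.2 ⟨by simpa using mul_mem (inv_mem hx) h, hy⟩
          rw [hbot, mem_bot] at h2
          exact hy1 h2
        · have h2 : x ∈ K ⊓ kstar M K := mem_inf.2 ⟨hx, by simpa using mul_mem h (inv_mem hy)⟩
          rw [hbot, mem_bot] at h2
          exact hx1 h2
      refine mem_of_conj_mem hU hG hM hK hK1 hz ?_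
      rw [mem_centralizer_singleton'.1 hg, mul_inv_cancel_right]
      exact mul_mem hxZ hyZ
  · intro g hg z hz hzg
    rw [← hzhat] at hz
    obtain ⟨p, hp, hpd, hpM⟩ := D.exists_part hU hG hM hK hK1 hz
    haveI := Fact.mk hp
    obtain ⟨Y, hY, hYc⟩ := exists_le_zpowers_of_dvd hpd
    have hv : IsVertex (K ⊔ kstar M K) M := ⟨hM, K, hK, hK1, rfl⟩
    exact hg (mem_maximal_of_cj_eq hG hM (cj_eq_of_normalizer_le hU hG hM hpM
      (isPGroup_of_card_prime hYc) (ne_bot_of_card_prime hYc)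
      (IsVertex.normalizer_le hU hG hv hpM hYc (hY.trans (zpowers_le.2 hz.1))).1
      (hY.trans (zpowers_le.2 hzg))))
  · rw [← hzhat]
    change Nat.card K * Nat.card (kstar M K) * (conjSet (zHat (K ⊔ kstar M K))).ncard =
      (Nat.card K * Nat.card (kstar M K) - Nat.card K - Nat.card (kstar M K) + 1) * Nat.card G
    rw [ncard_conjSet hU hG hM hK hK1, ← (K ⊔ kstar M K).card_mul_index,
      card_sup_kstar hU hG hM hK]
    have h4 := D.ncard_zHat hU hG hM hK hK1
    obtain ⟨h1, h2, -, -, -⟩ := D.card_bounds hU hG hM hK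
    generalize Nat.card K = k at h1 h4
    generalize Nat.card (kstar M K) = l at h2 h4
    generalize (zHat (K ⊔ kstar M K)).ncard = c at h4
    have h5 : 3 * l ≤ k * l := Nat.mul_le_mul_right _ h1
    have h6 : 3 * k ≤ k * l := by rw [mul_comm k l]; exact Nat.mul_le_mul_right _ h2
    have h7 : k * l - k - l + 1 = c := by omega
    rw [h7]
    ring
  · rw [← hzhat]
    exact D.half hU hG hM hK hK1

end CfsgLib.FT.BG13
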