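import Cfsg.Agent.Lib.FT.BG13.Ideal
import Cfsg.Agent.Lib.FT.BG12.TwoElem

/-!
BG 13.1: a subgroup of prime order `p ∈ τ₁(M) ∪ τ₃(M)` and a maximal subgroup `M*` containing its
normaliser.
-/

set_option autoImplicit false
set_option linter.style.haveILetI false

universe u

namespace CfsgLib.FT.BG13

open Cfsg CfsgLib.OddOrder CfsgLib.Techniques _root_.Subgroup
open scoped commutatorElement

variable {G : Type u} [Group G] [Finite G]

/-- `E ∩ M' = E'` for a complement `E` of `M_σ`. -/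
theorem compl_inf_derived {M E : Subgroup G} (hE : IsComplIn E (sigmaCore M) M) :
    E ⊓ ⁅M, M⁆ ≤ ⁅E, E⁆ := by
  have hle : ⁅M, M⁆ ≤ ⁅E, E⁆ ⊔ sigmaCore M := by
    have h := map_mono (f := M.subtype) (derived_le_sigmaCore_sup hE)
    rwa [map_commutator_subtype, Subgroup.map_sup, map_commutator, map_subgroupOf_eq_of_le hE.1,
      show (piCore (sigma M) ↥M).map M.subtype = sigmaCore M from rfl] at h
  rintro x ⟨hxE, hxD⟩
  obtain ⟨a, ha, b, hb, rfl⟩ := (CfsgLib.Coprime.mem_sup_iff_of_le_normalizer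
    (((commutator_le_self E).trans hE.1).trans (le_normalizer_sigmaCore M))).1 (hle hxD)
  have hbE : b ∈ E := by
    simpa using E.mul_mem (E.inv_mem (commutator_le_self E ha)) hxE
  have : b ∈ (⊥ : Subgroup G) := hE.2.2.1 ▸ mem_inf.2 ⟨hbE, hb⟩
  rw [mem_bot.1 this, mul_one]
  exact ha

variable (hU : Upstream.{u}) (hG : IsMinSimpleOddOrder G) {M : Subgroup G} (hM : IsCoatom M)
variable {p : ℕ} [hp : Fact p.Prime] {P : Subgroup G} (hP : Nat.card P = p) {Mstar : Subgroup G}
variable (hMs : IsCoatom Mstar) (hN : normalizer (P : Set G) ≤ Mstar)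

include hU hG hP hMs hN in
theorem sigma_or_tau2 : p ∈ sigma Mstar ∨ p ∈ tau2 Mstar :=
  BG12.sigma_or_tau2_of_normalizer_le hU.s1403 hG hMs (isPGroup_of_card_prime hP)
    (ne_bot_of_card_prime hP) hN

include hU hG hP in
/-- A subgroup of prime order `r ∈ τ₁(M) ∪ τ₃(M)` has its normaliser outside `M`. -/
theorem not_normalizer_le (hM : IsCoatom M) (hpt : Tau13 M p) :
    ¬ normalizer (P : Set G) ≤ M := fun h => by
  rcases sigma_or_tau2 hU hG hP hM h with h' | h'
  · exact hpt.2.1 h'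
  · exact h'.2.2.2 hpt.2.2.2

variable (hpt : Tau13 M p)

include hU hG hP hMs hN hpt in
/-- BG 13.1 (a). -/
theorem not_conj (g : G) : Mstar ≠ cj g M := by
  rintro rfl
  rcases sigma_or_tau2 hU hG hP hMs hN with h | h
  · exact hpt.2.1 (by rwa [sigma_cj] at h)
  · rw [show cj g M = M.map (MulAut.conj g).toMonoidHom from rfl, tau2_map] at h
    exact h.2.2.2 hpt.2.2.2

include hU hG hP hMs hN hpt in
theorem not_conj' (g : G) : M ≠ cj g Mstar :=
  BG12.not_conj_symm (not_conj hU hG hP hMs hN hpt) g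

omit hp hP hMs hN hpt in
theorem inter_le_normalizer (M Mstar : Subgroup G) :
    M ⊓ Mstar ≤ normalizer ((sigmaCore M ⊓ Mstar : Subgroup G) : Set G) :=
  CfsgLib.Coprime.le_normalizer_inf_inf (inf_le_left.trans (le_normalizer_sigmaCore M))
    (inf_le_right.trans le_normalizer)

include hU hG hM hP hMs hN hpt in
/-- BG 13.1: if `p ∈ τ₂(M*)` then `M ∩ M*` centralises `M_σ ∩ M*`. -/
theorem commutator_eq_bot_of_tau2 (h2 : p ∈ tau2 Mstar) :
    ⁅sigmaCore M ⊓ Mstar, M ⊓ Mstar⁆ = ⊥ := by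
  obtain ⟨A, hAM, hA, hA2⟩ := exists_elementary_sq h2.2.2.2
  have hAp : IsPGroup p A := CfsgLib.Base.isPGroup_of_isElementaryAbelian hA
  have hnil := (hU.s1417 hG Mstar hMs p h2 A ⟨hAM, hA, hA2⟩).1
  set D := ⁅sigmaCore M ⊓ Mstar, M ⊓ Mstar⁆ with hD
  have hDH : D ≤ sigmaCore M ⊓ Mstar :=
    CfsgLib.Coprime.commutator_le_of_le_normalizer (inter_le_normalizer M Mstar)
  have hDσ : ∀ q : ℕ, q.Prime → q ∣ Nat.card D → q ∈ sigma M := fun q hq hd =>
    sigmaCore_primes hU hG hM hq (hd.trans (card_dvd_of_le (hDH.trans inf_le_left)))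
  have hDσ' : ∀ q : ℕ, q.Prime → q ∣ Nat.card D → q ∉ sigma Mstar := fun q hq hd h =>
    not_sigma_of_nilpotent hG hMs hM hU h (hDσ q hq hd) hnil
      (not_conj' hU hG hP hMs hN hpt)
  obtain ⟨E, hE, hDE⟩ := exists_compl_ge hU hG hMs (hDH.trans inf_le_right) hDσ'
  obtain ⟨E₁, hE₁, hAE₁⟩ := exists_compl_ge hU hG hMs hAM
    (fun q hq hd => eq_of_dvd_card_pGroup hAp hq hd ▸ h2.2.1)
  obtain ⟨a, -, ha⟩ := compl_conj hU hG hMs hE₁ hE
  set B := cj a A with hB
  have hBE : B ≤ E := ha ▸ cj_mono hAE₁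
  have hBea : IsElementaryAbelian p B := CfsgLib.Base.isElementaryAbelian_map _ hA
  have hB2 : Nat.card B = p ^ 2 := (card_cj a A).trans hA2
  have hBp : IsPGroup p B := CfsgLib.Base.isPGroup_of_isElementaryAbelian hBea
  have hEB : E ≤ normalizer (B : Set G) :=
    (hU.s1418 hG Mstar hMs E hE p h2 B ⟨hBE, hBea, hB2⟩).1.1
  have hDE' : D ≤ ⁅E, E⁆ := le_trans (le_inf hDE (commutator_mono inf_le_right inf_le_right))
    (compl_inf_derived hE)
  have hcop : (Nat.card D).Coprime (Nat.card B) := Nat.Coprime.symm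
    (coprime_of_pGroup hBp fun hd => hpt.2.1 (hDσ p hp.out hd))
  have hDB : D ≤ normalizer (B : Set G) := hDE.trans hEB
  haveI hab := (hU.s1420 hG Mstar hMs E hE).2.1
  have hBD : ⁅B, D⁆ = ⊥ := by
    rw [← CfsgLib.Coprime.commutator_commutator_eq hDB hcop
      (Or.inr (minSimple_solvable hG (isPGroup_ne_top hG hBp))),
      commutator_eq_bot_iff_le_centralizer]
    exact (commutator_mono hBE hDE).trans
      ((le_centralizer_iff_isMulCommutative.2 hab).trans (centralizer_le hDE'))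
  by_contra hne
  obtain ⟨q, hq, hqd, Y, hYD, hY⟩ := exists_card_prime hne
  haveI := Fact.mk hq
  have hBY : B ≤ normalizer (Y : Set G) := by
    refine ((commutator_eq_bot_iff_le_centralizer.1 hBD).trans ?_)
    exact (centralizer_le hYD).trans (centralizer_le_normalizer _)
  obtain ⟨g, hg⟩ := exists_cj_le_of_not_ideal hU hG hM (hDσ q hq hqd) (isPGroup_of_card_prime hY)
    (ne_bot_of_card_prime hY) hBp hBY hpt.2.2.1 (not_ideal_of_tau2 hU hG hMs h2)
  refine BG12.not_isCyclic_of_sq (p := p) (A := cj g B) ?_ ((card_cj g B).trans hB2)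
    (isCyclic_of_pGroup_le hG hpt.2.2.2 hg (isPGroup_cj hBp))
  exact CfsgLib.Base.isElementaryAbelian_map _ hBea

include hU hG hM hP hMs hN hpt in
/-- BG 13.1 (b): the `p`-subgroups of `M ∩ M*` centralise `M_σ ∩ M*`. -/
theorem pGroup_le_centralizer {X : Subgroup G} (hXM : X ≤ M ⊓ Mstar) (hX : IsPGroup p X) :
    X ≤ centralizer ((sigmaCore M ⊓ Mstar : Subgroup G) : Set G) := by
  set H := sigmaCore M ⊓ Mstar with hH
  have hXH : X ≤ normalizer (H : Set G) := hXM.trans (inter_le_normalizer M Mstar)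
  rw [← commutator_eq_bot_iff_le_centralizer, commutator_comm]
  rcases sigma_or_tau2 hU hG hP hMs hN with hs | h2
  · have hcop : (Nat.card X).Coprime (Nat.card H) := coprime_of_pGroup hX fun hd =>
      hpt.2.1 (sigmaCore_primes hU hG hM hp.out (hd.trans (card_dvd_of_le inf_le_left)))
    have hle : ⁅H, X⁆ ≤ H := CfsgLib.Coprime.commutator_le_of_le_normalizer hXH
    have hXs : X ≤ sigmaCore Mstar :=
      pGroup_le_sigmaCore hU hG hMs hs hX (hXM.trans inf_le_right)
    have h1 : X ≤ centralizer ((⁅H, X⁆ : Subgroup G) : Set G) :=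
      centralizes_of_alpha hU hG hMs (hXs.trans (sigmaCore_le_derived hU.s1403 hG hMs))
        (commutator_mono inf_le_right (hXM.trans inf_le_right))
        (normalizer_commutator_ge_right H X) (hcop.coprime_dvd_right (card_dvd_of_le hle))
        fun q hq hd hα => not_sigma_of_alpha hU hG hM hMs (sigmaCore_primes hU hG hM hq
          (hd.trans (card_dvd_of_le (hle.trans inf_le_left)))) hα
          (not_conj hU hG hP hMs hN hpt)
    rw [← CfsgLib.Coprime.commutator_commutator_eq hXH hcop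
      (Or.inl (minSimple_solvable hG (isPGroup_ne_top hG hX))), commutator_comm,
      commutator_eq_bot_iff_le_centralizer]
    exact h1
  · exact le_bot_iff.1 ((commutator_mono le_rfl hXM).trans
      (commutator_eq_bot_of_tau2 hU hG hM hP hMs hN hpt h2).le)

include hU hG hM hP hMs hN in
/-- BG 13.1 (c): if `p ∈ τ₁(M)` and `M ∩ M*` does not centralise `M_σ ∩ M*` then `p ∈ β(M*)`. -/
theorem mem_beta_of_tau1 (h1 : p ∈ tau1 M)
    (hne : ⁅sigmaCore M ⊓ Mstar, M ⊓ Mstar⁆ ≠ ⊥) : p ∈ beta Mstar := by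
  have hpt := tau13_of_tau1 h1
  have hs : p ∈ sigma Mstar := (sigma_or_tau2 hU hG hP hMs hN).resolve_right fun h =>
    hne (commutator_eq_bot_of_tau2 hU hG hM hP hMs hN hpt h)
  refine by_contra fun hb => ?_
  have hni : ¬ IsIdealPrime p G := fun h => hb (beta_of_ideal hs h)
  obtain ⟨q, hq, hqd⟩ := Nat.exists_prime_and_dvd fun h => hne (eq_bot_of_card_eq _ h)
  haveI := Fact.mk hq
  have hDH : ⁅sigmaCore M ⊓ Mstar, M ⊓ Mstar⁆ ≤ sigmaCore M ⊓ Mstar :=
    CfsgLib.Coprime.commutator_le_of_le_normalizer (inter_le_normalizer M Mstar)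
  have hqM : q ∈ sigma M :=
    sigmaCore_primes hU hG hM hq (hqd.trans (card_dvd_of_le (hDH.trans inf_le_left)))
  have hqβ : q ∉ beta Mstar := fun h =>
    not_sigma_of_alpha hU hG hM hMs hqM h.1 (not_conj hU hG hP hMs hN hpt)
  have hqD : q ∣ Nat.card ↥⁅Mstar, Mstar⁆ :=
    hqd.trans (card_dvd_of_le (commutator_mono inf_le_right inf_le_right))
  have hpD : p ∣ Nat.card ↥⁅Mstar, Mstar⁆ := by
    have := pGroup_le_sigmaCore hU hG hMs hs (isPGroup_of_card_prime hP) (le_normalizer.trans hN)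
    rw [← hP]
    exact card_dvd_of_le (this.trans (sigmaCore_le_derived hU.s1403 hG hMs))
  -- inside `M*`
  obtain ⟨hβ, -, ⟨H₀, hH₀, hH₀n⟩, -⟩ := hU.s1414 hG Mstar hMs
  haveI := maximal_solvable hG hMs
  set B := piCore (beta Mstar) ↥Mstar with hB
  set D := commutator ↥Mstar with hD
  set π : Set ℕ := {q | q.Prime ∧ q ∉ beta Mstar} with hπ
  set H := H₀.subgroupOf Mstar with hH
  have hH₀M : H₀ ≤ Mstar := hH₀.1.trans (derived_le Mstar)
  have hD' : D = ⁅Mstar, Mstar⁆.subgroupOf Mstar := by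
    rw [← map_commutator_subtype, ← comap_subtype,
      comap_map_eq_self_of_injective Mstar.subtype_injective]
  have hHD : H ≤ D := by rw [hD']; exact fun x hx => hH₀.1 hx
  have hHD' : IsPiHallOf π H D := by
    refine ⟨hHD, fun r hr hd => hH₀.2.1 r hr (by rwa [CfsgLib.Base.card_subgroupOf hH₀M] at hd),
      fun r hr hrπ hd => hH₀.2.2 r hr hrπ ?_⟩
    rwa [hD', relIndex_subgroupOf (H := H₀) (derived_le Mstar)] at hd
  have hHn : Group.IsNilpotent H := by
    haveI := hH₀n
    exact Group.nilpotent_of_mulEquiv (subgroupOfEquivOfLe hH₀M).symm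
  have hfr : D ⊔ normalizer (H : Set ↥Mstar) = ⊤ :=
    (CfsgLib.Coprime.hallD_of_solvable (G := D) π).frattini hHD
      (CfsgLib.Coprime.piHallOf_iff.1 hHD').2
  have hBhall : IsPiHall (beta Mstar) B := by
    have := (CfsgLib.Coprime.piHallOf_iff.1 hβ).2
    rwa [piCoreOf, ← comap_subtype, comap_map_eq_self_of_injective Mstar.subtype_injective] at this
  have hmap : D.map (QuotientGroup.mk' B) = H.map (QuotientGroup.mk' B) :=
    map_eq_of_hall hBhall hHD'
  set N := normalizer (H : Set ↥Mstar) with hNdef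
  have hN' : D ≤ ⁅N, N⁆ ⊔ B := by
    have htop : N.map (QuotientGroup.mk' B) = ⊤ := by
      rw [← map_top_of_surjective _ (QuotientGroup.mk'_surjective B), ← hfr, Subgroup.map_sup, hmap,
        right_eq_sup]
      exact map_mono le_normalizer
    rw [← CfsgLib.Base.comap_map_mk' B, ← map_le_iff_le_comap, hD, _root_.commutator_def,
      map_commutator, map_commutator, htop,
      map_top_of_surjective _ (QuotientGroup.mk'_surjective B)]
  have hpN : p ∣ Nat.card ↥⁅N, N⁆ := by
    have hD2 : Nat.card D = Nat.card ↥⁅Mstar, Mstar⁆ := by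
      rw [← map_commutator_subtype, CfsgLib.Base.card_map_subtype]
    have h := (hD2 ▸ hpD).trans ((card_dvd_of_le hN').trans (CfsgLib.Base.card_sup_dvd _ _))
    exact (hp.out.dvd_mul.1 h).resolve_right fun h' => hb (hBhall.1 p hp.out h')
  have hqH : q ∣ Nat.card H := by
    rw [CfsgLib.Base.card_subgroupOf hH₀M]
    have h := Subgroup.relIndex_mul_relIndex _ _ _ bot_le hH₀.1
    rw [relIndex_bot_left, relIndex_bot_left] at h
    exact (hq.dvd_mul.1 (h ▸ hqD)).resolve_right fun h' => hH₀.2.2 q hq ⟨hq, hqβ⟩ h'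
  obtain ⟨S⟩ : Nonempty (Sylow q H) := inferInstance
  haveI := hHn
  haveI : (S : Subgroup H).Normal :=
    S.normal_of_normalizerCondition Group.normalizerCondition_of_isNilpotent
  haveI := S.characteristic_of_normal ‹_›
  set Q := ((S : Subgroup H).map H.subtype).map Mstar.subtype with hQ
  have hNQ : ⁅N, N⁆.map Mstar.subtype ≤ ⁅normalizer (Q : Set G), normalizer (Q : Set G)⁆ := by
    have h := (map_mono (f := Mstar.subtype) (CfsgLib.Base.normalizer_le_normalizer_map_subtype H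
      (S : Subgroup H))).trans (le_normalizer_map Mstar.subtype)
    rw [map_commutator]
    exact commutator_mono h h
  refine not_dvd_derived_normalizer hU hG hM h1 hqM (Q := Q) ((S.isPGroup'.map _).map _) ?_ hni ?_
  · intro hbot
    have h0 : Nat.card Q = Nat.card (S : Subgroup H) := by
      rw [hQ, CfsgLib.Base.card_map_subtype, CfsgLib.Base.card_map_subtype]
    rw [hbot, card_bot] at h0
    exact hq.not_dvd_one (h0 ▸ S.dvd_card_of_dvd_card hqH)
  · refine hpN.trans ?_
    rw [← CfsgLib.Base.card_map_subtype]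
    exact card_dvd_of_le hNQ

end CfsgLib.FT.BG13
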