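import Cfsg.Agent.Lib.FT.BG13.S131
import Cfsg.Agent.Lib.FT.BG13.FixLemmas
import Cfsg.Agent.Lib.FT.Sigma10

/-!
BG 13.3 and 13.4.
-/

set_option autoImplicit false
set_option linter.style.haveILetI false

universe u

namespace CfsgLib.FT.BG13

open Cfsg CfsgLib.OddOrder CfsgLib.Techniques _root_.Subgroup
open scoped commutatorElement

variable {G : Type u} [Group G] [Finite G]
variable (hU : Upstream.{u}) (hG : IsMinSimpleOddOrder G) {M : Subgroup G} (hM : IsCoatom M)

omit [Finite G] in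
theorem centralizer_le_of_normalizer_le {X L : Subgroup G} (h : normalizer (X : Set G) ≤ L) :
    centralizer (X : Set G) ≤ L :=
  (centralizer_le_normalizer _).trans h

include hU hG hM in
/-- For `r ∈ τ₁(M) ∪ τ₃(M)` the fixed points in `M_α` of a subgroup of order `r` have rank one. -/
theorem rankLE_alpha_centralizer {r : ℕ} [Fact r.Prime] (hrt : Tau13 M r) {R : Subgroup G}
    (hR : Nat.card R = r) (hRM : R ≤ M) :
    RankLE 1 ↥(alphaCore M ⊓ centralizer (R : Set G)) := by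
  refine by_contra fun hrk => ?_
  have hα : ∀ q : ℕ, q.Prime → q ∣ Nat.card R → q ∉ alpha M := fun q hq hd h =>
    hrt.2.1 (eq_of_dvd_card_pGroup (isPGroup_of_card_prime hR) hq hd ▸ alpha_mem_sigma hU hG hM h)
  have hu := stmtS1406_of hU.s1403 hG M hM R hRM hα hrk
  refine not_normalizer_le hU hG hR hM hrt ?_
  exact le_of_inUniqueMaximal hu hM inf_le_left
    (inf_le_right.trans (centralizer_le_normalizer _))
    (minSimple_normalizer_ne_top hG (ne_bot_of_card_prime hR)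
      (isPGroup_ne_top hG (isPGroup_of_card_prime hR)))

include hU hG hM in
/-- The same for an invariant `s`-subgroup of `M_α`. -/
theorem isCyclic_alpha_centralizer {r s : ℕ} [Fact r.Prime] [hs : Fact s.Prime] (hrt : Tau13 M r)
    {R S : Subgroup G} (hR : Nat.card R = r) (hRM : R ≤ M) (hS : IsPGroup s S)
    (hSα : S ≤ alphaCore M) : IsCyclic ↥(S ⊓ centralizer (R : Set G)) := by
  by_cases h1 : S ⊓ centralizer (R : Set G) = ⊥
  · rw [h1]
    exact isCyclic_of_subsingleton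
  have hsp := hS.to_le (inf_le_left : S ⊓ centralizer (R : Set G) ≤ S)
  have hle : S ⊓ centralizer (R : Set G) ≤ alphaCore M ⊓ centralizer (R : Set G) :=
    inf_le_inf_right _ hSα
  exact isCyclic_of_pRankLE_one
    (minSimple_ne_two hG ((dvd_of_pGroup_ne_bot hsp h1).trans (card_subgroup_dvd_card _))) hsp
    (CfsgLib.Base.pRankLE_of_injective (inclusion hle) (inclusion_injective hle)
      (rankLE_alpha_centralizer hU hG hM hrt hR hRM s hs.out))

include hU hG hM in
/-- BG 13.4, first half: the consequences of `R` not centralising `C_{M_σ}(P)`. -/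
theorem stage_one {p r q : ℕ} [hp : Fact p.Prime] [hr : Fact r.Prime] [hq : Fact q.Prime]
    (hp1 : p ∈ tau1 M) {P R Q : Subgroup G} (hP : Nat.card P = p) (hPM : P ≤ M)
    (hR : Nat.card R = r) (hRM : R ≤ M) (hRP : R ≤ centralizer (P : Set G)) (hrσ : r ∉ sigma M)
    (hQ : IsPGroup q Q) (hQ1 : Q ≠ ⊥) (hQW : Q ≤ sigmaCore M ⊓ centralizer (P : Set G))
    (hRQ : R ≤ normalizer (Q : Set G)) (hQR : ⁅Q, R⁆ = Q) {Mstar : Subgroup G}
    (hMs : IsCoatom Mstar) (hN : normalizer (P : Set G) ≤ Mstar) :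
    (∀ g : G, Mstar ≠ cj g M) ∧ q ∈ sigma Mstar ∧ normalizer (Q : Set G) ≤ Mstar ∧ r ∈ tau1 M ∧
      alpha M = beta M ∧ alphaCore M ≠ ⊥ := by
  have hpt := tau13_of_tau1 hp1
  have hnc := not_conj hU hG hP hMs hN hpt
  have hPp := isPGroup_of_card_prime hP
  have hRr := isPGroup_of_card_prime hR
  have hPMs : P ≤ Mstar := le_normalizer.trans hN
  have hQMs : Q ≤ Mstar := hQW.trans (inf_le_right.trans (centralizer_le_of_normalizer_le hN))
  have hRMs : R ≤ Mstar := hRP.trans (centralizer_le_of_normalizer_le hN)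
  have hqM : q ∈ sigma M := sigmaCore_primes hU hG hM hq.out
    ((dvd_of_pGroup_ne_bot hQ hQ1).trans (card_dvd_of_le (hQW.trans inf_le_left)))
  have hQH : Q ≤ sigmaCore M ⊓ Mstar := le_inf (hQW.trans inf_le_left) hQMs
  have hne : ⁅sigmaCore M ⊓ Mstar, M ⊓ Mstar⁆ ≠ ⊥ := fun h => hQ1 <| le_bot_iff.1
    (hQR.ge.trans ((commutator_mono hQH (le_inf hRM hRMs)).trans h.le))
  have hpβ := mem_beta_of_tau1 hU hG hM hP hMs hN hp1 hne
  have hpσ : p ∈ sigma Mstar := beta_mem_sigma hU hG hMs hpβ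
  have hQD : Q ≤ ⁅Mstar, Mstar⁆ := hQR.ge.trans (commutator_mono hQMs hRMs)
  have hrq : r ≠ q := fun h => hrσ (h ▸ hqM)
  have hqα : q ∉ alpha Mstar := fun h => not_sigma_of_alpha hU hG hM hMs hqM h hnc
  -- `R` is not in `M*'`
  have hRD : ¬ R ≤ ⁅Mstar, Mstar⁆ := by
    intro h
    have h1 := centralizes_of_alpha hU hG hMs h hQD hRQ (coprime_of_pGroups hRr hQ hrq)
      fun q' hq' hd => eq_of_dvd_card_pGroup hQ hq' hd ▸ hqα
    rw [← commutator_eq_bot_iff_le_centralizer, commutator_comm, hQR] at h1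
    exact hQ1 h1
  have hrσs : r ∉ sigma Mstar := fun h =>
    hRD ((pGroup_le_sigmaCore hU hG hMs h hRr hRMs).trans (sigmaCore_le_derived hU.s1403 hG hMs))
  have hrMs : r ∣ Nat.card Mstar := hR ▸ card_dvd_of_le hRMs
  have hr13 : Tau13 Mstar r := by
    refine (tau_cases hU hG hMs hrMs hrσs).resolve_right fun h2 => ?_
    obtain ⟨A₀, hA₀M, hA₀, hA₀2⟩ := exists_elementary_sq h2.2.2.2
    have hA₀p : IsPGroup r A₀ := CfsgLib.Base.isPGroup_of_isElementaryAbelian hA₀
    obtain ⟨hnil, -, hnorm, -⟩ := hU.s1417 hG Mstar hMs r h2 A₀ ⟨hA₀M, hA₀, hA₀2⟩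
    obtain ⟨E, hE, hRE⟩ := exists_compl_ge hU hG hMs hRMs
      fun t ht hd => eq_of_dvd_card_pGroup hRr ht hd ▸ hrσs
    obtain ⟨E₁, hE₁, hAE₁⟩ := exists_compl_ge hU hG hMs hA₀M
      fun t ht hd => eq_of_dvd_card_pGroup hA₀p ht hd ▸ hrσs
    obtain ⟨a, ha, he⟩ := compl_conj hU hG hMs hE₁ hE
    set A := cj a A₀
    have hAE : A ≤ E := he ▸ cj_mono hAE₁
    have hA : IsElementaryAbelian r A := CfsgLib.Base.isElementaryAbelian_map _ hA₀
    have hAp : IsPGroup r A := CfsgLib.Base.isPGroup_of_isElementaryAbelian hA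
    have hA2 : Nat.card A = r ^ 2 := (card_cj a A₀).trans hA₀2
    have hRA : R ≤ A := (hU.s1418 hG Mstar hMs E hE r h2 A ⟨hAE, hA, hA2⟩).1.2 R hRE hR
    have hn := (hU.s1417 hG Mstar hMs r h2 A ⟨hAE.trans hE.1, hA, hA2⟩).2.2.1
    have hQle : Q ≤ sigmaCore Mstar ⊔ A := hQR.ge.trans (commutator_le.2 fun x hx y hy => by
      rw [commutatorElement_def]
      exact mul_mem ((mem_normalizer_iff.1 (hn (hQMs hx)) y).1 (mem_sup_right (hRA hy)))
        (inv_mem (mem_sup_right (hRA hy))))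
    have hQs : Q ≤ sigmaCore Mstar :=
      BG12.le_of_mul_pgroup hAp ((hAE.trans hE.1).trans (le_normalizer_sigmaCore Mstar)) hQle
        fun hd => hrq (eq_of_dvd_card_pGroup hQ hr.out hd)
    exact not_sigma_of_nilpotent hG hMs hM hU (sigmaCore_primes hU hG hMs hq.out
      ((dvd_of_pGroup_ne_bot hQ hQ1).trans (card_dvd_of_le hQs))) hqM hnil
      (not_conj' hU hG hP hMs hN hpt)
  have hr1s : r ∈ tau1 Mstar := (tau13_iff.1 hr13).resolve_right fun h =>
    hRD (le_derived_of_tau3 hU hG hMs h hRr hRMs)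
  -- an invariant Sylow subgroup of `M*_α` containing `P`
  have hPα : P ≤ alphaCore Mstar :=
    le_of_normal_hall (le_normalizer_alphaCore Mstar) (alphaCore_hall hU.s1403 hG hMs) hPMs
      fun t ht hd => eq_of_dvd_card_pGroup hPp ht hd ▸ hpβ.1
  have hαN : Q ⊔ R ≤ normalizer (alphaCore Mstar : Set G) :=
    (sup_le hQMs hRMs).trans (le_normalizer_alphaCore Mstar)
  have hQRc : Q ⊔ R ≤ centralizer (P : Set G) := sup_le (hQW.trans inf_le_right) hRP
  have hcop : (Nat.card ↥(Q ⊔ R)).Coprime (Nat.card (alphaCore Mstar)) := by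
    have hd : Nat.card ↥(Q ⊔ R) ∣ Nat.card R * Nat.card Q := by
      rw [sup_comm]; exact CfsgLib.Coprime.card_sup_dvd hRQ
    refine Nat.Coprime.coprime_dvd_left hd (Nat.Coprime.mul_left ?_ ?_)
    · exact coprime_of_pGroup hRr fun h => hrσs (alpha_mem_sigma hU hG hMs
        ((alphaCore_hall hU.s1403 hG hMs).2.1 r hr.out h))
    · exact coprime_of_pGroup hQ fun h => hqα ((alphaCore_hall hU.s1403 hG hMs).2.1 q hq.out h)
  obtain ⟨T', hPT, hTn⟩ := CfsgLib.Coprime.exists_invariant_sylow_ge hαN hcop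
    (Or.inr (minSimple_solvable hG (ne_top_of_le_maximal hMs (alphaCore_le Mstar)))) hPα hPp
    (hQRc.trans (centralizer_le_normalizer _))
  set T := (T' : Subgroup (alphaCore Mstar)).map (alphaCore Mstar).subtype with hT
  have hTp : IsPGroup p T := T'.isPGroup'.map _
  have hTα : T ≤ alphaCore Mstar := map_subtype_le _
  have hTM : SylIn p T Mstar := by
    refine ⟨hTα.trans (alphaCore_le _), hTp, fun h => ?_⟩
    rw [← relIndex_mul_relIndex _ _ _ hTα (alphaCore_le Mstar)] at h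
    rcases hp.out.dvd_mul.1 h with h | h
    · exact (sylIn_sylow_map T').not_dvd h
    · exact (alphaCore_hall hU.s1403 hG hMs).2.2 p hp.out hpβ.1 h
  have hp2 : p ≠ 2 := minSimple_ne_two hG (hP ▸ card_subgroup_dvd_card P)
  have hpr : r ≠ p := fun h => hrσs (h ▸ hpσ)
  have hpq : p ≠ q := fun h => hqα (h ▸ hpβ.1)
  have hQT : Q ≤ centralizer (T : Set G) := by
    obtain ⟨x, hx⟩ := exists_prime_orderOf_dvd_card' p (dvd_of_eq hP.symm)
    refine le_centralizer_of_cyclic_fix hp2 hr.out hR hTp hpr (le_sup_right.trans hTn)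
      (le_sup_left.trans hTn) hRQ (minSimple_solvable hG (isPGroup_ne_top hG hQ))
      (hG.1.of_dvd_nat (card_subgroup_dvd_card Q))
      (fun hd => hrq (eq_of_dvd_card_pGroup hQ hr.out hd))
      (fun hd => hpq (eq_of_dvd_card_pGroup hQ hp.out hd)) hQR
      (isCyclic_alpha_centralizer hU hG hMs hr13 hR hRMs hTp hTα) (hPT x.2)
      (by rw [orderOf_coe, hx]) ?_ ?_
    · exact le_centralizer_iff.1 hRP x.2
    · exact le_centralizer_iff.1 (hQW.trans inf_le_right) x.2
  have hNQ : normalizer (Q : Set G) ≤ Mstar :=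
    le_of_inUniqueMaximal
      (inUniqueMaximal_of_pRank hU.s1403 hG hp.out (isPGroup_ne_top hG hTp)
        fun h => hpβ.1.2 ((pRankLE_iff_sylIn hTM).2 h))
      hMs hTM.le ((le_centralizer_iff.1 hQT).trans (centralizer_le_normalizer _))
      (minSimple_normalizer_ne_top hG hQ1 (isPGroup_ne_top hG hQ))
  have hMsM : Mstar ≠ M := fun h => hnc 1 (by rw [h, cj_one])
  obtain ⟨hd, he⟩ := hU.p1215 hG M hM q hqM Q hQ hQ1 (hQW.trans (inf_le_left.trans (sigmaCore_le M)))
    Mstar hMs hMsM hNQ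
  have hqs : q ∈ sigma Mstar := by
    refine by_contra fun hqs => ne_bot_of_card_prime hP (le_bot_iff.1 ?_)
    rw [← (he hqs).2.2.2.2.1]
    exact le_inf (le_inf hPM hPMs) (pGroup_le_sigmaCore hU hG hMs hpσ hPp hPMs)
  obtain ⟨hτ, -, hαβ, hα1⟩ := hd hqs
  refine ⟨hnc, hqs, hNQ, ?_, hαβ, hα1⟩
  exact ((Set.mem_union _ _ _).1 (hτ r hr1s)).resolve_right
    fun h => hrσ (alpha_mem_sigma hU hG hM h)

include hU hG hM in
/-- BG 13.4: for `p ∈ τ₁(M)`, subgroups of prime order of `C_M(P)` outside `M_σ` centralise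
`C_{M_σ}(P)`. -/
theorem centralizer_le_centralizer {p r : ℕ} [hp : Fact p.Prime] [hr : Fact r.Prime]
    (hp1 : p ∈ tau1 M) {P R : Subgroup G} (hP : Nat.card P = p) (hPM : P ≤ M) (hR : Nat.card R = r)
    (hRM : R ≤ M) (hRP : R ≤ centralizer (P : Set G)) (hrσ : r ∉ sigma M) :
    sigmaCore M ⊓ centralizer (P : Set G) ≤ centralizer (R : Set G) := by
  set W := sigmaCore M ⊓ centralizer (P : Set G) with hW
  refine by_contra fun hnW => ?_
  have hPp := isPGroup_of_card_prime hP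
  have hRr := isPGroup_of_card_prime hR
  have hRW : R ≤ normalizer (W : Set G) :=
    CfsgLib.Coprime.le_normalizer_inf_inf (hRM.trans (le_normalizer_sigmaCore M))
      (hRP.trans le_normalizer)
  have hWM : W ≤ M := inf_le_left.trans (sigmaCore_le M)
  have hcopW : (Nat.card R).Coprime (Nat.card W) := coprime_of_pGroup hRr fun hd =>
    hrσ (sigmaCore_primes hU hG hM hr.out (hd.trans (card_dvd_of_le inf_le_left)))
  have hWs := minSimple_solvable hG (ne_top_of_le_maximal hM hWM)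
  obtain ⟨q, hq, hqd⟩ := Nat.exists_prime_and_dvd
    (n := (W ⊓ centralizer (R : Set G)).relIndex W) fun h =>
    hnW ((relIndex_eq_one.1 h).trans inf_le_right)
  haveI := Fact.mk hq
  obtain ⟨Q', hQn⟩ := CfsgLib.Coprime.exists_invariant_sylow (p := q) hRW hcopW (Or.inr hWs)
  set Q₀ := (Q' : Subgroup W).map W.subtype with hQ₀
  have hQ₀W : Q₀ ≤ W := map_subtype_le _
  have hQ₀p : IsPGroup q Q₀ := Q'.isPGroup'.map _
  have hQ₀R : ¬ Q₀ ≤ centralizer (R : Set G) := fun h => (sylIn_sylow_map Q').not_dvd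
    (hqd.trans (relIndex_dvd_of_le_left W (le_inf hQ₀W h)))
  have hcop₀ : (Nat.card R).Coprime (Nat.card Q₀) := hcopW.coprime_dvd_right (card_dvd_of_le hQ₀W)
  set Q := ⁅Q₀, R⁆ with hQ
  have hQQ₀ : Q ≤ Q₀ := CfsgLib.Coprime.commutator_le_of_le_normalizer hQn
  have hQp : IsPGroup q Q := hQ₀p.to_le hQQ₀
  have hQ1 : Q ≠ ⊥ := fun h => hQ₀R (commutator_eq_bot_iff_le_centralizer.1 h)
  have hRQ : R ≤ normalizer (Q : Set G) := normalizer_commutator_ge_right Q₀ R
  have hQR : ⁅Q, R⁆ = Q := CfsgLib.Coprime.commutator_commutator_eq hQn hcop₀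
    (Or.inl (minSimple_solvable hG (isPGroup_ne_top hG hRr)))
  have hQW : Q ≤ W := hQQ₀.trans hQ₀W
  have hPt : P ≠ ⊤ := isPGroup_ne_top hG hPp
  obtain ⟨Mstar, hMs, hN⟩ :=
    exists_maximal_ge (minSimple_normalizer_ne_top hG (ne_bot_of_card_prime hP) hPt)
  obtain ⟨hnc, hqs, hNQ, hr1, hαβ, hα1⟩ :=
    stage_one hU hG hM hp1 hP hPM hR hRM hRP hrσ hQp hQ1 hQW hRQ hQR hMs hN
  obtain ⟨s, hs, hsd⟩ := Nat.exists_prime_and_dvd fun h => hα1 (eq_bot_of_card_eq _ h)
  haveI := Fact.mk hs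
  have hsα : s ∈ alpha M := (alphaCore_hall hU.s1403 hG hM).2.1 s hs hsd
  have hsβ : s ∈ beta M := hαβ ▸ hsα
  have hsσ : s ∈ sigma M := alpha_mem_sigma hU hG hM hsα
  have hnc' : ∀ g : G, M ≠ cj g Mstar := BG12.not_conj_symm hnc
  have hsσs : s ∉ sigma Mstar := fun h => not_sigma_of_alpha hU hG hMs hM h hsα hnc'
  have hqα : q ∉ alpha M := fun h => not_sigma_of_alpha hU hG hMs hM hqs h hnc'
  have hQM : Q ≤ M := hQW.trans hWM
  have hQcP : Q ≤ centralizer (P : Set G) := hQW.trans inf_le_right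
  have hPn : P ≤ normalizer ((Q ⊔ R : Subgroup G) : Set G) :=
    (le_centralizer_iff.1 (sup_le hQcP hRP)).trans (centralizer_le_normalizer _)
  have hAN : P ⊔ (Q ⊔ R) ≤ normalizer (alphaCore M : Set G) :=
    (sup_le hPM (sup_le hQM hRM)).trans (le_normalizer_alphaCore M)
  have hcop : (Nat.card ↥(P ⊔ (Q ⊔ R))).Coprime (Nat.card (alphaCore M)) := by
    have hd : Nat.card ↥(Q ⊔ R) ∣ Nat.card R * Nat.card Q := by
      rw [sup_comm]; exact CfsgLib.Coprime.card_sup_dvd hRQ
    refine Nat.Coprime.coprime_dvd_left ((CfsgLib.Coprime.card_sup_dvd hPn).trans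
      (Nat.mul_dvd_mul_left _ hd)) (Nat.Coprime.mul_left ?_ (Nat.Coprime.mul_left ?_ ?_))
    · exact coprime_of_pGroup hPp fun h => hp1.2.1 (alpha_mem_sigma hU hG hM
        ((alphaCore_hall hU.s1403 hG hM).2.1 p hp.out h))
    · exact coprime_of_pGroup hRr fun h => hrσ (alpha_mem_sigma hU hG hM
        ((alphaCore_hall hU.s1403 hG hM).2.1 r hr.out h))
    · exact coprime_of_pGroup hQp fun h => hqα ((alphaCore_hall hU.s1403 hG hM).2.1 q hq h)
  obtain ⟨S', hSn⟩ := CfsgLib.Coprime.exists_invariant_sylow (p := s) hAN hcop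
    (Or.inr (minSimple_solvable hG (ne_top_of_le_maximal hM (alphaCore_le M))))
  set S := (S' : Subgroup (alphaCore M)).map (alphaCore M).subtype with hS
  have hSp : IsPGroup s S := S'.isPGroup'.map _
  have hSα : S ≤ alphaCore M := map_subtype_le _
  have hSM : SylIn s S M := by
    refine ⟨hSα.trans (alphaCore_le _), hSp, fun h => ?_⟩
    rw [← relIndex_mul_relIndex _ _ _ hSα (alphaCore_le M)] at h
    rcases hs.dvd_mul.1 h with h | h
    · exact (sylIn_sylow_map S').not_dvd h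
    · exact (alphaCore_hall hU.s1403 hG hM).2.2 s hs hsα h
  have hPS : P ≤ normalizer (S : Set G) := le_sup_left.trans hSn
  have hQS : Q ≤ normalizer (S : Set G) := (le_sup_left.trans le_sup_right).trans hSn
  have hRS : R ≤ normalizer (S : Set G) := (le_sup_right.trans le_sup_right).trans hSn
  have hs2 : s ≠ 2 := minSimple_ne_two hG (hsd.trans (card_subgroup_dvd_card _))
  have hcycMs : ∀ X : Subgroup G, IsPGroup s X → X ≤ Mstar → IsCyclic X := by
    intro X hX hXM
    by_cases hX1 : X = ⊥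
    · subst hX1; exact isCyclic_of_subsingleton
    exact isCyclic_of_pGroup_le hG (tau13_of_ideal hU hG hMs hsβ.2
      ((dvd_of_pGroup_ne_bot hX hX1).trans (card_dvd_of_le hXM)) hsσs).2.2.2 hXM hX
  have hCP : S ⊓ centralizer (P : Set G) ≤ centralizer (Q : Set G) := by
    refine le_centralizer_iff.1 (le_centralizer_of_isCyclic (hcycMs _ (hSp.to_le inf_le_left)
      (inf_le_right.trans (centralizer_le_of_normalizer_le hN))) ?_ ?_ hQR)
    · exact CfsgLib.Coprime.le_normalizer_inf_inf hQS (hQcP.trans le_normalizer)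
    · exact CfsgLib.Coprime.le_normalizer_inf_inf hRS (hRP.trans le_normalizer)
  have hnQS : ¬ Q ≤ centralizer (S : Set G) := by
    intro h
    have hSMs : S ≤ Mstar :=
      (le_centralizer_iff.1 h).trans (centralizer_le_of_normalizer_le hNQ)
    have hdS : s ∣ Nat.card Mstar := by
      refine (dvd_of_pGroup_ne_bot hSp ?_).trans (card_dvd_of_le hSMs)
      exact sylIn_ne_bot hSM (dvd_card_of_mem_alpha hsα)
    refine hsα.2 ((pRankLE_iff_sylIn hSM).2 (CfsgLib.Base.pRankLE_of_injective (inclusion hSMs)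
      (inclusion_injective hSMs) ?_))
    exact pRankLE_two_of_one hs (tau13_of_ideal hU hG hMs hsβ.2 hdS hsσs).2.2.2
  have hrs : r ≠ s := fun h => hrσ (h ▸ hsσ)
  have hrQ : ¬ r ∣ Nat.card Q := (hr.out.coprime_iff_not_dvd).1
    (hR ▸ hcop₀.coprime_dvd_right (card_dvd_of_le hQQ₀))
  have hsQ : ¬ s ∣ Nat.card Q := fun hd => hqα (eq_of_dvd_card_pGroup hQp hs hd ▸ hsα)
  have hQsol := minSimple_solvable hG (isPGroup_ne_top hG hQp)
  have hQodd : Odd (Nat.card Q) := hG.1.of_dvd_nat (card_subgroup_dvd_card Q)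
  have hcyc := isCyclic_alpha_centralizer hU hG hM (tau13_of_tau1 hr1) hR hRM hSp hSα
  set C := S ⊓ centralizer (R : Set G) with hC
  have hC1 : C ≠ ⊥ := fun h => hnQS (hQR.ge.trans
    (FixedPointPrime.commutator_le_centralizer_of_fpf hs hr.out hR hSp hrs hRS hQS hRQ hQsol
      hQodd hrQ hsQ h))
  have hCQ : C ⊓ centralizer (Q : Set G) = ⊥ := by
    refine by_contra fun h => ?_
    obtain ⟨t, ht, htd, Y, hY, hYc⟩ := exists_card_prime h
    haveI := Fact.mk ht
    obtain rfl : t = s :=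
      eq_of_dvd_card_pGroup (hSp.to_le (inf_le_left.trans inf_le_left)) ht htd
    obtain ⟨x, hx⟩ := exists_prime_orderOf_dvd_card' t (dvd_of_eq hYc.symm)
    exact hnQS (le_centralizer_of_cyclic_fix hs2 hr.out hR hSp hrs hRS hQS hRQ hQsol hQodd hrQ hsQ
      hQR hcyc (hY x.2).1.1 (by rw [orderOf_coe, hx]) (hY x.2).1.2 (hY x.2).2)
  have hPC : P ≤ normalizer (C : Set G) :=
    CfsgLib.Coprime.le_normalizer_inf_inf hPS ((le_centralizer_iff.1 hRP).trans le_normalizer)
  have hCp : IsPGroup s C := hSp.to_le inf_le_left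
  have hCcop : (Nat.card P).Coprime (Nat.card C) := coprime_of_pGroups hPp hCp fun h =>
    hp1.2.1 (h ▸ hsσ)
  have hCCP : C ⊓ centralizer (P : Set G) = ⊥ := le_bot_iff.1 (hCQ ▸
    le_inf inf_le_left ((inf_le_inf_right _ (inf_le_left : C ≤ S)).trans hCP))
  have hCPC : ⁅C, P⁆ = C := by
    have := CfsgLib.Coprime.commutator_sup_centralizer hPC hCcop
      (Or.inl (minSimple_solvable hG hPt))
    rwa [hCCP, sup_bot_eq] at this
  obtain ⟨M₂, hM₂, hN₂⟩ := exists_maximal_ge (minSimple_normalizer_ne_top hG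
    (ne_bot_of_card_prime hR) (isPGroup_ne_top hG hRr))
  obtain ⟨hnc₂, hss, -⟩ := stage_one hU hG hM hr1 hR hRM hP hPM (le_centralizer_iff.1 hRP)
    hp1.2.1 hCp hC1
    (le_inf ((inf_le_left.trans hSα).trans (alphaCore_le_sigmaCore hU.s1403 hG hM)) inf_le_right)
    hPC hCPC hM₂ hN₂
  exact not_sigma_of_alpha hU hG hM₂ hM hss hsα (BG12.not_conj_symm hnc₂)

include hU in
/-- S1427 (BG 13.3) from the results of section 12. -/
theorem stmtS1427_of : StmtS1427.{u} := by
  intro G _ _ hG M hM E hE p hp S hS1 hSc x hx hx1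
  set T := (S : Subgroup E).map E.subtype with hT
  have hTp : IsPGroup p T := S.isPGroup'.map _
  have hTE : T ≤ E := map_subtype_le _
  have hTc : IsCyclic T :=
    ((equivMapOfInjective (S : Subgroup E) E.subtype E.subtype_injective).isCyclic).1 hSc
  have hT1 : T ≠ ⊥ := fun h => hS1 (map_injective E.subtype_injective (h.trans (Subgroup.map_bot _).symm))
  have hdE : p ∣ Nat.card E := (dvd_of_pGroup_ne_bot hTp hT1).trans (card_dvd_of_le hTE)
  have hpσ : p ∉ sigma M := compl_primes hU hG hM hE hp.out hdE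
  have hdM : p ∣ Nat.card M := hdE.trans (card_dvd_of_le hE.1)
  have hTM : SylIn p T M := by
    refine ⟨hTE.trans hE.1, hTp, fun h => ?_⟩
    rw [← relIndex_mul_relIndex _ _ _ hTE hE.1] at h
    rcases hp.out.dvd_mul.1 h with h | h
    · exact (sylIn_sylow_map S).not_dvd h
    · exact (compl_hall hU hG hM hE).2.2 p hp.out ⟨hp.out, hpσ⟩ h
  have hpt : Tau13 M p := ⟨hp.out, hpσ, hdM,
    (pRankLE_iff_sylIn hTM).2 (pRankLE_one_of_cyclic hTc)⟩
  refine le_antisymm ?_ (inf_le_inf_left _ (centralizer_le (Set.singleton_subset_iff.2 hx)))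
  have hxT : zpowers x ≤ T := zpowers_le.2 hx
  have hx1' : zpowers x ≠ ⊥ := fun h => hx1 (zpowers_eq_bot.1 h)
  obtain ⟨t, ht, htd, P, hPx, hP⟩ := exists_card_prime hx1'
  haveI := Fact.mk ht
  obtain rfl : t = p := eq_of_dvd_card_pGroup (hTp.to_le hxT) ht htd
  obtain ⟨Mstar, hMs, hN⟩ := exists_maximal_ge (minSimple_normalizer_ne_top hG
    (ne_bot_of_card_prime hP) (isPGroup_ne_top hG (isPGroup_of_card_prime hP)))
  have hC : centralizer ({x} : Set G) ≤ Mstar := by
    rw [← centralizer_zpowers']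
    exact (centralizer_le hPx).trans (centralizer_le_of_normalizer_le hN)
  have hTMs : T ≤ Mstar := (le_centralizer_of_rank_one hG hpt.2.2.2 hTM.le hTp
    (hPx.trans hxT)).trans (centralizer_le_of_normalizer_le hN)
  refine le_inf inf_le_left ((inf_le_inf_left _ hC).trans (le_centralizer_iff.1 ?_))
  exact pGroup_le_centralizer hU hG hM hP hMs hN hpt (le_inf hTM.le hTMs) hTp

include hU in
/-- S1428 (BG 13.4) from the results of section 12. -/
theorem stmtS1428_of : StmtS1428.{u} := by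
  intro G _ _ hG M hM E hE p hp P hPE hP R hRE hR
  haveI := Fact.mk hp.1
  haveI := Fact.mk hR
  exact le_inf inf_le_left (centralizer_le_centralizer hU hG hM hp hP (hPE.trans hE.1) rfl
    ((hRE.trans inf_le_left).trans hE.1) (hRE.trans inf_le_right)
    (compl_primes hU hG hM hE hR (card_dvd_of_le (hRE.trans inf_le_left))))

end CfsgLib.FT.BG13
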