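import Cfsg.Agent.Lib.FT.BG13.S134

/-!
BG 13.5 and 13.6: fixed points in `M_σ` of the `τ₁(M)`-subgroups.
-/

set_option autoImplicit false
set_option linter.style.haveILetI false

universe u

namespace CfsgLib.FT.BG13

open Cfsg CfsgLib.OddOrder CfsgLib.Techniques _root_.Subgroup
open scoped commutatorElement

variable {G : Type u} [Group G] [Finite G]

/-- A subgroup containing a Sylow subgroup for each prime divisor contains the whole group. -/
theorem le_of_sylows {E K : Subgroup G}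
    (h : ∀ t : ℕ, t.Prime → t ∣ Nat.card E → ∃ T, SylIn t T E ∧ T ≤ K) : E ≤ K := by
  refine relIndex_eq_one.1 (by_contra fun hne => ?_)
  obtain ⟨t, ht, hd⟩ := Nat.exists_prime_and_dvd hne
  have hdE : t ∣ Nat.card E := by
    refine hd.trans ?_
    rw [← relIndex_bot_left E]
    exact relIndex_dvd_of_le_left E bot_le
  obtain ⟨T, hT, hTK⟩ := h t ht hdE
  exact hT.not_dvd (hd.trans (relIndex_dvd_of_le_left E hTK))

variable (hU : Upstream.{u}) (hG : IsMinSimpleOddOrder G) {M : Subgroup G} (hM : IsCoatom M)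

include hU hG hM in
/-- A cyclic `t`-subgroup of `M` centralises the fixed points in `M_σ` of its subgroup of order
`t ∈ τ₁(M) ∪ τ₃(M)`. -/
theorem centralizer_le_pGroup {t : ℕ} [Fact t.Prime] (ht : Tau13 M t) {Y T : Subgroup G}
    (hY : Nat.card Y = t) (hYT : Y ≤ T) (hT : IsPGroup t T) (hTM : T ≤ M) :
    sigmaCore M ⊓ centralizer (Y : Set G) ≤ centralizer (T : Set G) := by
  obtain ⟨Mstar, hMs, hN⟩ := exists_maximal_ge (minSimple_normalizer_ne_top hG
    (ne_bot_of_card_prime hY) (isPGroup_ne_top hG (isPGroup_of_card_prime hY)))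
  have hTMs : T ≤ Mstar := (le_centralizer_of_rank_one hG ht.2.2.2 hTM hT hYT).trans
    (centralizer_le_of_normalizer_le hN)
  exact (inf_le_inf_left _ (centralizer_le_of_normalizer_le hN)).trans
    (le_centralizer_iff.1 (pGroup_le_centralizer hU hG hM hY hMs hN ht (le_inf hTM hTMs) hT))

include hU hG hM in
theorem exists_elementary_compl {p : ℕ} [Fact p.Prime] (hp : p ∈ tau2 M) {E : Subgroup G}
    (hE : IsComplIn E (sigmaCore M) M) :
    ∃ A : Subgroup G, A ≤ E ∧ IsElementaryAbelian p A ∧ Nat.card A = p ^ 2 := by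
  obtain ⟨A, hAM, hA, hA2⟩ := exists_elementary_sq hp.2.2.2
  have hAp : IsPGroup p A := CfsgLib.Base.isPGroup_of_isElementaryAbelian hA
  obtain ⟨E₁, hE₁, hAE₁⟩ := exists_compl_ge hU hG hM hAM
    fun q hq hd => eq_of_dvd_card_pGroup hAp hq hd ▸ hp.2.1
  obtain ⟨a, -, ha⟩ := compl_conj hU hG hM hE₁ hE
  exact ⟨cj a A, ha ▸ cj_mono hAE₁, CfsgLib.Base.isElementaryAbelian_map _ hA,
    (card_cj a A).trans hA2⟩

include hU hG hM in
/-- BG 13.5: a cyclic Hall `τ₁`-subgroup containing `P` centralises `C_{M_σ}(P)`. -/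
theorem centralizer_le_tau1Hall {r : ℕ} [Fact r.Prime] (hr : r ∈ tau1 M) {P E₁ : Subgroup G}
    (hP : Nat.card P = r) (hPE : P ≤ E₁) (hE₁M : E₁ ≤ M) (hcyc : IsCyclic E₁)
    (hE₁ : ∀ t : ℕ, t.Prime → t ∣ Nat.card E₁ → t ∈ tau1 M) :
    sigmaCore M ⊓ centralizer (P : Set G) ≤ centralizer (E₁ : Set G) := by
  refine le_centralizer_iff.1 (le_of_sylows fun t ht hd => ?_)
  haveI := Fact.mk ht
  obtain ⟨T, hT⟩ := exists_sylIn (p := t) E₁
  refine ⟨T, hT, le_centralizer_iff.1 ?_⟩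
  obtain ⟨t', ht', htd, Y, hYT, hY⟩ := exists_card_prime (sylIn_ne_bot hT hd)
  obtain rfl : t' = t := eq_of_dvd_card_pGroup hT.isPGroup ht' htd
  have hcomm : Y ≤ centralizer (P : Set G) := by
    letI := IsCyclic.commGroup (α := E₁)
    intro y hy
    refine mem_centralizer_iff.2 fun b hb => ?_
    exact congrArg Subtype.val (mul_comm (⟨b, hPE hb⟩ : E₁) ⟨y, hT.le (hYT hy)⟩)
  have hY1 := centralizer_le_centralizer hU hG hM hr hP (hPE.trans hE₁M) hY
    ((hYT.trans hT.le).trans hE₁M) hcomm (hE₁ t' ht hd).2.1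
  exact (le_inf inf_le_left hY1).trans
    (centralizer_le_pGroup hU hG hM (tau13_of_tau1 (hE₁ t' ht hd)) hY hYT hT.isPGroup
      (hT.le.trans hE₁M))

include hU hG hM in
/-- BG 13.6, the hypothesis of 12.14. -/
theorem beta_or_derived_of_tau1 {r q : ℕ} [hr' : Fact r.Prime] [hq : Fact q.Prime] (hr : r ∈ tau1 M)
    {P : Subgroup G} (hP : Nat.card P = r) (hPM : P ≤ M) {X : Subgroup G} (hX : Nat.card X = q)
    (hXW : X ≤ sigmaCore M ⊓ centralizer (P : Set G)) :
    q ∈ beta M ∨ X ≤ ⁅sigmaCore M, sigmaCore M⁆ := by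
  have hXp := isPGroup_of_card_prime hX
  have hXσ : X ≤ sigmaCore M := hXW.trans inf_le_left
  have hqσ : q ∈ sigma M :=
    sigmaCore_primes hU hG hM hq.out (hX ▸ card_dvd_of_le hXσ)
  by_cases hqβ : q ∈ beta M
  · exact Or.inl hqβ
  refine Or.inr ?_
  -- a cyclic Hall `τ₁`-subgroup centralising `X`
  obtain ⟨E₀, hE₀, hPE₀⟩ := exists_compl_ge hU hG hM hPM
    fun t ht hd => eq_of_dvd_card_pGroup (isPGroup_of_card_prime hP) ht hd ▸ hr.2.1
  have hE₀s : Group.IsSolvable E₀ := minSimple_solvable hG (ne_top_of_le_maximal hM hE₀.1)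
  obtain ⟨H, hH, hPH⟩ := (CfsgLib.Coprime.hallD_of_solvable (G := E₀) (tau1 M)).exists_le
    (U := P.subgroupOf E₀) fun t ht hd => eq_of_dvd_card_pGroup (isPGroup_of_card_prime hP) ht
      (by rwa [CfsgLib.Base.card_subgroupOf hPE₀] at hd) ▸ hr
  set E₁ := H.map E₀.subtype with hE₁def
  have hE₁ := CfsgLib.Coprime.piHallOf_map_subtype hH
  have hPE₁ : P ≤ E₁ := by
    rw [← map_subgroupOf_eq_of_le hPE₀]
    exact map_mono hPH
  have hcyc : IsCyclic E₁ := (hU.s1415 hG M hM E₀ hE₀).2.1 E₁ hE₁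
  have hE₁M : E₁ ≤ M := hE₁.1.trans hE₀.1
  have hE₁X : E₁ ≤ centralizer (X : Set G) := le_centralizer_iff.1
    (hXW.trans (centralizer_le_tau1Hall hU hG hM hr hP hPE₁ hE₁M hcyc hE₁.2.1))
  -- an `E`-invariant Sylow subgroup containing `X`
  have hσs := minSimple_solvable hG (ne_top_of_le_maximal hM (sigmaCore_le M))
  have hcopE : ∀ A : Subgroup G, A ≤ E₀ → (Nat.card A).Coprime (Nat.card (sigmaCore M)) :=
    fun A hA => Nat.coprime_of_dvd fun t ht h1 h2 =>
      compl_primes hU hG hM hE₀ ht (h1.trans (card_dvd_of_le hA))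
        (sigmaCore_primes hU hG hM ht h2)
  obtain ⟨Q₀', hQ₀n⟩ := CfsgLib.Coprime.exists_invariant_sylow (p := q)
    (hE₀.1.trans (le_normalizer_sigmaCore M)) (hcopE E₀ le_rfl) (Or.inr hσs)
  obtain ⟨Q', hXQ, hQn⟩ := CfsgLib.Coprime.exists_invariant_sylow_ge
    (hE₁M.trans (le_normalizer_sigmaCore M)) (hcopE E₁ hE₁.1) (Or.inr hσs) hXσ hXp
    (hE₁X.trans (centralizer_le_normalizer _))
  set Q := (Q' : Subgroup (sigmaCore M)).map (sigmaCore M).subtype with hQ
  obtain ⟨k, hk, hkQ⟩ := (sylIn_sylow_map Q').exists_conj_eq (sylIn_sylow_map Q₀')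
  obtain ⟨c, ⟨hcσ, hcE⟩, hcQ⟩ := CfsgLib.Coprime.exists_centralizing_conj_eq
    (hE₁M.trans (le_normalizer_sigmaCore M)) (hcopE E₁ hE₁.1) (Or.inr hσs) (hE₁.1.trans hQ₀n) hQn
    ⟨k, hk, (CfsgLib.Base.map_conj_eq_smul k _).symm.trans hkQ⟩
  set E := cj c E₀ with hEdef
  have hcM : c ∈ M := sigmaCore_le M hcσ
  have hE : IsComplIn E (sigmaCore M) M := by
    have h := (isComplIn_map_iff (MulAut.conj c) E₀ (sigmaCore M) M).2 hE₀
    rwa [show (sigmaCore M).map (MulAut.conj c).toMonoidHom = sigmaCore M from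
        mem_normalizer_iff_cj.1 (le_normalizer_sigmaCore M hcM),
      show M.map (MulAut.conj c).toMonoidHom = M from cj_eq_self_of_mem hcM] at h
  have hcE₁ : cj c E₁ = E₁ :=
    mem_normalizer_iff_cj.1 (centralizer_le_normalizer _ hcE)
  have hE₁E : E₁ ≤ E := hcE₁ ▸ cj_mono hE₁.1
  have hQE : E ≤ normalizer (Q : Set G) := by
    have h := cj_mono (g := c) hQ₀n
    rw [cj_normalizer] at h
    rwa [show cj c ((Q₀' : Subgroup (sigmaCore M)).map (sigmaCore M).subtype) = Q from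
      (CfsgLib.Base.map_conj_eq_smul c _).trans hcQ] at h
  have hQp : IsPGroup q Q := Q'.isPGroup'.map _
  have hQD : Q ≤ ⁅M, M⁆ := (map_subtype_le _).trans (sigmaCore_le_derived hU.s1403 hG hM)
  have hQβ : ∀ t : ℕ, t.Prime → t ∣ Nat.card Q → t ∉ beta M := fun t ht hd =>
    eq_of_dvd_card_pGroup hQp ht hd ▸ hqβ
  rcases Set.eq_empty_or_nonempty (tau2 M) with hτ | ⟨p, hp⟩
  · refine le_trans (le_inf hXσ (le_centralizer_iff.1 (le_of_sylows fun t ht hd => ?_)))
      (hU.s1426 hG M hM E hE).1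
    haveI := Fact.mk ht
    have htσ := compl_primes hU hG hM hE ht hd
    have ht13 : Tau13 M t := (tau_cases hU hG hM (hd.trans (card_dvd_of_le hE.1)) htσ).resolve_right
      fun h => by rw [hτ] at h; exact h
    rcases tau13_iff.1 ht13 with h1 | h3
    · obtain ⟨T, hT⟩ := exists_sylIn (p := t) E₁
      refine ⟨T, ⟨hT.le.trans hE₁E, hT.isPGroup, fun h => ?_⟩, hT.le.trans hE₁X⟩
      rw [← relIndex_mul_relIndex _ _ _ hT.le hE₁E] at h
      rcases ht.dvd_mul.1 h with h | h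
      · exact hT.not_dvd h
      · rw [← hcE₁, hEdef, relIndex_cj] at h
        exact hE₁.2.2 t ht h1 h
    · obtain ⟨T, hT⟩ := exists_sylIn (p := t) E
      refine ⟨T, hT, le_trans ?_ (centralizer_le hXQ)⟩
      exact centralizes_of_beta hU hG hM
        (le_derived_of_tau3 hU hG hM h3 hT.isPGroup (hT.le.trans hE.1)) hQD (hT.le.trans hQE)
        (coprime_of_pGroups hT.isPGroup hQp fun e => htσ (e ▸ hqσ)) hQβ
  · exfalso
    haveI := Fact.mk hp.1
    obtain ⟨A, hAE, hA, hA2⟩ := exists_elementary_compl hU hG hM hp hE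
    have hAp : IsPGroup p A := CfsgLib.Base.isPGroup_of_isElementaryAbelian hA
    have hEA : E ≤ normalizer (A : Set G) := (hU.s1418 hG M hM E hE p hp A ⟨hAE, hA, hA2⟩).1.1
    have hPE : P ≤ E := hPE₁.trans hE₁E
    obtain ⟨-, -, -, hAbot, hAinf, -⟩ := hU.s1417 hG M hM p hp A ⟨hAE.trans hE.1, hA, hA2⟩
    have hX1 : X ≠ ⊥ := ne_bot_of_card_prime hX
    have hA1 : ⁅A, P⁆ ≠ ⊥ := by
      intro h
      obtain ⟨Mstar, hMs, hN⟩ := exists_maximal_ge (minSimple_normalizer_ne_top hG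
        (ne_bot_of_card_prime hP) (isPGroup_ne_top hG (isPGroup_of_card_prime hP)))
      have hne : Mstar ≠ M := fun e =>
        not_normalizer_le hU hG hP hM (tau13_of_tau1 hr) (e ▸ hN)
      refine hX1 (le_bot_iff.1 (le_trans (le_inf hXσ ?_) (hAinf Mstar hMs hne ?_).le))
      · exact hXW.trans (inf_le_right.trans (centralizer_le_of_normalizer_le hN))
      · exact (commutator_eq_bot_iff_le_centralizer.1 h).trans (centralizer_le_of_normalizer_le hN)
    have hAcX : A ≤ centralizer (X : Set G) := by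
      have hsup := CfsgLib.Coprime.commutator_sup_centralizer (hPE.trans hEA)
        (coprime_of_pGroups (isPGroup_of_card_prime hP) hAp
          fun e => hp.2.2.2 (e ▸ hr.2.2.2.2))
        (Or.inl (minSimple_solvable hG (isPGroup_ne_top hG (isPGroup_of_card_prime hP))))
      rw [← hsup]
      refine sup_le ?_ fun y hy => ?_
      · refine le_trans ?_ (centralizer_le hXQ)
        exact centralizes_of_beta hU hG hM
          (commutator_mono (hAE.trans hE.1) hPM) hQD
          ((commutator_le.2 fun a ha b hb => E.mul_mem (E.mul_mem (E.mul_mem (hAE ha) (hPE hb))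
            (E.inv_mem (hAE ha))) (E.inv_mem (hPE hb))).trans hQE)
          (coprime_of_pGroups (hAp.to_le (CfsgLib.Coprime.commutator_le_of_le_normalizer
            (hPE.trans hEA))) hQp fun e => hp.2.1 (e ▸ hqσ)) hQβ
      · rcases eq_or_ne y 1 with rfl | hy1
        · exact one_mem _
        have hyc : Nat.card (zpowers y) = p := by
          rw [Nat.card_zpowers]
          exact orderOf_eq_prime (hA.2 y hy.1) hy1
        exact le_centralizer_iff.1 (hXW.trans (centralizer_le_centralizer hU hG hM hr hP hPM hyc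
          ((zpowers_le.2 hy.1).trans (hAE.trans hE.1)) (zpowers_le.2 hy.2) hp.2.1)) (mem_zpowers y)
    exact hX1 (le_bot_iff.1 ((le_inf hXσ (le_centralizer_iff.1 hAcX)).trans hAbot.le))

include hU hG hM in
/-- BG 12.14 for a subgroup of order `q` in `β(M)` or `M_σ'`. -/
theorem unique_of_beta_or_derived {q : ℕ} [hq : Fact q.Prime] {X : Subgroup G} (hX : Nat.card X = q)
    (hXσ : X ≤ sigmaCore M) (h : q ∈ beta M ∨ X ≤ ⁅sigmaCore M, sigmaCore M⁆) :
    centralizer (X : Set G) ≤ M ∧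
      ∀ L : Subgroup G, IsCoatom L → centralizer (X : Set G) ≤ L → L = M := by
  obtain ⟨S₀⟩ : Nonempty (Sylow q ↥(sigmaCore M)) := inferInstance
  exact (hU.s1423 hG M hM q (sigmaCore_primes hU hG hM hq.out (hX ▸ card_dvd_of_le hXσ)) X
    (hXσ.trans (sigmaCore_le M)) hX S₀ h).1

include hU hG hM in
/-- BG 13.6: a subgroup of order `q` of `C_{M_σ}(P)`, `|P| ∈ τ₁(M)`, has its centraliser in `M`
only. -/
theorem unique_of_tau1 {r q : ℕ} [hr' : Fact r.Prime] [hq : Fact q.Prime] (hr : r ∈ tau1 M)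
    {P : Subgroup G} (hP : Nat.card P = r) (hPM : P ≤ M) {X : Subgroup G} (hX : Nat.card X = q)
    (hXW : X ≤ sigmaCore M ⊓ centralizer (P : Set G)) :
    centralizer (X : Set G) ≤ M ∧
      ∀ L : Subgroup G, IsCoatom L → centralizer (X : Set G) ≤ L → L = M :=
  unique_of_beta_or_derived hU hG hM hX (hXW.trans inf_le_left)
    (beta_or_derived_of_tau1 hU hG hM hr hP hPM hX hXW)

end CfsgLib.FT.BG13
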