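import Cfsg.Agent.Lib.FT.BG13.Complements

/-!
BG 13.9: `σ(M)` and `σ(M*)` are disjoint for non-conjugate maximal subgroups.
-/

set_option autoImplicit false
set_option linter.style.haveILetI false

universe u

namespace CfsgLib.FT.BG13

open Cfsg CfsgLib.OddOrder CfsgLib.Techniques _root_.Subgroup
open scoped commutatorElement

variable {G : Type u} [Group G] [Finite G]

/-- Two non-conjugate maximal subgroups sharing a Sylow `q`-subgroup `S`, `q` in both `σ`, and a
subgroup `R` of order `r` in both `τ₁` without fixed points on `S`. -/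
structure SigmaPair (M L S R : Subgroup G) (q r : ℕ) : Prop where
  maxM : IsCoatom M
  maxL : IsCoatom L
  nconj : ∀ g : G, L ≠ cj g M
  qM : q ∈ sigma M
  qL : q ∈ sigma L
  sylM : SylIn q S M
  sylL : SylIn q S L
  normM : normalizer (S : Set G) ≤ M
  normL : normalizer (S : Set G) ≤ L
  nilM : ¬ Group.IsNilpotent (sigmaCore M)
  nilL : ¬ Group.IsNilpotent (sigmaCore L)
  tauM : r ∈ tau1 M
  tauL : r ∈ tau1 L
  cardR : Nat.card R = r
  RM : R ≤ M
  RL : R ≤ L
  normR : R ≤ normalizer (S : Set G)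
  fix : S ⊓ centralizer (R : Set G) = ⊥

theorem SigmaPair.symm {M L S R : Subgroup G} {q r : ℕ} (D : SigmaPair M L S R q r) :
    SigmaPair L M S R q r where
  maxM := D.maxL
  maxL := D.maxM
  nconj := BG12.not_conj_symm D.nconj
  qM := D.qL
  qL := D.qM
  sylM := D.sylL
  sylL := D.sylM
  normM := D.normL
  normL := D.normM
  nilM := D.nilL
  nilL := D.nilM
  tauM := D.tauL
  tauL := D.tauM
  cardR := D.cardR
  RM := D.RL
  RL := D.RM
  normR := D.normR
  fix := D.fix

variable (hU : Upstream.{u}) (hG : IsMinSimpleOddOrder G)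
variable {M L S R : Subgroup G} {q r : ℕ} [hq : Fact q.Prime] [hr : Fact r.Prime]

include hU hG in
theorem SigmaPair.not_alpha (D : SigmaPair M L S R q r) : q ∉ alpha M := fun h =>
  not_sigma_of_alpha hU hG D.maxL D.maxM D.qL h (BG12.not_conj_symm D.nconj)

omit hU in
include hG in
theorem SigmaPair.sup_coprime (D : SigmaPair M L S R q r) (hU : Upstream.{u}) :
    (Nat.card ↥(S ⊔ R)).Coprime (Nat.card (piCoreOf (beta M) M)) := by
  have hd : Nat.card ↥(S ⊔ R) ∣ Nat.card R * Nat.card S := by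
    rw [sup_comm]; exact CfsgLib.Coprime.card_sup_dvd D.normR
  refine Nat.Coprime.coprime_dvd_left hd (Nat.Coprime.mul_left ?_ ?_)
  · exact coprime_of_pGroup (isPGroup_of_card_prime D.cardR) fun h => D.tauM.2.1
      (beta_mem_sigma hU hG D.maxM ((betaCore_hallOf hU hG D.maxM).2.1 r hr.out h))
  · exact coprime_of_pGroup D.sylM.isPGroup fun h => D.not_alpha hU hG
      ((betaCore_hallOf hU hG D.maxM).2.1 q hq.out h).1

include hU hG in
theorem SigmaPair.commutator_eq (D : SigmaPair M L S R q r) : ⁅S, R⁆ = S := by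
  have h := CfsgLib.Coprime.commutator_sup_centralizer D.normR
    (coprime_of_pGroups (isPGroup_of_card_prime D.cardR) D.sylM.isPGroup
      fun e => D.tauM.2.1 (e ▸ D.qM))
    (Or.inl (minSimple_solvable hG (isPGroup_ne_top hG (isPGroup_of_card_prime D.cardR))))
  rwa [D.fix, sup_bot_eq] at h

include hU hG in
/-- A Sylow `s`-subgroup, `s ∈ β(M)`, is not centralised by `S`. -/
theorem SigmaPair.not_centralizes (D : SigmaPair M L S R q r) {s : ℕ} [Fact s.Prime]
    (hs : s ∈ beta M) {U : Subgroup G} (hU' : SylIn s U M) : ¬ S ≤ centralizer (U : Set G) := by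
  intro h
  have hu := inUniqueMaximal_of_pRank hU.s1403 hG (Fact.out : s.Prime)
    (isPGroup_ne_top hG hU'.isPGroup) fun h' => hs.1.2 ((pRankLE_iff_sylIn hU').2 h')
  refine D.nconj 1 ?_
  rw [cj_one]
  exact eq_of_inUniqueMaximal hu D.maxM hU'.le D.maxL
    ((le_centralizer_iff.1 h).trans ((centralizer_le_normalizer _).trans D.normL))

include hU hG in
/-- No element of order `s ∈ β(M)` of `M` is centralised by `S` and `R`. -/
theorem SigmaPair.no_common_fix (D : SigmaPair M L S R q r) {s : ℕ} [hs' : Fact s.Prime]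
    (hs : s ∈ beta M) {X : Subgroup G} (hX : Nat.card X = s) (hXM : X ≤ M)
    (hXS : X ≤ centralizer (S : Set G)) (hXR : X ≤ centralizer (R : Set G)) : False := by
  have hXp := isPGroup_of_card_prime hX
  have hXβ : X ≤ piCoreOf (beta M) M :=
    le_of_normal_hall (le_normalizer_piCoreOf _ _) (betaCore_hallOf hU hG D.maxM) hXM
      fun t ht hd => eq_of_dvd_card_pGroup hXp ht hd ▸ hs
  obtain ⟨U', hXU, hUn⟩ := CfsgLib.Coprime.exists_invariant_sylow_ge
    ((sup_le D.sylM.le D.RM).trans (le_normalizer_piCoreOf (beta M) M)) (D.sup_coprime hG hU)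
    (Or.inr (minSimple_solvable hG (ne_top_of_le_maximal D.maxM (map_subtype_le _)))) hXβ hXp
    ((sup_le (le_centralizer_iff.1 hXS) (le_centralizer_iff.1 hXR)).trans
      (centralizer_le_normalizer _))
  set U := (U' : Subgroup (piCoreOf (beta M) M)).map (piCoreOf (beta M) M).subtype with hUdef
  have hUp : IsPGroup s U := U'.isPGroup'.map _
  have hUM : SylIn s U M := by
    refine ⟨(map_subtype_le _).trans (map_subtype_le _), hUp, fun h => ?_⟩
    rw [← relIndex_mul_relIndex _ _ _ (map_subtype_le (U' : Subgroup (piCoreOf (beta M) M)))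
      (map_subtype_le _ : piCoreOf (beta M) M ≤ M)] at h
    rcases hs'.out.dvd_mul.1 h with h | h
    · exact (sylIn_sylow_map U').not_dvd h
    · exact (betaCore_hallOf hU hG D.maxM).2.2 s hs'.out hs h
  have hUα : U ≤ alphaCore M :=
    le_of_normal_hall (le_normalizer_alphaCore M) (alphaCore_hall hU.s1403 hG D.maxM) hUM.le
      fun t ht hd => eq_of_dvd_card_pGroup hUp ht hd ▸ hs.1
  have hRr := isPGroup_of_card_prime D.cardR
  have hrq : r ≠ q := fun e => D.tauM.2.1 (e ▸ D.qM)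
  have hsq : s ≠ q := fun e => D.not_alpha hU hG (e ▸ hs.1)
  have hsσ : s ∈ sigma M := beta_mem_sigma hU hG D.maxM hs
  obtain ⟨x, hx⟩ := exists_prime_orderOf_dvd_card' s (dvd_of_eq hX.symm)
  refine D.not_centralizes hU hG hs hUM (le_centralizer_of_cyclic_fix
    (minSimple_ne_two hG (hX ▸ card_subgroup_dvd_card X)) hr.out D.cardR hUp
    (fun e => D.tauM.2.1 (e ▸ hsσ)) (le_sup_right.trans hUn) (le_sup_left.trans hUn) D.normR
    (minSimple_solvable hG (isPGroup_ne_top hG D.sylM.isPGroup))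
    (hG.1.of_dvd_nat (card_subgroup_dvd_card S))
    (fun h => hrq (eq_of_dvd_card_pGroup D.sylM.isPGroup hr.out h))
    (fun h => hsq (eq_of_dvd_card_pGroup D.sylM.isPGroup hs'.out h))
    (D.commutator_eq hU hG)
    (isCyclic_alpha_centralizer hU hG D.maxM (tau13_of_tau1 D.tauM) D.cardR D.RM hUp hUα)
    (hXU x.2) (by rw [orderOf_coe, hx]) (hXR x.2) (hXS x.2))

include hU hG in
/-- A prime `s ∈ β(M)` and a subgroup of order `s` of `C_M(R)`, whose centraliser is in `M` only. -/
theorem SigmaPair.exists_fix (D : SigmaPair M L S R q r) :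
    ∃ s : ℕ, s ∈ beta M ∧ ∃ X : Subgroup G, Nat.card X = s ∧ X ≤ M ∧
      X ≤ centralizer (R : Set G) ∧ normalizer (X : Set G) ≤ M := by
  obtain ⟨-, -, -, ⟨H, hH, hHn⟩, -⟩ := hU.s1414 hG M D.maxM
  obtain ⟨s, hs, hsβ⟩ : ∃ s : ℕ, s.Prime ∧ s ∈ beta M := by
    by_contra hno
    push Not at hno
    refine D.nilM ?_
    rwa [← show H = sigmaCore M from le_antisymm hH.1
      (relIndex_eq_one.1 (by_contra fun hne => by
        obtain ⟨t, ht, hd⟩ := Nat.exists_prime_and_dvd hne
        exact hH.2.2 t ht ⟨ht, hno t ht⟩ hd))]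
  haveI := Fact.mk hs
  obtain ⟨U', hUn⟩ := CfsgLib.Coprime.exists_invariant_sylow (p := s)
    ((sup_le D.sylM.le D.RM).trans (le_normalizer_piCoreOf (beta M) M)) (D.sup_coprime hG hU)
    (Or.inr (minSimple_solvable hG (ne_top_of_le_maximal D.maxM (map_subtype_le _))))
  set U := (U' : Subgroup (piCoreOf (beta M) M)).map (piCoreOf (beta M) M).subtype with hUdef
  have hUp : IsPGroup s U := U'.isPGroup'.map _
  have hUM : SylIn s U M := by
    refine ⟨(map_subtype_le _).trans (map_subtype_le _), hUp, fun h => ?_⟩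
    rw [← relIndex_mul_relIndex _ _ _ (map_subtype_le (U' : Subgroup (piCoreOf (beta M) M)))
      (map_subtype_le _ : piCoreOf (beta M) M ≤ M)] at h
    rcases hs.dvd_mul.1 h with h | h
    · exact (sylIn_sylow_map U').not_dvd h
    · exact (betaCore_hallOf hU hG D.maxM).2.2 s hs hsβ h
  have hsσ : s ∈ sigma M := beta_mem_sigma hU hG D.maxM hsβ
  have hC : U ⊓ centralizer (R : Set G) ≠ ⊥ := fun h => by
    refine D.not_centralizes hU hG hsβ hUM ?_
    have := FixedPointPrime.commutator_le_centralizer_of_fpf hs hr.out D.cardR hUp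
      (fun e => D.tauM.2.1 (e ▸ hsσ)) (le_sup_right.trans hUn) (le_sup_left.trans hUn) D.normR
      (minSimple_solvable hG (isPGroup_ne_top hG D.sylM.isPGroup))
      (hG.1.of_dvd_nat (card_subgroup_dvd_card S))
      (fun hd => D.tauM.2.1 (eq_of_dvd_card_pGroup D.sylM.isPGroup hr.out hd ▸ D.qM))
      (fun hd => D.not_alpha hU hG (eq_of_dvd_card_pGroup D.sylM.isPGroup hs hd ▸ hsβ.1)) h
    rwa [D.commutator_eq hU hG] at this
  obtain ⟨t, ht, htd, X, hXle, hX⟩ := exists_card_prime hC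
  haveI := Fact.mk ht
  obtain rfl : t = s := eq_of_dvd_card_pGroup (hUp.to_le inf_le_left) ht htd
  have hXM : X ≤ M := (hXle.trans inf_le_left).trans hUM.le
  obtain ⟨S₀⟩ : Nonempty (Sylow t ↥(sigmaCore M)) := inferInstance
  obtain ⟨-, huniq⟩ := (hU.s1423 hG M D.maxM t hsσ X hXM hX S₀ (Or.inl hsβ)).1
  obtain ⟨L', hL', hNL⟩ := exists_maximal_ge (minSimple_normalizer_ne_top hG
    (ne_bot_of_card_prime hX) (isPGroup_ne_top hG (isPGroup_of_card_prime hX)))
  exact ⟨t, hsβ, X, hX, hXM, hXle.trans inf_le_right,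
    huniq L' hL' ((centralizer_le_normalizer _).trans hNL) ▸ hNL⟩

include hU hG in
/-- An element of order `t ∈ β(L)` of `M` centralising `R` gives a contradiction. -/
theorem SigmaPair.false_of_fix (D : SigmaPair M L S R q r) {t : ℕ} [ht' : Fact t.Prime]
    (ht : t ∈ beta L) {Y : Subgroup G} (hY : Nat.card Y = t) (hYM : Y ≤ M)
    (hYR : Y ≤ centralizer (R : Set G)) : False := by
  have hM := D.maxM
  have htσ : t ∉ sigma M := fun h => not_sigma_of_alpha hU hG hM D.maxL h ht.1 D.nconj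
  have htdM : t ∣ Nat.card M := hY ▸ card_dvd_of_le hYM
  have ht13 := tau13_of_ideal hU hG hM ht.2 htdM htσ
  have hRr := isPGroup_of_card_prime D.cardR
  have hYt := isPGroup_of_card_prime hY
  obtain ⟨E, hE, hRE, hES⟩ := exists_compl_normalizer hU hG hM
    (D.sylM.mono (pGroup_le_sigmaCore hU hG hM D.qM D.sylM.isPGroup D.sylM.le) (sigmaCore_le M))
    (Y := R) (le_inf D.RM D.normR)
    fun u hu hd => eq_of_dvd_card_pGroup hRr hu hd ▸ D.tauM.2.1
  obtain ⟨E₁, hE₁, hYE₁⟩ := exists_compl_ge hU hG hM (sup_le hYM D.RM) fun u hu hd => by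
    have hd' := hd.trans (CfsgLib.Coprime.card_sup_dvd
      ((hYR : Y ≤ centralizer (R : Set G)).trans (centralizer_le_normalizer _)))
    rcases hu.dvd_mul.1 hd' with h | h
    · exact eq_of_dvd_card_pGroup hYt hu h ▸ htσ
    · exact eq_of_dvd_card_pGroup hRr hu h ▸ D.tauM.2.1
  obtain ⟨a, -, ha⟩ := compl_conj hU hG hM hE₁ hE
  have hrE : PRankLE r 1 E :=
    CfsgLib.Base.pRankLE_of_injective (inclusion hE.1) (inclusion_injective hE.1) D.tauM.2.2.2.2
  obtain ⟨e, heE, he⟩ := exists_conj_of_rank_one hG hrE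
    (ha ▸ cj_mono (le_sup_right.trans hYE₁) : cj a R ≤ E) hRE
    (by rw [card_cj, D.cardR]) D.cardR
  set W := cj (e * a) Y with hW
  have hWE : W ≤ E := by
    rw [hW, cj_mul, ← cj_eq_self_of_mem heE]
    exact cj_mono (ha ▸ cj_mono (le_sup_left.trans hYE₁))
  have hWR : W ≤ centralizer (R : Set G) := by
    rw [← he, ← cj_mul]
    refine (cj_mono hYR).trans ?_
    exact (map_centralizer_subgroup (MulAut.conj (e * a)) R).le
  have hWc : Nat.card W = t := (card_cj _ Y).trans hY
  have hWL : W ≤ L := (hWE.trans hES).trans D.normL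
  have hWS : W ≤ centralizer (S : Set G) := by
    have hqα := D.symm.not_alpha hU hG
    refine centralizes_of_beta hU hG D.maxL ?_ ?_ (hWE.trans hES)
      (coprime_of_pGroups (isPGroup_of_card_prime hWc) D.sylM.isPGroup
        fun h => hqα (h ▸ ht.1))
      fun u hu hd => eq_of_dvd_card_pGroup D.sylM.isPGroup hu hd ▸ fun h => hqα h.1
    · exact (pGroup_le_sigmaCore hU hG D.maxL (beta_mem_sigma hU hG D.maxL ht)
        (isPGroup_of_card_prime hWc) hWL).trans (sigmaCore_le_derived hU.s1403 hG D.maxL)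
    · exact (pGroup_le_sigmaCore hU hG D.maxL D.qL D.sylL.isPGroup D.sylL.le).trans
        (sigmaCore_le_derived hU.s1403 hG D.maxL)
  exact D.symm.no_common_fix hU hG ht hWc hWL hWS hWR

include hU hG in
theorem SigmaPair.false (D : SigmaPair M L S R q r) : False := by
  obtain ⟨s, hs, X, hX, hXM, hXR, hNX⟩ := D.exists_fix hU hG
  obtain ⟨t, ht, Y, hY, hYL, hYR, hNY⟩ := D.symm.exists_fix hU hG
  haveI := Fact.mk hs.1.1
  haveI := Fact.mk ht.1.1
  have hst : s ≠ t := fun e => not_sigma_of_alpha hU hG D.maxM D.maxL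
    (beta_mem_sigma hU hG D.maxM hs) (e ▸ ht.1) D.nconj
  obtain ⟨L', hL', hNR⟩ := exists_maximal_ge (minSimple_normalizer_ne_top hG
    (ne_bot_of_card_prime D.cardR) (isPGroup_ne_top hG (isPGroup_of_card_prime D.cardR)))
  have hCL := centralizer_le_of_normalizer_le hNR
  have hncM := not_conj hU hG D.cardR hL' hNR (tau13_of_tau1 D.tauM)
  have hncL := not_conj hU hG D.cardR hL' hNR (tau13_of_tau1 D.tauL)
  set C := centralizer (R : Set G) with hC
  haveI : Group.IsSolvable C := minSimple_solvable hG (ne_top_of_le_maximal hL' hCL)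
  set π : Set ℕ := {s, t} with hπ
  have hD := CfsgLib.Coprime.hallD_of_solvable (G := C) π
  obtain ⟨H₀, hH₀, hXH₀⟩ := hD.exists_le (U := X.subgroupOf C) fun u hu hd =>
    Or.inl (eq_of_dvd_card_pGroup (isPGroup_of_card_prime hX) hu
      (by rwa [CfsgLib.Base.card_subgroupOf hXR] at hd))
  obtain ⟨g, hg⟩ := hD.conj_le (U := Y.subgroupOf C) (fun u hu hd =>
    Or.inr (Set.mem_singleton_iff.2 (eq_of_dvd_card_pGroup (isPGroup_of_card_prime hY) hu
      (by rwa [CfsgLib.Base.card_subgroupOf hYR] at hd)))) hH₀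
  set H := H₀.map C.subtype with hH
  have hXH : X ≤ H := by
    rw [← map_subgroupOf_eq_of_le hXR]
    exact map_mono hXH₀
  set Y' := cj (g : G) Y with hY'
  have hY'H : Y' ≤ H := by
    refine cj_le_iff.2 fun y hy => ?_
    exact ⟨_, hg (Subgroup.smul_mem_pointwise_smul ⟨y, hYR hy⟩ (MulAut.conj g) _
      (mem_subgroupOf.2 hy)), rfl⟩
  have hHC : H ≤ C := map_subtype_le _
  have hHL : H ≤ L' := hHC.trans hCL
  have hHp : ∀ u : ℕ, u.Prime → u ∣ Nat.card H → u = s ∨ u = t := fun u hu hd => by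
    rw [hH, CfsgLib.Base.card_map_subtype] at hd
    simpa [hπ] using hH₀.1 u hu hd
  have hsL : s ∉ sigma L' := fun h =>
    not_sigma_of_alpha hU hG hL' D.maxM h hs.1 (BG12.not_conj_symm hncM)
  have htL : t ∉ sigma L' := fun h =>
    not_sigma_of_alpha hU hG hL' D.maxL h ht.1 (BG12.not_conj_symm hncL)
  have hY'c : Nat.card Y' = t := (card_cj _ Y).trans hY
  have hcs : ∀ T : Subgroup G, T ≤ H → IsPGroup s T → IsCyclic T := fun T hT hTs =>
    isCyclic_of_pGroup_le hG (tau13_of_ideal hU hG hL' hs.2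
      (hX ▸ card_dvd_of_le (hXH.trans hHL)) hsL).2.2.2 (hT.trans hHL) hTs
  have hct : ∀ T : Subgroup G, T ≤ H → IsPGroup t T → IsCyclic T := fun T hT hTt =>
    isCyclic_of_pGroup_le hG (tau13_of_ideal hU hG hL' ht.2
      (hY'c ▸ card_dvd_of_le (hY'H.trans hHL)) htL).2.2.2 (hT.trans hHL) hTt
  rcases lt_or_gt_of_ne hst with hlt | hlt
  · have hn := hXH.trans (le_normalizer_of_two_primes hlt hHp hcs hct
      (hX ▸ card_dvd_of_le hXH) hY'c hY'H)
    have hXL : cj (g : G)⁻¹ X ≤ L := by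
      have h1 := cj_mono (g := (g : G)⁻¹) hn
      rw [cj_normalizer, hY', cj_inv_cj] at h1
      exact h1.trans hNY
    have hXR' : cj (g : G)⁻¹ X ≤ centralizer (R : Set G) := by
      refine (cj_mono hXR).trans (le_of_eq ?_)
      exact cj_eq_self_of_mem (inv_mem g.2)
    exact D.symm.false_of_fix hU hG hs ((card_cj _ X).trans hX) hXL hXR'
  · have hn := hY'H.trans (le_normalizer_of_two_primes hlt
      (fun u hu hd => (hHp u hu hd).symm) hct hcs (hY'c ▸ card_dvd_of_le hY'H) hX hXH)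
    exact D.false_of_fix hU hG ht hY'c (hn.trans hNX) (hY'H.trans hHC)

omit hr in
include hU hG in
theorem false_of_common_sylow (hM : IsCoatom M) (hL : IsCoatom L) (hnc : ∀ g : G, L ≠ cj g M)
    (hqM : q ∈ sigma M) (hqL : q ∈ sigma L) (hS : SylIn q S M) (hSL : SylIn q S L) : False := by
  have hnM : ¬ Group.IsNilpotent (sigmaCore M) := fun h =>
    not_sigma_of_nilpotent hG hM hL hU hqM hqL h hnc
  have hnL : ¬ Group.IsNilpotent (sigmaCore L) := fun h =>
    not_sigma_of_nilpotent hG hL hM hU hqL hqM h (BG12.not_conj_symm hnc)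
  have hτ : ∀ {N : Subgroup G}, IsCoatom N → ¬ Group.IsNilpotent (sigmaCore N) →
      ∀ p : ℕ, p ∉ tau2 N := by
    intro N hN hn p hp
    haveI := Fact.mk hp.1
    obtain ⟨A, hAN, hA, hA2⟩ := exists_elementary_sq hp.2.2.2
    exact hn (hU.s1417 hG N hN p hp A ⟨hAN, hA, hA2⟩).1
  have hqα : q ∉ alpha M := fun h => not_sigma_of_alpha hU hG hL hM hqL h (BG12.not_conj_symm hnc)
  have hqαL : q ∉ alpha L := fun h => not_sigma_of_alpha hU hG hM hL hqM h hnc
  have hSσ := pGroup_le_sigmaCore hU hG hM hqM hS.isPGroup hS.le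
  have hS' : SylIn q S (sigmaCore M) := hS.mono hSσ (sigmaCore_le M)
  obtain ⟨E, hE, -, hES⟩ := exists_compl_normalizer hU hG hM hS' (Y := ⊥) bot_le
    fun t ht hd => absurd (card_bot (G := G) ▸ hd) ht.not_dvd_one
  have hS1 : S ≠ ⊥ := sylIn_ne_bot hS hqM.2.1
  have hSD : S ≤ ⁅M, M⁆ := hSσ.trans (sigmaCore_le_derived hU.s1403 hG hM)
  have hqβ : ∀ u : ℕ, u.Prime → u ∣ Nat.card S → u ∉ beta M := fun u hu hd =>
    eq_of_dvd_card_pGroup hS.isPGroup hu hd ▸ fun h => hqα h.1
  -- `E` does not centralise `S`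
  have hEnc : ¬ E ≤ centralizer (S : Set G) := by
    intro h
    have hle := (le_inf hSσ (le_centralizer_iff.1 h)).trans (hU.s1426 hG M hM E hE).1
    obtain ⟨-, -, -, -, hcompl⟩ := hU.s1414 hG M hM
    obtain ⟨-, ⟨P, N, hNn, hNP⟩, -⟩ :=
      hcompl q hq.out hqM.2.1 fun h => hqα h.1
    haveI := hNn
    set D := commutator ↥(sigmaCore M) with hD
    have hSD' : S.subgroupOf (sigmaCore M) ≤ D := fun x hx => by
      obtain ⟨y, hy, e⟩ := (map_commutator_subtype (sigmaCore M)).ge (hle (mem_subgroupOf.1 hx))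
      rwa [← (sigmaCore M).subtype_injective e]
    have hidx : (D ⊔ N).index = 1 := by
      refine by_contra fun hne => ?_
      obtain ⟨u, hu, hd⟩ := Nat.exists_prime_and_dvd hne
      have h1 : u = q := by
        have hdN := hd.trans (index_dvd_of_le (le_sup_right : N ≤ D ⊔ N))
        rw [hNP.symm.index_eq_card] at hdN
        exact eq_of_dvd_card_pGroup (P.isPGroup'.map (sigmaCore M).subtype) hu
          (by rwa [CfsgLib.Base.card_map_subtype])
      refine hS'.not_dvd ?_
      rw [← h1]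
      exact hd.trans (index_dvd_of_le (hSD'.trans le_sup_left))
    have hsurj := QuotientGroup.mk'_surjective N
    have hq' : Nat.card (↥(sigmaCore M) ⧸ N) = Nat.card (P : Subgroup ↥(sigmaCore M)) := by
      rw [← index_eq_card, hNP.symm.index_eq_card]
    obtain ⟨k, hk⟩ := P.isPGroup'.exists_card_eq
    haveI : Group.IsNilpotent (↥(sigmaCore M) ⧸ N) :=
      (IsPGroup.of_card (hq'.trans hk)).isNilpotent
    have hP1 : (P : Subgroup ↥(sigmaCore M)) ≠ ⊥ := by
      intro e
      refine hS1 (sylIn_sylow_map P |>.card_eq hS' |> fun h => eq_bot_of_card_eq _ ?_)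
      rw [h, e, Subgroup.map_bot, card_bot]
    haveI : Nontrivial (↥(sigmaCore M) ⧸ N) := by
      rw [← Finite.one_lt_card_iff_nontrivial, hq']
      exact one_lt_card_iff_ne_bot _ |>.2 hP1
    refine (Group.IsSolvable.commutator_lt_top_of_nontrivial (↥(sigmaCore M) ⧸ N)).ne ?_
    rw [_root_.commutator_def, ← map_top_of_surjective _ hsurj, ← map_commutator,
      ← _root_.commutator_def, ← hD]
    rw [map_top_of_surjective _ hsurj, ← map_top_of_surjective _ hsurj, map_eq_map_iff,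
      QuotientGroup.ker_mk', top_sup_eq]
    exact index_eq_one.1 hidx
  obtain ⟨t, ht, R, hR, hRE, ht1, hRS⟩ : ∃ (t : ℕ) (_ : t.Prime) (R : Subgroup G),
      Nat.card R = t ∧ R ≤ E ∧ t ∈ tau1 M ∧ ¬ R ≤ centralizer (S : Set G) := by
    by_contra hno
    push Not at hno
    refine hEnc (le_of_sylows fun t ht hd => ?_)
    haveI := Fact.mk ht
    obtain ⟨T, hT⟩ := exists_sylIn (p := t) E
    refine ⟨T, hT, ?_⟩
    have htσ := compl_primes hU hG hM hE ht hd
    have htS : t ≠ q := fun e => htσ (e ▸ hqM)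
    have ht13 : Tau13 M t :=
      (tau_cases hU hG hM (hd.trans (card_dvd_of_le hE.1)) htσ).resolve_right (hτ hM hnM t)
    rcases tau13_iff.1 ht13 with h1 | h3
    · obtain ⟨t', ht', htd, Y, hYT, hY⟩ := exists_card_prime (sylIn_ne_bot hT hd)
      obtain rfl : t' = t := eq_of_dvd_card_pGroup hT.isPGroup ht' htd
      have hYS := hno t' ht Y hY (hYT.trans hT.le) h1
      exact le_centralizer_iff.1 ((le_inf hSσ (le_centralizer_iff.1 hYS)).trans
        (centralizer_le_pGroup hU hG hM ht13 hY hYT hT.isPGroup (hT.le.trans hE.1)))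
    · exact centralizes_of_beta hU hG hM
        (le_derived_of_tau3 hU hG hM h3 hT.isPGroup (hT.le.trans hE.1)) hSD (hT.le.trans hES)
        (coprime_of_pGroups hT.isPGroup hS.isPGroup htS) hqβ
  haveI := Fact.mk ht
  have hRt := isPGroup_of_card_prime hR
  have hNL := sigma_normalizer_le hqL hSL
  have hRL : R ≤ L := (hRE.trans hES).trans hNL
  have hRD : ¬ R ≤ ⁅L, L⁆ := fun h => hRS (centralizes_of_beta hU hG hL h
    ((pGroup_le_sigmaCore hU hG hL hqL hSL.isPGroup hSL.le).trans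
      (sigmaCore_le_derived hU.s1403 hG hL)) (hRE.trans hES)
    (coprime_of_pGroups hRt hS.isPGroup fun e => ht1.2.1 (e ▸ hqM))
    fun u hu hd => eq_of_dvd_card_pGroup hS.isPGroup hu hd ▸ fun h => hqαL h.1)
  have htσL : t ∉ sigma L := fun h =>
    hRD ((pGroup_le_sigmaCore hU hG hL h hRt hRL).trans (sigmaCore_le_derived hU.s1403 hG hL))
  have ht1L : t ∈ tau1 L := (tau13_iff.1 ((tau_cases hU hG hL (hR ▸ card_dvd_of_le hRL)
    htσL).resolve_right (hτ hL hnL t))).resolve_right fun h => hRD (le_derived_of_tau3 hU hG hL h hRt hRL)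
  refine SigmaPair.false hU hG (M := M) (L := L) (S := S) (R := R) (q := q) (r := t)
    ⟨hM, hL, hnc, hqM, hqL, hS, hSL, sigma_normalizer_le hqM hS, hNL, hnM, hnL, ht1, ht1L, hR,
      hRE.trans hE.1, hRL, hRE.trans hES, ?_⟩
  refine by_contra fun hne => ?_
  obtain ⟨u, hu, hud, X, hXle, hX⟩ := exists_card_prime hne
  haveI := Fact.mk hu
  obtain rfl : u = q := eq_of_dvd_card_pGroup (hS.isPGroup.to_le inf_le_left) hu hud
  obtain ⟨hCM, -⟩ := unique_of_tau1 hU hG hM ht1 hR (hRE.trans hE.1) hX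
    (le_inf ((hXle.trans inf_le_left).trans hSσ) (hXle.trans inf_le_right))
  obtain ⟨-, huL⟩ := unique_of_tau1 hU hG hL ht1L hR hRL hX
    (le_inf ((hXle.trans inf_le_left).trans
      (pGroup_le_sigmaCore hU hG hL hqL hSL.isPGroup hSL.le)) (hXle.trans inf_le_right))
  exact hnc 1 (by rw [cj_one, huL M hM hCM])

omit hq hr in
include hU hG in
/-- **BG 13.9**: non-conjugate maximal subgroups have disjoint `σ`. -/
theorem sigma_disjoint (hM : IsCoatom M) (hL : IsCoatom L) {p : ℕ} (hpM : p ∈ sigma M)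
    (hpL : p ∈ sigma L) : ∃ g : G, L = cj g M := by
  refine by_contra fun hno => ?_
  push Not at hno
  haveI := Fact.mk hpM.1
  obtain ⟨T, hT⟩ := exists_sylIn (p := p) M
  obtain ⟨T', hT'⟩ := exists_sylIn (p := p) L
  obtain ⟨g, -, hg⟩ := (sigma_sylIn_top hpL hT').exists_conj_eq (sigma_sylIn_top hpM hT)
  refine false_of_common_sylow hU hG (M := cj g M) (L := L) (S := T') (isCoatom_cj hM g) hL
    (fun h e => hno (h * g) (by rw [cj_mul]; exact e)) (by rw [sigma_cj]; exact hpM) hpL ?_ hT'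
  exact hg ▸ hT.cj' g

include hU in
/-- S1378 from the results of section 12. -/
theorem stmtS1378_of : StmtS1378.{u} := by
  intro G _ _ hG
  refine ⟨fun p hp hd => ?_, fun M N hM hN ⟨p, hpM, hpN⟩ => sigma_disjoint hU hG hM hN hpM hpN⟩
  haveI := Fact.mk hp
  obtain ⟨P⟩ : Nonempty (Sylow p G) := inferInstance
  have hP1 : (P : Subgroup G) ≠ ⊥ := fun h => hp.not_dvd_one (by
    have := P.dvd_card_of_dvd_card hd
    rwa [h, card_bot] at this)
  obtain ⟨M, hM, hNM⟩ := exists_maximal_ge (minSimple_normalizer_ne_top hG hP1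
    (isPGroup_ne_top hG P.isPGroup'))
  have hT : SylIn p (P : Subgroup G) M := sylIn_of_le P (le_normalizer.trans hNM)
  exact ⟨M, hM, (mem_sigma_iff hT).2 ⟨(dvd_of_pGroup_ne_bot P.isPGroup' hP1).trans
    (card_dvd_of_le hT.le), hNM⟩⟩

end CfsgLib.FT.BG13
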