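import Cfsg.Agent.Lib.FT.BG13.PartnersStmts

/-!
BG 14.11: a maximal subgroup containing `C(x)`, `x ∈ M_σ`, when `C(x) ≰ M`.
-/

set_option autoImplicit false
set_option linter.style.haveILetI false
set_option linter.unusedSectionVars false

universe u

namespace CfsgLib.FT.BG13

open Cfsg CfsgLib.OddOrder CfsgLib.Techniques _root_.Subgroup
open scoped commutatorElement

variable {G : Type u} [Group G] [Finite G]
variable (hU : Upstream.{u}) (hG : IsMinSimpleOddOrder G) {M N : Subgroup G}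

include hU hG in
/-- A group of prime order without fixed points on `M_σ` makes `[Q, Y]` centralise `M_σ`. -/
theorem commutator_le_centralizer_sigmaCore (hM : IsCoatom M) {y : ℕ} [hy : Fact y.Prime]
    {Q Y : Subgroup G} (hY : Nat.card Y = y) (hYM : Y ≤ M) (hQM : Q ≤ M)
    (hQn : Y ≤ normalizer (Q : Set G)) (hyσ : y ∉ sigma M)
    (hQσ : ∀ t : ℕ, t.Prime → t ∣ Nat.card Q → t ∉ sigma M) (hyQ : ¬ y ∣ Nat.card Q)
    (hfix : sigmaCore M ⊓ centralizer (Y : Set G) = ⊥) :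
    ⁅Q, Y⁆ ≤ centralizer (sigmaCore M : Set G) := by
  refine le_centralizer_iff.1 (le_of_sylows fun t ht hd => ?_)
  haveI := Fact.mk ht
  have hσs := minSimple_solvable hG (ne_top_of_le_maximal hM (sigmaCore_le M))
  have hcop : (Nat.card ↥(Y ⊔ Q)).Coprime (Nat.card (sigmaCore M)) :=
    coprime_sigmaCore hU hG hM fun s hs hds => by
      rcases hs.dvd_mul.1 (hds.trans (CfsgLib.Coprime.card_sup_dvd hQn)) with h | h
      · exact eq_of_dvd_card_pGroup (isPGroup_of_card_prime hY) hs h ▸ hyσ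
      · exact hQσ s hs h
  obtain ⟨T', hTn⟩ := CfsgLib.Coprime.exists_invariant_sylow (p := t)
    ((sup_le hYM hQM).trans (le_normalizer_sigmaCore M)) hcop (Or.inr hσs)
  have hT : SylIn t ((T' : Subgroup ↥(sigmaCore M)).map (sigmaCore M).subtype) (sigmaCore M) :=
    sylIn_sylow_map T'
  refine ⟨_, hT, le_centralizer_iff.1 ?_⟩
  have hts : t ∈ sigma M := sigmaCore_primes hU hG hM ht hd
  exact FixedPointPrime.commutator_le_centralizer_of_fpf (Q := Q) ht hy.out hY hT.isPGroup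
    (fun e => hyσ (e ▸ hts)) (le_sup_left.trans hTn) (le_sup_right.trans hTn) hQn
    (minSimple_solvable hG (ne_top_of_le_maximal hM hQM))
    (hG.1.of_dvd_nat (card_subgroup_dvd_card Q)) hyQ (fun h => hQσ t ht h hts)
    (le_bot_iff.1 ((inf_le_inf_right _ hT.le).trans hfix.le))

include hU hG in
/-- The prime of a supported element: it is not in `β(M)`. -/
theorem SupportData.not_beta {x : G} (D : SupportData M N x) {q : ℕ} (hq : q.Prime)
    (hd : q ∣ orderOf x) : q ∉ beta M := fun h =>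
  haveI := Fact.mk hq
  not_ideal_of_tau2 hU hG D.maxN (D.tau2 q hq hd) h.2

include hU hG in
/-- BG 14.11, first part: `κ(M) = ∅`. -/
theorem SupportData.kappa_eq_empty (hM : IsCoatom M) {x : G} (D : SupportData M N x)
    (hx : x ∈ sigmaCore M) (hx1 : x ≠ 1) {p : ℕ} (hpN : p ∈ sigma N) (hpM : p ∣ Nat.card M) :
    kappa M = ∅ := by
  by_contra hne
  obtain ⟨k, hk⟩ := Set.nonempty_iff_ne_empty.2 hne
  haveI := Fact.mk (prime_of_mem_sigma hpN)
  haveI : Group.IsSolvable M := minSimple_solvable hG (ne_top_of_le_maximal hM le_rfl)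
  obtain ⟨W, hW, -⟩ := (CfsgLib.Coprime.hallD_of_solvable (G := M) (kappa M)).exists_le
    (U := (⊥ : Subgroup M)) (by
      intro t ht hd
      rw [card_bot] at hd
      exact absurd (Nat.dvd_one.1 hd) ht.ne_one)
  have hK := CfsgLib.Coprime.piHallOf_map_subtype hW
  set K := W.map M.subtype with hKdef
  have hK1 : K ≠ ⊥ := fun h => hK.2.2 k hk.1 hk (by rw [h, relIndex_bot_left]; exact hk.2.1)
  obtain ⟨E, U, DM⟩ := exists_kuData' hU hG hM hK hK1
  obtain ⟨L, P⟩ := exists_partners hU hG hM hK hK1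
  obtain ⟨q, hq, hqd, -⟩ := exists_prime_le_zpowers hx1
  haveI := Fact.mk hq
  have hqσ : q ∈ sigma M := orderOf_sigmaCore hU hG hM hx hq hqd
  have hqσd : q ∣ Nat.card (sigmaCore M) := hqd.trans (orderOf_dvd_natCard _ hx)
  -- `M` is of type `𝒫₁`
  have hall : AllKappaSigma M := by
    by_contra hP2
    obtain ⟨hKp, -⟩ := prime_of_not_allKappaSigma hU hG hM hK hK1 hP2
    haveI := Fact.mk hKp
    set y := Nat.card K with hy
    have hyU : ¬ y ∣ Nat.card U := fun h =>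
      (DM.hallU.2.1 y hKp h).2.1 (hK.2.1 y hKp dvd_rfl)
    have hKn : K ≤ normalizer (U : Set G) := DM.K_le.trans DM.normalU
    have hcop : (Nat.card K).Coprime (Nat.card U) := hKp.coprime_iff_not_dvd.2 hyU
    haveI := DM.comm
    have hUK : ⁅U, K⁆ = U := by
      obtain ⟨⟨a, ha⟩, ha1⟩ := (ne_bot_iff_exists_ne_one).1 hK1
      have hC : U ⊓ centralizer (K : Set G) = ⊥ := le_bot_iff.1
        ((inf_le_inf_left _ (centralizer_le (Set.singleton_subset_iff.2 ha))).trans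
          (DM.free a ha fun e => ha1 (Subtype.ext e)).le)
      have h1 := CfsgLib.Coprime.commutator_sup_centralizer hKn hcop
        (Or.inl (minSimple_solvable hG (ne_top_of_le_maximal hM hK.1)))
      rwa [hC, sup_bot_eq] at h1
    have hUd : U ≤ ⁅M, M⁆ := hUK.ge.trans (commutator_mono DM.hallU.1 hK.1)
    obtain ⟨T', hTn⟩ := CfsgLib.Coprime.exists_invariant_sylow (p := q)
      (DM.compl.1.trans (le_normalizer_sigmaCore M))
      (coprime_of_le_compl hU hG hM DM.compl le_rfl)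
      (Or.inr (minSimple_solvable hG (ne_top_of_le_maximal hM (sigmaCore_le M))))
    have hT : SylIn q ((T' : Subgroup ↥(sigmaCore M)).map (sigmaCore M).subtype) (sigmaCore M) :=
      sylIn_sylow_map T'
    have hUT := centralizes_of_beta hU hG hM hUd
      (hT.le.trans (sigmaCore_le_derived hU.s1403 hG hM)) (DM.U_le.trans hTn)
      ((coprime_of_le_compl hU hG hM DM.compl DM.U_le).coprime_dvd_right (card_dvd_of_le hT.le))
      fun t ht hd => eq_of_dvd_card_pGroup hT.isPGroup ht hd ▸ D.not_beta hU hG hq hqd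
    -- but `U` has no fixed points
    unfold AllKappaSigma at hP2
    push Not at hP2
    obtain ⟨t, ht, htd, htσ, htk⟩ := hP2
    haveI := Fact.mk ht
    obtain ⟨S₀, hS₀⟩ := exists_sylIn (p := t) U
    obtain ⟨S, hS⟩ := exists_sylow_of_sylIn (sylIn_of_hall' DM.hallU ⟨ht, htk, htσ⟩ hS₀)
    obtain ⟨-, hfix, -⟩ := stmtS1429_of hU hG M hM (fun hc => htk (hc t ht htd htσ)) t htd
      (by rintro (h | h); exacts [htσ h, htk h]) S
    refine sylIn_ne_bot hT hqσd (le_bot_iff.1 ((le_inf hT.le ?_).trans hfix.le))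
    exact (le_centralizer_iff.1 hUT).trans (centralizer_le ((closure_le _).2 fun z hz =>
      hS₀.le (hS ▸ hz.1)))
  -- so `N` is conjugate to the partner
  have hpσ : p ∉ sigma M := fun h => by
    obtain ⟨g, hg⟩ := sigma_disjoint hU hG hM D.maxN h hpN
    exact D.nconj g hg
  have hpk : p ∈ kappa M := (hall p Fact.out hpM).resolve_left hpσ
  have hpL : p ∈ sigma L := by
    obtain ⟨T, hT⟩ := exists_sylIn (p := p) K
    have hd : p ∣ Nat.card K := (dvd_of_pGroup_ne_bot hT.isPGroup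
      (sylIn_ne_bot (sylIn_of_hall' hK hpk hT) hpM)).trans (card_dvd_of_le hT.le)
    exact sigmaCore_primes hU hG P.maxL Fact.out
      (hd.trans (card_dvd_of_le (P.side.ge.trans inf_le_left)))
  obtain ⟨c, hc⟩ := sigma_disjoint hU hG P.maxL D.maxN hpL hpN
  have hxN : x ∈ N := D.le (mem_centralizer_singleton'.2 rfl)
  have hqL : q ∣ Nat.card L := by
    have h1 := hqd.trans (orderOf_dvd_natCard _ hxN)
    rwa [hc, card_map_equiv] at h1
  have hqk : q ∉ kappa L := fun h => by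
    have h2 := D.tau2 q hq hqd
    rw [hc] at h2
    rw [tau2_map (MulAut.conj c)] at h2
    exact h2.2.2.2 (tau13_of_kappa hU hG P.maxL h).2.2.2
  -- `q` would divide `|K*|`
  have hKsL : kstar M K ≤ L := P.hallL.1
  haveI : Group.IsSolvable L := minSimple_solvable hG (ne_top_of_le_maximal P.maxL le_rfl)
  obtain ⟨W', hW', hle⟩ := (CfsgLib.Coprime.hallD_of_solvable (G := L) (sigma M)).exists_le
    (U := (kstar M K).subgroupOf L) fun t ht hd => sigmaCore_primes hU hG hM ht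
      ((by rwa [CfsgLib.Base.card_subgroupOf hKsL] at hd : t ∣ Nat.card (kstar M K)).trans
        (card_dvd_of_le inf_le_left))
  have hH := CfsgLib.Coprime.piHallOf_map_subtype hW'
  set Hs := W'.map L.subtype with hHsdef
  have hKH : kstar M K ≤ Hs := by
    rw [← map_subgroupOf_eq_of_le hKsL]
    exact map_mono hle
  have he : Hs ≤ kstar M K := (le_inf (le_sigmaCore_of_meets hU hG hM hK hK1 DM hH.2.1
    (by rw [inf_eq_right.2 hKH]; exact DM.fixed)) hH.1).trans P.sideM.le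
  obtain ⟨T, hT⟩ := exists_sylIn (p := q) Hs
  exact hqk (P.hallL.2.1 q hq ((dvd_of_pGroup_ne_bot hT.isPGroup
    (sylIn_ne_bot (sylIn_of_hall' hH hqσ hT) hqL)).trans (card_dvd_of_le (hT.le.trans he))))

include hU hG in
/-- BG 14.11, first part: `τ₂(M) = ∅`. -/
theorem SupportData.tau2_eq_empty (hM : IsCoatom M) {x : G} (D : SupportData M N x)
    (hx : x ∈ sigmaCore M) (hx1 : x ≠ 1) {p : ℕ} (hpN : p ∈ sigma N) (hpM : p ∣ Nat.card M) :
    Cfsg.tau2 M = ∅ := by
  by_contra hne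
  obtain ⟨u, hu⟩ := Set.nonempty_iff_ne_empty.2 hne
  haveI := Fact.mk hu.1
  haveI hp := Fact.mk (prime_of_mem_sigma hpN)
  have hκ := D.kappa_eq_empty hU hG hM hx hx1 hpN hpM
  obtain ⟨q, hq, hqd, X, hX, hXc⟩ := exists_prime_le_zpowers hx1
  haveI := Fact.mk hq
  have hXσ : X ≤ sigmaCore M := hX.trans (zpowers_le.2 hx)
  -- `p` is ideal
  have hNXM : ¬ normalizer (X : Set G) ≤ M := fun h =>
    D.nconj 1 (by
      rw [cj_one]
      exact (D.uniq M hM ((centralizer_le_of_le_zpowers hX).trans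
        (centralizer_le_of_normalizer_le h))).symm)
  obtain ⟨L₀, hL₀, hN₀⟩ := exists_maximal_normalizer hG (isPGroup_of_card_prime hXc)
    (ne_bot_of_card_prime hXc)
  obtain rfl : L₀ = N := D.uniq L₀ hL₀
    ((centralizer_le_of_le_zpowers hX).trans (centralizer_le_of_normalizer_le hN₀))
  obtain ⟨hnc, hq2, -⟩ := normalizer_support hU hG hM hXc (orderOf_sigmaCore hU hG hM hx hq hqd)
    (hXσ.trans (sigmaCore_le M)) hNXM hL₀ hN₀
  have hqN : q ∉ sigma L₀ := hq2.2.1
  have hbeta : ∀ s : ℕ, s ∈ sigma L₀ → s ∣ Nat.card M → IsIdealPrime s G := fun s hs hd =>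
    (((hU.p1215 hG M hM q (orderOf_sigmaCore hU hG hM hx hq hqd) X (isPGroup_of_card_prime hXc)
      (ne_bot_of_card_prime hXc) (hXσ.trans (sigmaCore_le M)) L₀ hL₀
      (fun h => hNXM (h ▸ hN₀)) hN₀).2 hqN).2.1 s hs hd).2
  have hpσ : p ∉ sigma M := fun h => by
    obtain ⟨g, hg⟩ := sigma_disjoint hU hG hM hL₀ h hpN
    exact hnc g hg
  have hp13 : Tau13 M p := tau13_of_ideal hU hG hM (hbeta p hpN hpM) hpM hpσ
  -- a complement with `A` and a subgroup `P` of order `p`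
  obtain ⟨T₀, hT₀⟩ := exists_sylIn (p := p) M
  obtain ⟨p', hp', hpd', P, hPT, hP⟩ := exists_card_prime (sylIn_ne_bot hT₀ hpM)
  obtain rfl : p' = p := eq_of_dvd_card_pGroup hT₀.isPGroup hp' hpd'
  have hPM : P ≤ M := hPT.trans hT₀.le
  obtain ⟨E, hE, hPE⟩ := exists_compl_ge hU hG hM hPM
    fun t ht hd => eq_of_dvd_card_pGroup (isPGroup_of_card_prime hP) ht hd ▸ hpσ
  obtain ⟨A, hAE, hA, hA2⟩ := exists_elementary_compl hU hG hM hu hE
  obtain ⟨⟨hEA, -⟩, -, -⟩ := hU.s1418 hG M hM E hE u hu A ⟨hAE, hA, hA2⟩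
  have hAp : IsPGroup u A := CfsgLib.Base.isPGroup_of_isElementaryAbelian hA
  have hCA := (hU.s1417 hG M hM u hu A ⟨hAE.trans hE.1, hA, hA2⟩).2.2.2.1
  have hreg : sigmaCore M ⊓ centralizer (P : Set G) = ⊥ := by_contra fun h => by
    have := mem_kappa_of hU hG hM hp13 hP hPM h
    rw [hκ] at this
    exact this
  have hqσd : q ∣ Nat.card (sigmaCore M) := hqd.trans (orderOf_dvd_natCard _ hx)
  obtain ⟨T', hTn⟩ := CfsgLib.Coprime.exists_invariant_sylow (p := q)
    (hE.1.trans (le_normalizer_sigmaCore M)) (coprime_of_le_compl hU hG hM hE le_rfl)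
    (Or.inr (minSimple_solvable hG (ne_top_of_le_maximal hM (sigmaCore_le M))))
  set T := (T' : Subgroup ↥(sigmaCore M)).map (sigmaCore M).subtype with hTdef
  have hT : SylIn q T (sigmaCore M) := sylIn_sylow_map T'
  -- `p ∈ τ₁(M)`
  have hp1 : p' ∈ tau1 M := by
    refine (tau13_iff.1 hp13).resolve_right fun h3 => ?_
    have hPT' := centralizes_of_beta hU hG hM (le_derived_of_tau3 hU hG hM h3
      (isPGroup_of_card_prime hP) hPM) (hT.le.trans (sigmaCore_le_derived hU.s1403 hG hM))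
      (hPE.trans hTn) ((coprime_of_le_compl hU hG hM hE hPE).coprime_dvd_right
        (card_dvd_of_le hT.le))
      fun t ht hd => eq_of_dvd_card_pGroup hT.isPGroup ht hd ▸ D.not_beta hU hG hq hqd
    exact sylIn_ne_bot hT hqσd (le_bot_iff.1
      ((le_inf hT.le (le_centralizer_iff.1 hPT')).trans hreg.le))
  -- `u ∈ τ₁(N) ∪ τ₃(N)`
  have huN : ∀ L : Subgroup G, IsCoatom L →
      (∃ c : G, L = cj c L₀) → u ∣ Nat.card L → Tau13 L u := by
    rintro L hL ⟨c, rfl⟩ hd
    have huσ : u ∉ sigma (cj c L₀) := fun h => by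
      rw [sigma_cj] at h
      exact not_ideal_of_tau2 hU hG hM hu
        (hbeta u h ((dvd_of_pGroup_ne_bot hAp fun e => by
          rw [e, card_bot] at hA2
          exact hu.1.ne_one ((Nat.pow_eq_one.1 hA2.symm).resolve_right two_ne_zero)).trans
            (card_dvd_of_le (hAE.trans hE.1))))
    refine (tau_cases hU hG hL hd huσ).resolve_right fun h2 => ?_
    rw [tau2_map (MulAut.conj c)] at h2
    obtain ⟨A', hA'E, hA', hA'2⟩ := exists_elementary_compl hU hG hL₀ h2 D.compl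
    have h0 := (hU.s1417 hG M hM u hu A' ⟨hA'E.trans inf_le_left, hA', hA'2⟩).2.2.2.2.1 L₀ hL₀
      (fun e => hnc 1 (by rw [cj_one, e])) (hA'E.trans inf_le_right)
    have hxN : x ∈ L₀ := D.le (mem_centralizer_singleton'.2 rfl)
    have hxb : x ∈ sigmaCore M ⊓ L₀ := mem_inf.2 ⟨hx, hxN⟩
    rw [h0, mem_bot] at hxb
    exact hx1 hxb
  -- the maximal subgroup containing `N(P)`
  obtain ⟨L, hL, hNP⟩ := exists_maximal_normalizer hG (isPGroup_of_card_prime hP)
    (ne_bot_of_card_prime hP)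
  have hpL : p' ∈ sigma L := (sigma_or_tau2 hU hG hP hL hNP).resolve_right fun h =>
    not_ideal_of_tau2 hU hG hL h (hbeta p' hpN hpM)
  obtain ⟨c, hc⟩ := sigma_disjoint hU hG hL₀ hL hpN hpL
  have hPL : P ≤ L := le_normalizer.trans hNP
  have hPσL : P ≤ sigmaCore L := pGroup_le_sigmaCore hU hG hL hpL (isPGroup_of_card_prime hP) hPL
  -- `[A, P]`
  have hPA : P ≤ normalizer (A : Set G) := hPE.trans hEA
  have hpA : ¬ p' ∣ Nat.card A := fun h =>
    hu.2.2.2 ((eq_of_dvd_card_pGroup hAp hp.out h) ▸ hp1.2.2.2.2)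
  have hcopPA : (Nat.card P).Coprime (Nat.card A) := by
    rw [hP]; exact hp.out.coprime_iff_not_dvd.2 hpA
  haveI := hA.1
  have hsupA := CfsgLib.Coprime.commutator_sup_centralizer hPA hcopPA
    (Or.inl (minSimple_solvable hG (ne_top_of_le_maximal hM hPM)))
  have hdisj := CfsgLib.Coprime.centralizer_inf_commutator_eq_bot hPA hcopPA
  have hA1C : ⁅A, P⁆ ≤ centralizer (sigmaCore M : Set G) :=
    commutator_le_centralizer_sigmaCore hU hG hM hP hPM (hAE.trans hE.1) hPA hpσ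
      (fun t ht hd => eq_of_dvd_card_pGroup hAp ht hd ▸ hu.2.1) hpA hreg
  by_cases hA1 : ⁅A, P⁆ = ⊥
  · have hAL : A ≤ L := (commutator_eq_bot_iff_le_centralizer.1 hA1).trans
      (centralizer_le_of_normalizer_le hNP)
    have h13 := huN L hL ⟨c, hc⟩
      ((hA2 ▸ dvd_pow_self u two_ne_zero : u ∣ Nat.card A).trans (card_dvd_of_le hAL))
    exact BG12.not_isCyclic_of_sq hA hA2 (isCyclic_of_pGroup_le hG h13.2.2.2 hAL hAp)
  have hcA : ⁅A, P⁆ ≤ A := CfsgLib.Coprime.commutator_le_of_le_normalizer hPA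
  obtain ⟨u₁, hu₁, hu₁d, R, hR1, hR⟩ := exists_card_prime hA1
  obtain rfl : u₁ = u := eq_of_dvd_card_pGroup (hAp.to_le hcA) hu₁ hu₁d
  have hB : A ⊓ centralizer (P : Set G) ≠ ⊥ := fun h => by
    rw [h, sup_bot_eq] at hsupA
    rw [hsupA] at hA1C
    refine sigmaCore_ne_bot hU.s1403 hG hM (le_bot_iff.1 (le_trans ?_ hCA.le))
    exact le_inf le_rfl (le_centralizer_iff.1 hA1C)
  obtain ⟨u₂, hu₂, hu₂d, B, hB1, hBc⟩ := exists_card_prime hB
  obtain rfl : u₂ = u₁ := eq_of_dvd_card_pGroup (hAp.to_le inf_le_left) hu₂ hu₂d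
  -- `u ∈ κ(N)`
  have hBL : B ≤ L := (hB1.trans inf_le_right).trans (centralizer_le_of_normalizer_le hNP)
  have huk : u₂ ∈ kappa L := mem_kappa_of hU hG hL
    (huN L hL ⟨c, hc⟩ (hBc ▸ card_dvd_of_le hBL)) hBc hBL fun h =>
      ne_bot_of_card_prime hP (le_bot_iff.1 (h ▸ le_inf hPσL
        (le_centralizer_iff.1 (hB1.trans inf_le_right))))
  have hukN : u₂ ∈ kappa L₀ := by rwa [hc, kappa_map (MulAut.conj c)] at huk
  -- `R` centralises `x`
  have hRM : R ≤ M := (hR1.trans hcA).trans (hAE.trans hE.1)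
  have hRx : R ≤ L₀ := by
    refine (le_trans ?_ D.le)
    exact (hR1.trans hA1C).trans (centralizer_le (Set.singleton_subset_iff.2 hx))
  obtain ⟨-, hu'⟩ := unique_of_tau2_fix hU hG hM hu hR hRM fun h => hx1 (by
    have hxb : x ∈ sigmaCore M ⊓ centralizer (R : Set G) :=
      mem_inf.2 ⟨hx, le_centralizer_iff.1 (hR1.trans hA1C) hx⟩
    rw [h, mem_bot] at hxb
    exact hxb)
  obtain ⟨L₂, hL₂, hN₂⟩ := exists_maximal_normalizer hG (isPGroup_of_card_prime hR)
    (ne_bot_of_card_prime hR)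
  have h := partner_sigma hU hG hL₀ hukN hR hRx hL₂ hN₂
  rw [hu' L₂ hL₂ (centralizer_le_of_normalizer_le hN₂)] at h
  exact hu.2.1 h

include hU in
theorem stmtS1436_of : StmtS1436.{u} := by
  intro G _ _ hG M hM x hx hx1 hxM N hN hxN
  obtain ⟨N₀, D⟩ := exists_support hU hG hM hx hx1 hxM
  obtain rfl := D.uniq N hN hxN
  refine ⟨fun ⟨p, hp, hd⟩ => ⟨D.kappa_eq_empty hU hG hM hx hx1 hp hd,
    D.tau2_eq_empty hU hG hM hx hx1 hp hd⟩, fun y N' g hy hy1 hyM hN' hyN' he => ?_⟩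
  obtain ⟨N₁, D'⟩ := exists_support hU hG hM hy hy1 hyM
  obtain rfl := D'.uniq N' hN' hyN'
  change cj g N' = N at he
  -- the two complements of `N_σ`
  have hE₁ : IsComplIn (cj g (M ⊓ N')) (sigmaCore N) N := by
    have h := (isComplIn_map_iff (MulAut.conj g) (M ⊓ N') (sigmaCore N') N').2 D'.compl
    rw [← map_sigmaCore] at h
    change IsComplIn (cj g (M ⊓ N')) (sigmaCore (cj g N')) (cj g N') at h
    rwa [he] at h
  obtain ⟨a, ha, hae⟩ := compl_conj hU hG hN hE₁ D.compl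
  rw [← cj_mul] at hae
  set h := a * g with hh
  have hhN : cj h N' = N := by rw [hh, cj_mul, he, cj_eq_self_of_mem (sigmaCore_le N ha)]
  have hle : M ⊓ N ≤ cj h M := hae.ge.trans (cj_mono inf_le_left)
  have hxC : x ∈ centralizer ({x} : Set G) := mem_centralizer_singleton'.2 rfl
  obtain ⟨r, hr, hre⟩ := exists_supportR_cj hU hG hM hx hx1 (g := h)
    (hle (mem_inf.2 ⟨sigmaCore_le M hx, D.le hxC⟩))
  rw [D.supportR_eq hU hG hM hxM] at hr
  have hrσ := (mem_inf.1 hr).1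
  have hcent : r ∈ centralizer ((M ⊓ N : Subgroup G) : Set G) := by
    refine mem_centralizer_iff.2 fun e he' => ?_
    have h1 : r⁻¹ * e * r ∈ M := mem_cj.1 (hre.ge (hle he'))
    have h2 : r⁻¹ * e * r * e⁻¹ ∈ (M ⊓ N) ⊓ sigmaCore N := by
      refine mem_inf.2 ⟨mem_inf.2 ⟨mul_mem h1 (inv_mem (mem_inf.1 he').1),
        mul_mem (mul_mem (mul_mem (inv_mem (sigmaCore_le N hrσ)) (mem_inf.1 he').2)
          (sigmaCore_le N hrσ)) (inv_mem (mem_inf.1 he').2)⟩, ?_⟩
      have : r⁻¹ * e * r * e⁻¹ = r⁻¹ * (e * r * e⁻¹) := by group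
      rw [this]
      exact mul_mem (inv_mem hrσ)
        ((mem_normalizer_iff.1 (le_normalizer_sigmaCore N (mem_inf.1 he').2) r).1 hrσ)
    rw [D.compl.2.2.1, mem_bot, mul_inv_eq_one] at h2
    calc e * r = r * (r⁻¹ * e * r) := by group
      _ = r * e := by rw [h2]
  obtain ⟨q, hq, hqd, -⟩ := exists_prime_le_zpowers hx1
  haveI := Fact.mk hq
  obtain ⟨A, hAE, hA, hA2⟩ := exists_elementary_compl hU hG hN (D.tau2 q hq hqd) D.compl
  have hA0 := (hU.s1417 hG N hN q (D.tau2 q hq hqd) A ⟨hAE.trans inf_le_right, hA, hA2⟩).2.2.2.1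
  have hr1 : r ∈ sigmaCore N ⊓ centralizer (A : Set G) :=
    mem_inf.2 ⟨hrσ, centralizer_le hAE hcent⟩
  rw [hA0, mem_bot] at hr1
  rw [hr1, cj_one] at hre
  exact ⟨h, mem_maximal_of_cj_eq hG hM hre.symm, hhN⟩

end CfsgLib.FT.BG13
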