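import Cfsg.Agent.Lib.FT.BG13.S1411
import Cfsg.Agent.Lib.OddOrder.FittingLocal
import Cfsg.Agent.Lib.FT.BG12.Fifteen

/-!
BG 14.12: the maximal subgroup containing the normaliser of a Sylow subgroup of `U`.
-/

set_option autoImplicit false
set_option linter.style.haveILetI false
set_option linter.unusedSectionVars false

universe u

namespace CfsgLib.FT.BG13

open Cfsg CfsgLib.OddOrder CfsgLib.Techniques _root_.Subgroup
open scoped commutatorElement

variable {G : Type u} [Group G] [Finite G]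
variable (hU : Upstream.{u}) (hG : IsMinSimpleOddOrder G)
variable {M K U L H : Subgroup G}

include hU hG in
/-- A given standard factorisation is one of those of BG 14.2. -/
theorem kuData_of_decomposition (hM : IsCoatom M) (h : IsSigmaDecomposition M K U) (hK1 : K ≠ ⊥) :
    KUData M (K ⊔ U) K U := by
  have hK := h.hall
  have hUM : U ≤ M := h.compl.1
  have hUσ : ∀ q : ℕ, q.Prime → q ∣ Nat.card U → q ∉ sigma M := by
    intro q hq hd hqσ
    haveI := Fact.mk hq
    obtain ⟨u, hu⟩ := exists_prime_orderOf_dvd_card' q hd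
    rw [← orderOf_coe] at hu
    have h1 : (u : G) ∈ U ⊓ (K ⊔ sigmaCore M) := mem_inf.2 ⟨u.2,
      (le_sup_right : sigmaCore M ≤ K ⊔ sigmaCore M) (mem_sigmaCore_of_orderOf hU hG hM (hUM u.2)
        fun t ht htd => (Nat.prime_dvd_prime_iff_eq ht hq).1 (hu ▸ htd) ▸ hqσ)⟩
    rw [h.compl.2.2.1, mem_bot] at h1
    rw [h1, orderOf_one] at hu
    exact hq.ne_one hu.symm
  have hUK : U ⊓ K = ⊥ :=
    le_bot_iff.1 ((inf_le_inf_left _ le_sup_left).trans h.compl.2.2.1.le)
  have hcard : Nat.card ↥(K ⊔ U) = Nat.card K * Nat.card U :=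
    CfsgLib.Coprime.card_sup_of_inf_eq_bot h.normal (by rw [inf_comm]; exact hUK)
  have hEσ : ∀ q : ℕ, q.Prime → q ∣ Nat.card ↥(K ⊔ U) → q ∉ sigma M := by
    intro q hq hd
    rw [hcard] at hd
    rcases hq.dvd_mul.1 hd with h' | h'
    exacts [(hK.2.1 q hq h').2.2.1, hUσ q hq h']
  have hE : IsComplIn (K ⊔ U) (sigmaCore M) M := by
    refine ⟨sup_le hK.1 hUM, sigmaCore_le M, ?_, fun m hm => ?_⟩
    · rw [inf_comm]
      exact inf_sigmaCore_eq_bot hU hG hM hEσ
    · obtain ⟨u, hu, b, hb, rfl⟩ := h.compl.2.2.2 m hm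
      obtain ⟨k, hk, s, hs, rfl⟩ := (CfsgLib.Coprime.mem_sup_iff_of_le_normalizer
        (hK.1.trans (le_normalizer_sigmaCore M))).1 hb
      exact ⟨u * k, mul_mem ((le_sup_right : U ≤ K ⊔ U) hu) ((le_sup_left : K ≤ K ⊔ U) hk), s, hs,
        (mul_assoc _ _ _).symm⟩
  have hKi : K.relIndex (K ⊔ U) = Nat.card U := Nat.eq_of_mul_eq_mul_left (Nat.card_pos (α := K))
    ((BG12.card_mul_relIndex le_sup_left).trans hcard)
  have hUi : U.relIndex (K ⊔ U) = Nat.card K := Nat.eq_of_mul_eq_mul_left (Nat.card_pos (α := U))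
    ((BG12.card_mul_relIndex le_sup_right).trans (hcard.trans (mul_comm _ _)))
  have hUu : ∀ q : ℕ, q.Prime → q ∣ Nat.card U → q ∈ uPrimes M := fun q hq hd =>
    ⟨hq, fun hk => hK.2.2 q hq hk
      ((hKi.symm ▸ hd).trans (Dvd.intro _ (relIndex_mul_relIndex K (K ⊔ U) M le_sup_left hE.1))),
      hUσ q hq hd⟩
  have hUE : IsPiHallOf (uPrimes M) U (K ⊔ U) := ⟨le_sup_right, hUu, fun q hq hπ hd =>
    hπ.2.1 (hK.2.1 q hq (hUi ▸ hd))⟩
  obtain ⟨U₁, D⟩ := exists_kuData hU hG hM hK hK1 hE le_sup_left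
  have hU₁E : IsPiHallOf (uPrimes M) U₁ (K ⊔ U) := ⟨D.U_le, D.hallU.2.1, fun q hq hπ hd =>
    D.hallU.2.2 q hq hπ (hd.trans (Dvd.intro _ (relIndex_mul_relIndex U₁ _ M D.U_le hE.1)))⟩
  obtain rfl : U₁ = U := le_antisymm
    (le_of_normal_hall (sup_le h.normal le_normalizer) hUE D.U_le D.hallU.2.1)
    (le_of_normal_hall D.normalU hU₁E le_sup_right hUu)
  exact D

include hU hG in
/-- If `C(B) ≰ L` for a subgroup `B` of order `v ∈ σ(L)`, the maximal subgroup containing `C(B)`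
still meets `L` in a complement that contains every elementary subgroup of order `v ^ 2` over `B`
normalised by `Y`. -/
theorem le_of_support_trick (hL : IsCoatom L) {v y : ℕ} [hv : Fact v.Prime] [hy : Fact y.Prime]
    {A B Y : Subgroup G} (hY : Nat.card Y = y) (hYL : Y ≤ L)
    (hCY : centralizer (Y : Set G) ≤ L) (hB : Nat.card B = v) (hBL : B ≤ L) (hvσ : v ∈ sigma L)
    (hBA : B ≤ A) (hA : IsElementaryAbelian v A) (hYB : Y ≤ centralizer (B : Set G))
    (hYA : Y ≤ normalizer (A : Set G)) (hCB : ¬ centralizer (B : Set G) ≤ L) : A ≤ L := by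
  obtain ⟨⟨b, hb⟩, hb1'⟩ := (ne_bot_iff_exists_ne_one).1 (ne_bot_of_card_prime hB)
  have hb1 : b ≠ 1 := fun e => hb1' (Subtype.ext e)
  have hbo : orderOf b = v := (hv.out.eq_one_or_self_of_dvd _
    (hB ▸ orderOf_dvd_natCard B hb)).resolve_left fun e => hb1 (orderOf_eq_one_iff.1 e)
  have hzb : zpowers b = B := Subgroup.eq_of_le_of_card_ge (zpowers_le.2 hb)
    (by rw [hB, Nat.card_zpowers, hbo])
  have hCeq : centralizer (B : Set G) = centralizer ({b} : Set G) := by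
    rw [← hzb, centralizer_zpowers']
  rw [hCeq] at hCB
  obtain ⟨N, D⟩ := exists_support hU hG hL
    (pGroup_le_sigmaCore hU hG hL hvσ (isPGroup_of_card_prime hB) hBL hb) hb1 hCB
  have hCN : centralizer (B : Set G) ≤ N := hCeq.le.trans D.le
  have hAN : A ≤ N :=
    ((le_centralizer_iff_isMulCommutative.2 hA.1).trans (centralizer_le hBA)).trans hCN
  have hYN : Y ≤ N := hYB.trans hCN
  have hyN : y ∉ sigma N := compl_primes hU hG D.maxN D.compl hy.out
    (hY ▸ card_dvd_of_le (le_inf hYL hYN))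
  have hvN : v ∉ sigma N := (D.tau2 v hv.out (hbo ▸ dvd_rfl)).2.1
  obtain ⟨E₂, hE₂, hle⟩ := exists_compl_ge hU hG D.maxN (sup_le hYN hAN) fun q hq hd => by
    rcases hq.dvd_mul.1 (hd.trans (CfsgLib.Coprime.card_sup_dvd hYA)) with h | h
    · exact eq_of_dvd_card_pGroup (isPGroup_of_card_prime hY) hq h ▸ hyN
    · exact eq_of_dvd_card_pGroup (CfsgLib.Base.isPGroup_of_isElementaryAbelian hA) hq h ▸ hvN
  obtain ⟨a, ha, he⟩ := exists_centralizer_compl hU hG D.maxN D.compl hE₂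
    (sup_le (le_inf hBL (hBA.trans hAN)) (le_inf hYL hYN) : B ⊔ Y ≤ L ⊓ N)
    ((sup_le (hBA.trans le_sup_right) le_sup_left).trans hle)
  have haL : a ∈ L := hCY (centralizer_le (le_sup_right : Y ≤ B ⊔ Y) (mem_inf.1 ha).2)
  calc A ≤ E₂ := le_sup_right.trans hle
    _ = cj a⁻¹ (cj a E₂) := (cj_inv_cj a E₂).symm
    _ ≤ cj a⁻¹ L := cj_mono (he.le.trans inf_le_left)
    _ = L := cj_eq_self_of_mem (inv_mem haL)

/-- The situation of BG 14.12. -/
structure TypeTwoSetup (M K U L H : Subgroup G) (y : ℕ) : Prop where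
  maxM : IsCoatom M
  maxH : IsCoatom H
  dec : IsSigmaDecomposition M K U
  hK1 : K ≠ ⊥
  hU1 : U ≠ ⊥
  D : KUData M (K ⊔ U) K U
  P : Partners M K L
  prime : y.Prime
  cardK : Nat.card K = y
  leH : K ⊔ U ≤ H
  ne : H ≠ M
  nconjM : ∀ g : G, H ≠ cj g M

namespace TypeTwoSetup

variable {y : ℕ} (S : TypeTwoSetup M K U L H y)
include S

theorem K_le : K ≤ H := le_sup_left.trans S.leH
theorem U_le : U ≤ H := le_sup_right.trans S.leH
theorem K_le_L : K ≤ sigmaCore L := S.P.side.ge.trans inf_le_left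

include hU hG in
theorem y_sigmaL : y ∈ sigma L :=
  sigmaCore_primes hU hG S.P.maxL S.prime (S.cardK ▸ card_dvd_of_le S.K_le_L)

theorem normalizer_K : normalizer (K : Set G) ≤ L :=
  haveI := Fact.mk S.prime
  (S.P.pair.right y K S.cardK S.P.side.ge).2.1

theorem centralizer_K : centralizer (K : Set G) ≤ L := centralizer_le_of_normalizer_le S.normalizer_K

theorem y_tau1 : y ∈ tau1 M :=
  S.P.kappa_eq ▸ S.dec.hall.2.1 y S.prime (S.cardK ▸ dvd_rfl)

include hU hG in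
theorem U_inf_L : U ⊓ L = ⊥ := by
  have h : U ⊓ (K ⊔ kstar M K) = ⊥ := inf_eq_bot_of_primes S.D.hallU.2.1 fun q hq hd h => by
    rw [card_sup_kstar hU hG S.maxM S.dec.hall] at hd
    rcases hq.dvd_mul.1 hd with h' | h'
    · exact h.2.1 (S.dec.hall.2.1 q hq h')
    · exact h.2.2 (sigmaCore_primes hU hG S.maxM hq (h'.trans (card_dvd_of_le inf_le_left)))
  refine le_bot_iff.1 (le_trans ?_ h.le)
  rw [← S.P.inter]
  exact le_inf inf_le_left (le_inf (inf_le_left.trans S.dec.compl.1) inf_le_right)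

include hU hG in
theorem y_not_sigmaH : y ∉ sigma H := fun h => by
  haveI := Fact.mk S.prime
  obtain ⟨g, hg⟩ := sigma_disjoint hU hG S.P.maxL S.maxH (S.y_sigmaL hU hG) h
  have hHL : H = L := hg.trans (cj_eq_of_normalizer_le hU hG S.P.maxL (S.y_sigmaL hU hG)
    (isPGroup_of_card_prime S.cardK) S.hK1 S.normalizer_K (hg ▸ S.K_le))
  exact S.hU1 (le_bot_iff.1 ((le_inf le_rfl (S.U_le.trans hHL.le)).trans (S.U_inf_L hU hG).le))

include hU hG in
theorem nconjL (g : G) : H ≠ cj g L := fun h =>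
  S.y_not_sigmaH hU hG (by rw [h, sigma_cj]; exact S.y_sigmaL hU hG)

include hU hG in
theorem kappa_eq_empty : kappa H = ∅ := by
  by_contra hne
  obtain ⟨g, h | h⟩ := (stmtS1369_of hU hG M S.maxM K U S.dec S.hK1 L S.P.maxL S.P.kstarL.symm
    S.P.hallL).2 H S.maxH (Set.nonempty_iff_ne_empty.2 hne)
  exacts [S.nconjM g h, S.nconjL hU hG g h]

include hU hG in
/-- `K` has no fixed points on `H_σ`. -/
theorem fix : sigmaCore H ⊓ centralizer (K : Set G) = ⊥ := by
  haveI := Fact.mk S.prime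
  by_contra hne
  rcases tau_cases hU hG S.maxH (S.cardK ▸ card_dvd_of_le S.K_le) (S.y_not_sigmaH hU hG)
    with h | h
  · have := mem_kappa_of hU hG S.maxH h S.cardK S.K_le hne
    rw [S.kappa_eq_empty hU hG] at this
    exact this
  · exact S.nconjL hU hG 1 (by
      rw [cj_one]
      exact ((unique_of_tau2_fix hU hG S.maxH h S.cardK S.K_le hne).2 L S.P.maxL
        S.centralizer_K).symm)

include hU hG in
theorem nilpotent : Group.IsNilpotent (sigmaCore H) :=
  CfsgLib.Base.IsFPF.isNilpotent (A := K)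
    ⟨S.K_le.trans (le_normalizer_sigmaCore H), fun a ha ha1 => by
      haveI := Fact.mk S.prime
      refine le_bot_iff.1 (le_trans (inf_le_inf_left _ ?_) (S.fix hU hG).le)
      rw [← centralizer_zpowers']
      refine centralizer_le (le_of_eq (congrArg SetLike.coe (Subgroup.eq_of_le_of_card_ge
        (zpowers_le.2 ha) ?_).symm))
      have hd : orderOf a ∣ y := S.cardK ▸ orderOf_dvd_natCard K ha
      rw [S.cardK, Nat.card_zpowers]
      exact ((S.prime.eq_one_or_self_of_dvd _ hd).resolve_left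
        fun e => ha1 (orderOf_eq_one_iff.1 e)).ge⟩ S.hK1

include hU hG in
/-- `[Q, K]` centralises `H_σ`. -/
theorem comm_le {Q : Subgroup G} (hQ : Q ≤ H) (hKQ : K ≤ normalizer (Q : Set G))
    (hσ : ∀ t : ℕ, t.Prime → t ∣ Nat.card Q → t ∉ sigma H) (hy : ¬ y ∣ Nat.card Q) :
    ⁅Q, K⁆ ≤ centralizer (sigmaCore H : Set G) :=
  haveI := Fact.mk S.prime
  commutator_le_centralizer_sigmaCore hU hG S.maxH S.cardK S.K_le hQ hKQ (S.y_not_sigmaH hU hG)
    hσ hy (S.fix hU hG)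

omit [Finite G] in
theorem fix_ne_bot (hU : Upstream.{u}) (hG : IsMinSimpleOddOrder G) [Finite G] {X : Subgroup G}
    (hX : X ≤ centralizer (sigmaCore H : Set G)) :
    sigmaCore H ⊓ centralizer (X : Set G) ≠ ⊥ := by
  rw [inf_eq_left.2 (le_centralizer_iff.1 hX)]
  exact sigmaCore_ne_bot hU.s1403 hG S.maxH

include hU hG in
/-- A prime outside `σ(H)` of a subgroup centralising `H_σ` is in `τ₂(H)`. -/
theorem tau2_of_centralizes {v : ℕ} [Fact v.Prime] {X : Subgroup G} (hX : Nat.card X = v)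
    (hXH : X ≤ H) (hv : v ∉ sigma H) (hC : X ≤ centralizer (sigmaCore H : Set G)) :
    v ∈ tau2 H :=
  (tau_cases hU hG S.maxH (hX ▸ card_dvd_of_le hXH) hv).resolve_left fun h13 => by
    have := mem_kappa_of hU hG S.maxH h13 hX hXH (S.fix_ne_bot hU hG hC)
    rw [S.kappa_eq_empty hU hG] at this
    exact this

include hU hG in
/-- The decomposition of an elementary subgroup of order `v ^ 2` of `H` by the action of `K`. -/
theorem split {v : ℕ} [hv : Fact v.Prime] (hv2 : v ∈ tau2 H) {A X : Subgroup G}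
    (hAH : A ≤ H) (hA : IsElementaryAbelian v A) (hA2 : Nat.card A = v ^ 2)
    (hKA : K ≤ normalizer (A : Set G)) (hvy : y ≠ v) (hX : X ≤ A) (hX1 : X ≠ ⊥)
    (hXC : X ⊓ centralizer (K : Set G) = ⊥) :
    ⁅A, K⁆ ≤ centralizer (sigmaCore H : Set G) ∧ Nat.card ↥⁅A, K⁆ = v ∧
      Nat.card ↥(A ⊓ centralizer (K : Set G)) = v ∧
      (A ⊓ centralizer (K : Set G)) ⊓ ⁅A, K⁆ = ⊥ ∧ ⁅A, K⁆ ≤ A := by
  haveI := Fact.mk S.prime
  haveI := hA.1
  have hAp : IsPGroup v A := CfsgLib.Base.isPGroup_of_isElementaryAbelian hA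
  have hyA : ¬ y ∣ Nat.card A := fun h => hvy (eq_of_dvd_card_pGroup hAp S.prime h)
  have hcop : (Nat.card K).Coprime (Nat.card A) := by
    rw [S.cardK]; exact S.prime.coprime_iff_not_dvd.2 hyA
  have hC := S.comm_le hU hG hAH hKA (fun t ht hd => eq_of_dvd_card_pGroup hAp ht hd ▸ hv2.2.1)
    hyA
  have hcA : ⁅A, K⁆ ≤ A := CfsgLib.Coprime.commutator_le_of_le_normalizer hKA
  have hdisj := CfsgLib.Coprime.centralizer_inf_commutator_eq_bot hKA hcop
  have hsup := CfsgLib.Coprime.commutator_sup_centralizer hKA hcop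
    (Or.inl (minSimple_solvable hG (ne_top_of_le_maximal S.maxH S.K_le)))
  have hne : ⁅A, K⁆ ≠ A := fun e => by
    rw [e] at hC
    refine sigmaCore_ne_bot hU.s1403 hG S.maxH (le_bot_iff.1
      ((le_inf le_rfl (le_centralizer_iff.1 hC)).trans
        (hU.s1417 hG H S.maxH v hv2 A ⟨hAH, hA, hA2⟩).2.2.2.1.le))
  have hne' : ⁅A, K⁆ ≠ ⊥ := fun e => by
    rw [e, bot_sup_eq, inf_eq_left] at hsup
    exact hX1 (le_bot_iff.1 (hXC ▸ le_inf le_rfl (hX.trans hsup)))
  have hmul := CfsgLib.Coprime.card_sup_of_inf_eq_bot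
    (H := ⁅A, K⁆) (N := A ⊓ centralizer (K : Set G))
    (hcA.trans ((le_centralizer_iff_isMulCommutative.2 hA.1).trans
      ((centralizer_le inf_le_left).trans (centralizer_le_normalizer _))))
    (by rw [inf_comm]; exact hdisj)
  rw [hsup, hA2] at hmul
  obtain ⟨i, hi, hci⟩ := (Nat.dvd_prime_pow hv.out).1 (Dvd.intro _ hmul.symm)
  have hi0 : i ≠ 0 := fun e => hne' (eq_bot_of_card_eq _ (by rw [hci, e, pow_zero]))
  have hi2 : i ≠ 2 := fun e => hne (Subgroup.eq_of_le_of_card_ge hcA (by rw [hA2, hci, e]))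
  obtain rfl : i = 1 := by omega
  rw [pow_one] at hci
  rw [hci, pow_two] at hmul
  exact ⟨hC, hci, (Nat.eq_of_mul_eq_mul_left hv.out.pos hmul).symm, hdisj, hcA⟩

include hU hG in
/-- The three cases for a subgroup of order `v` of `C(K)`. -/
theorem le_L_cases {v : ℕ} [hv : Fact v.Prime] {A B : Subgroup G} (hA : IsElementaryAbelian v A)
    (hBA : B ≤ A) (hB : Nat.card B = v) (hBC : B ≤ centralizer (K : Set G))
    (hKA : K ≤ normalizer (A : Set G)) :
    (A ≤ L ∧ (v ∈ sigma L ∨ v ∈ tau2 L)) ∨ v ∈ kappa L := by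
  haveI := Fact.mk S.prime
  have hBL : B ≤ L := hBC.trans S.centralizer_K
  have hAB : A ≤ centralizer (B : Set G) :=
    (le_centralizer_iff_isMulCommutative.2 hA.1).trans (centralizer_le hBA)
  by_cases hvσ : v ∈ sigma L
  · refine Or.inl ⟨?_, Or.inl hvσ⟩
    by_cases hCB : centralizer (B : Set G) ≤ L
    · exact hAB.trans hCB
    · exact le_of_support_trick hU hG S.P.maxL S.cardK (S.K_le_L.trans (sigmaCore_le L))
        S.centralizer_K hB hBL hvσ hBA hA (le_centralizer_iff.1 hBC) hKA hCB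
  have hfix : sigmaCore L ⊓ centralizer (B : Set G) ≠ ⊥ := fun h =>
    S.hK1 (le_bot_iff.1 (h ▸ le_inf S.K_le_L (le_centralizer_iff.1 hBC)))
  rcases tau_cases hU hG S.P.maxL (hB ▸ card_dvd_of_le hBL) hvσ with h | h
  · exact Or.inr (mem_kappa_of hU hG S.P.maxL h hB hBL hfix)
  · exact Or.inl ⟨hAB.trans (unique_of_tau2_fix hU hG S.P.maxL h hB hBL hfix).1, Or.inr h⟩

theorem kappaL_dvd {v : ℕ} (hv : v.Prime) (h : v ∈ kappa L) : v ∣ Nat.card (kstar M K) := by
  have h1 := BG12.card_mul_relIndex S.P.hallL.1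
  exact (hv.dvd_mul.1 (h1.symm ▸ h.2.1)).resolve_right (S.P.hallL.2.2 v hv h)

include hU hG in
theorem kappaL_sigma {v : ℕ} (hv : v.Prime) (h : v ∈ kappa L) : v ∈ sigma M :=
  sigmaCore_primes hU hG S.maxM hv ((S.kappaL_dvd hv h).trans (card_dvd_of_le inf_le_left))

include hU hG in
/-- No prime of `U` is in `τ₂(H)`. -/
theorem not_tau2 {v : ℕ} [hv : Fact v.Prime] (hd : v ∣ Nat.card U) : v ∉ tau2 H := by
  intro h2
  haveI := Fact.mk S.prime
  have hvu := S.D.hallU.2.1 v hv.out hd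
  have hvy : y ≠ v := fun e => hvu.2.1 (e ▸ S.dec.hall.2.1 y S.prime (S.cardK ▸ dvd_rfl))
  have hKU : K ≤ normalizer (U : Set G) := S.dec.normal
  have hcopU : (Nat.card K).Coprime (Nat.card U) := by
    rw [S.cardK]
    exact S.prime.coprime_iff_not_dvd.2 fun h =>
      (S.D.hallU.2.1 y S.prime h).2.1 (S.dec.hall.2.1 y S.prime (S.cardK ▸ dvd_rfl))
  obtain ⟨T', hTn⟩ := CfsgLib.Coprime.exists_invariant_sylow (p := v) hKU hcopU
    (Or.inl (minSimple_solvable hG (ne_top_of_le_maximal S.maxH S.K_le)))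
  set T := (T' : Subgroup U).map U.subtype with hTdef
  have hT : SylIn v T U := sylIn_sylow_map T'
  obtain ⟨E, hE, hle⟩ := exists_compl_ge hU hG S.maxH
    (sup_le S.K_le (hT.le.trans S.U_le)) fun q hq hd' => by
      rcases hq.dvd_mul.1 (hd'.trans (CfsgLib.Coprime.card_sup_dvd hTn)) with h | h
      · exact eq_of_dvd_card_pGroup (isPGroup_of_card_prime S.cardK) hq h ▸ S.y_not_sigmaH hU hG
      · exact eq_of_dvd_card_pGroup hT.isPGroup hq h ▸ h2.2.1
  obtain ⟨A, hAE, hA, hA2⟩ := exists_elementary_compl hU hG S.maxH h2 hE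
  obtain ⟨⟨hEA, hall⟩, -, -⟩ := hU.s1418 hG H S.maxH E hE v h2 A ⟨hAE, hA, hA2⟩
  have hKE : K ≤ E := le_sup_left.trans hle
  obtain ⟨v', hv', hvd', W, hWT, hW⟩ := exists_card_prime (sylIn_ne_bot hT hd)
  obtain rfl : v' = v := eq_of_dvd_card_pGroup hT.isPGroup hv' hvd'
  have hWA : W ≤ A := hall W ((hWT.trans le_sup_right).trans hle) hW
  have hXC : (A ⊓ U) ⊓ centralizer (K : Set G) = ⊥ := by
    obtain ⟨⟨a, ha⟩, ha1⟩ := (ne_bot_iff_exists_ne_one).1 S.hK1
    exact le_bot_iff.1 ((inf_le_inf inf_le_right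
      (centralizer_le (Set.singleton_subset_iff.2 ha))).trans
        (S.D.free a ha fun e => ha1 (Subtype.ext e)).le)
  have hX1 : A ⊓ U ≠ ⊥ := fun e =>
    ne_bot_of_card_prime hW (le_bot_iff.1 (e ▸ le_inf hWA (hWT.trans hT.le)))
  obtain ⟨-, -, hB, -, -⟩ := S.split hU hG h2 (hAE.trans hE.1) hA hA2 (hKE.trans hEA) hvy
    inf_le_left hX1 hXC
  rcases S.le_L_cases hU hG hA inf_le_left hB inf_le_right (hKE.trans hEA) with ⟨hAL, -⟩ | hk
  · exact hX1 (le_bot_iff.1 ((le_inf inf_le_right (inf_le_left.trans hAL)).trans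
      (S.U_inf_L hU hG).le))
  · exact hvu.2.2 (S.kappaL_sigma hU hG hv.out hk)

include hU hG in
theorem U_le_sigmaCore : U ≤ sigmaCore H := by
  refine le_sigmaCore hU hG S.maxH S.U_le fun v hv hd => by_contra fun hvσ => ?_
  haveI := Fact.mk hv
  haveI := Fact.mk S.prime
  have hKU : K ≤ normalizer (U : Set G) := S.dec.normal
  haveI := S.D.comm
  have hyU : ¬ y ∣ Nat.card U := fun h =>
    (S.D.hallU.2.1 y S.prime h).2.1 (S.dec.hall.2.1 y S.prime (S.cardK ▸ dvd_rfl))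
  have hcop : (Nat.card K).Coprime (Nat.card U) := by
    rw [S.cardK]; exact S.prime.coprime_iff_not_dvd.2 hyU
  have hsolv : Group.IsSolvable K := minSimple_solvable hG (ne_top_of_le_maximal S.maxH S.K_le)
  obtain ⟨T', hTn⟩ := CfsgLib.Coprime.exists_invariant_sylow (p := v) hKU hcop (Or.inl hsolv)
  set T := (T' : Subgroup U).map U.subtype with hTdef
  have hT : SylIn v T U := sylIn_sylow_map T'
  have hTC : T ⊓ centralizer (K : Set G) = ⊥ := by
    obtain ⟨⟨a, ha⟩, ha1⟩ := (ne_bot_iff_exists_ne_one).1 S.hK1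
    exact le_bot_iff.1 ((inf_le_inf hT.le (centralizer_le (Set.singleton_subset_iff.2 ha))).trans
      (S.D.free a ha fun e => ha1 (Subtype.ext e)).le)
  have hTK : ⁅T, K⁆ = T := by
    have h := CfsgLib.Coprime.commutator_sup_centralizer hTn
      (hcop.coprime_dvd_right (card_dvd_of_le hT.le)) (Or.inl hsolv)
    rwa [hTC, sup_bot_eq] at h
  have hC := S.comm_le hU hG (hT.le.trans S.U_le) hTn
    (fun t ht hd' => eq_of_dvd_card_pGroup hT.isPGroup ht hd' ▸ hvσ)
    fun h => hyU (h.trans (card_dvd_of_le hT.le))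
  rw [hTK] at hC
  obtain ⟨v', hv', hvd', W, hWT, hW⟩ := exists_card_prime (sylIn_ne_bot hT hd)
  obtain rfl : v' = v := eq_of_dvd_card_pGroup hT.isPGroup hv' hvd'
  exact S.not_tau2 hU hG hd
    (S.tau2_of_centralizes hU hG hW ((hWT.trans hT.le).trans S.U_le) hvσ (hWT.trans hC))

include hU hG in
theorem sigmaCore_inf_bot {N : Subgroup G} (hN : IsCoatom N) (hnc : ∀ g : G, H ≠ cj g N) :
    sigmaCore N ⊓ sigmaCore H = ⊥ :=
  inf_sigmaCore_eq_bot hU hG hN fun q hq hd h => by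
    obtain ⟨g, hg⟩ := sigma_disjoint hU hG hN S.maxH h (sigmaCore_primes hU hG S.maxH hq hd)
    exact hnc g hg

include hU hG in
theorem fix_U : sigmaCore M ⊓ centralizer (U : Set G) = ⊥ := by
  obtain ⟨t, ht, htd, -⟩ := exists_card_prime S.hU1
  haveI := Fact.mk ht
  have htu := S.D.hallU.2.1 t ht htd
  obtain ⟨T, hT⟩ := exists_sylIn (p := t) U
  obtain ⟨T₁, hT₁⟩ := exists_sylow_of_sylIn (sylIn_of_hall' S.D.hallU htu hT)
  have htM : t ∣ Nat.card M := htd.trans (card_dvd_of_le S.dec.compl.1)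
  obtain ⟨-, hfix, -⟩ := stmtS1429_of hU hG M S.maxM
    (fun hc => htu.2.1 (hc t ht htM htu.2.2)) t htM
    (by rintro (h | h); exacts [htu.2.2 h, htu.2.1 h]) T₁
  refine le_bot_iff.1 (le_trans (inf_le_inf_left _ (centralizer_le ?_)) hfix.le)
  exact (closure_le _).2 fun x hx => hT.le (hT₁ ▸ hx.1)

include hU hG in
theorem inter : M ⊓ H = U ⊔ K := by
  have h0 : sigmaCore M ⊓ H = ⊥ := by
    refine le_bot_iff.1 (le_trans (le_inf inf_le_left ?_) (S.fix_U hU hG).le)
    refine commutator_eq_bot_iff_le_centralizer.1 (le_bot_iff.1 ?_)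
    rw [← S.sigmaCore_inf_bot hU hG S.maxM S.nconjM]
    refine commutator_le.2 fun a ha' b hb => ?_
    have ha := mem_inf.1 ha'
    rw [commutatorElement_def]
    refine mem_inf.2 ⟨?_, ?_⟩
    · have : a * b * a⁻¹ * b⁻¹ = a * (b * a⁻¹ * b⁻¹) := by group
      rw [this]
      exact mul_mem ha.1 ((mem_normalizer_iff.1 (le_normalizer_sigmaCore M (S.dec.compl.1 hb))
        a⁻¹).1 (inv_mem ha.1))
    · exact mul_mem ((mem_normalizer_iff.1 (le_normalizer_sigmaCore H ha.2) b).1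
        (S.U_le_sigmaCore hU hG hb)) (inv_mem (S.U_le_sigmaCore hU hG hb))
  rw [sup_comm U K]
  refine le_antisymm (fun m hm => ?_) (le_inf S.D.compl.1 S.leH)
  obtain ⟨e, he, s, hs, rfl⟩ := S.D.compl.2.2.2 m (mem_inf.1 hm).1
  have h1 : s ∈ sigmaCore M ⊓ H :=
    mem_inf.2 ⟨hs, by simpa using mul_mem (inv_mem (S.leH he)) (mem_inf.1 hm).2⟩
  rw [h0, mem_bot] at h1
  rwa [h1, mul_one]

include hU hG in
theorem not_normalizer_le : ¬ H ⊓ normalizer (U : Set G) ≤ M := by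
  intro h
  haveI := Fact.mk S.prime
  have hUσ := S.U_le_sigmaCore hU hG
  have hKσ : K ⊓ sigmaCore H = ⊥ := by
    rw [inf_comm]
    exact inf_sigmaCore_eq_bot hU hG S.maxH fun q hq hd =>
      eq_of_dvd_card_pGroup (isPGroup_of_card_prime S.cardK) hq hd ▸ S.y_not_sigmaH hU hG
  have hle : sigmaCore H ⊓ normalizer (U : Set G) ≤ U := by
    intro x hx'
    obtain ⟨hxσ, hxN⟩ := mem_inf.1 hx'
    have hxE : x ∈ U ⊔ K := (S.inter hU hG).le (mem_inf.2
      ⟨h (mem_inf.2 ⟨sigmaCore_le H hxσ, hxN⟩), sigmaCore_le H hxσ⟩)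
    obtain ⟨k, hk, u, hu, rfl⟩ := S.D.mem_sup (sup_comm U K ▸ hxE)
    have hk' : k ∈ K ⊓ sigmaCore H :=
      mem_inf.2 ⟨hk, by simpa using mul_mem hxσ (inv_mem (hUσ hu))⟩
    rw [hKσ, mem_bot] at hk'
    rwa [hk', one_mul]
  rcases eq_or_lt_of_le hUσ with he | hlt
  · refine S.ne ((S.maxH.le_iff_eq S.maxM.1).1 (le_trans (le_inf le_rfl ?_) h)).symm
    rw [he]
    exact le_normalizer_sigmaCore H
  · exact absurd hle (lt_inf_normalizer_of_isNilpotent (S.nilpotent hU hG) hlt).not_ge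

include hU hG in
theorem sigmaCore_inf_L : sigmaCore H ⊓ L = ⊥ := by
  refine le_bot_iff.1 (le_trans (le_inf inf_le_left ?_) (S.fix hU hG).le)
  refine commutator_eq_bot_iff_le_centralizer.1 (le_bot_iff.1 ?_)
  rw [← S.sigmaCore_inf_bot hU hG S.P.maxL (S.nconjL hU hG)]
  refine commutator_le.2 fun a ha' b hb => ?_
  have ha := mem_inf.1 ha'
  rw [commutatorElement_def]
  refine mem_inf.2 ⟨?_, ?_⟩
  · exact mul_mem ((mem_normalizer_iff.1 (le_normalizer_sigmaCore L ha.2) b).1 (S.K_le_L hb))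
      (inv_mem (S.K_le_L hb))
  · have : a * b * a⁻¹ * b⁻¹ = a * (b * a⁻¹ * b⁻¹) := by group
    rw [this]
    exact mul_mem ha.1 ((mem_normalizer_iff.1 (le_normalizer_sigmaCore H (S.K_le hb)) a⁻¹).1
      (inv_mem ha.1))

include hU hG in
/-- `K` centralises the derived subgroup of a complement when `y ∈ τ₁(H)`. -/
theorem centralizes_derived (h1 : y ∈ tau1 H) {E : Subgroup G}
    (hE : IsComplIn E (sigmaCore H) H) (hKE : K ≤ E) :
    ⁅E, E⁆ ≤ centralizer (K : Set G) := by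
  haveI := Fact.mk S.prime
  have hH := S.maxH
  have hsolv : Group.IsSolvable K := minSimple_solvable hG (ne_top_of_le_maximal hH S.K_le)
  have hKn : K ≤ normalizer ((⁅E, E⁆ : Subgroup G) : Set G) := hKE.trans (le_normalizer_derived E)
  have hyW : ¬ y ∣ Nat.card ↥⁅E, E⁆ := fun h =>
    h1.2.2.2.1 (h.trans (card_dvd_of_le (commutator_mono hE.1 hE.1)))
  have hcopW : (Nat.card K).Coprime (Nat.card ↥⁅E, E⁆) := by
    rw [S.cardK]; exact S.prime.coprime_iff_not_dvd.2 hyW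
  haveI hWc : IsMulCommutative ↥⁅E, E⁆ := (hU.s1420 hG H hH E hE).2.1
  refine le_of_sylows fun v hv hvd => ?_
  haveI := Fact.mk hv
  obtain ⟨T', hTn⟩ := CfsgLib.Coprime.exists_invariant_sylow (p := v) hKn hcopW (Or.inl hsolv)
  set T := (T' : Subgroup ↥⁅E, E⁆).map (⁅E, E⁆ : Subgroup G).subtype with hTdef
  have hT : SylIn v T ⁅E, E⁆ := sylIn_sylow_map T'
  refine ⟨T, hT, ?_⟩
  have hTE : T ≤ E := hT.le.trans (derived_le E)
  have hvσ : v ∉ sigma H :=
    compl_primes hU hG hH hE hv (hvd.trans (card_dvd_of_le (derived_le E)))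
  haveI hTc : IsMulCommutative T :=
    le_centralizer_iff_isMulCommutative.1 ((hT.le.trans
      (le_centralizer_iff_isMulCommutative.2 hWc)).trans (centralizer_le hT.le))
  have hcopT := hcopW.coprime_dvd_right (card_dvd_of_le hT.le)
  have hvy : y ≠ v := fun e => hyW (e ▸ hvd)
  by_contra hnc
  have hQ : ⁅T, K⁆ ≠ ⊥ := fun h => hnc (commutator_eq_bot_iff_le_centralizer.1 h)
  have hQT : ⁅T, K⁆ ≤ T := CfsgLib.Coprime.commutator_le_of_le_normalizer hTn
  have hC := S.comm_le hU hG (hTE.trans hE.1) hTn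
    (fun t ht hd => eq_of_dvd_card_pGroup hT.isPGroup ht hd ▸ hvσ)
    fun h => hyW (h.trans (card_dvd_of_le hT.le))
  obtain ⟨v', hv', hvd', X, hXQ, hX⟩ := exists_card_prime hQ
  obtain rfl : v' = v := eq_of_dvd_card_pGroup (hT.isPGroup.to_le hQT) hv' hvd'
  have hXE : X ≤ E := (hXQ.trans hQT).trans hTE
  have h2 : v' ∈ tau2 H := S.tau2_of_centralizes hU hG hX (hXE.trans hE.1) hvσ (hXQ.trans hC)
  obtain ⟨A, hAE, hA, hA2⟩ := exists_elementary_compl hU hG hH h2 hE
  obtain ⟨⟨hEA, hall⟩, -, -⟩ := hU.s1418 hG H hH E hE v' h2 A ⟨hAE, hA, hA2⟩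
  have hXC : X ⊓ centralizer (K : Set G) = ⊥ :=
    le_bot_iff.1 ((le_inf (le_inf (inf_le_left.trans (hXQ.trans hQT)) inf_le_right)
      (inf_le_left.trans hXQ)).trans
        (CfsgLib.Coprime.centralizer_inf_commutator_eq_bot hTn hcopT).le)
  obtain ⟨hDC, hD, hB, hdisj, hDA⟩ := S.split hU hG h2 (hAE.trans hE.1) hA hA2 (hKE.trans hEA)
    hvy (hall X hXE hX) (ne_bot_of_card_prime hX) hXC
  set B := A ⊓ centralizer (K : Set G) with hBdef
  have hAp : IsPGroup v' A := CfsgLib.Base.isPGroup_of_isElementaryAbelian hA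
  have hKA : K ≤ normalizer (A : Set G) := hKE.trans hEA
  rcases S.le_L_cases hU hG hA inf_le_left hB inf_le_right hKA with ⟨hAL, hσ | ht2⟩ | hk
  · -- `v ∈ σ(L)`
    have hKd : K ≤ ⁅L, L⁆ := S.K_le_L.trans (sigmaCore_le_derived hU.s1403 hG S.P.maxL)
    have hDd : ⁅A, K⁆ ≤ ⁅L, L⁆ :=
      commutator_mono hAL (S.K_le_L.trans (sigmaCore_le L))
    have hKC := centralizes_of_beta hU hG S.P.maxL hKd hDd
      (Subgroup.normalizer_commutator_ge_right A K)
      (by rw [S.cardK, hD]; exact (Nat.coprime_primes S.prime hv).2 hvy)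
      (fun t ht hd hβ => by
        rw [hD] at hd
        exact not_ideal_of_tau2 hU hG hH h2 ((Nat.prime_dvd_prime_iff_eq ht hv).1 hd ▸ hβ.2))
    refine ne_bot_of_card_prime hD (le_bot_iff.1 (le_trans ?_ hdisj.le))
    exact le_inf (le_inf hDA (le_centralizer_iff.1 hKC)) le_rfl
  · -- `v ∈ τ₂(L)`
    have h0 := (hU.s1417 hG L S.P.maxL v' ht2 A ⟨hAL, hA, hA2⟩).2.2.2.2.1 H hH
      (fun e => S.nconjL hU hG 1 (by rw [cj_one, e])) (hAE.trans hE.1)
    exact S.hK1 (le_bot_iff.1 (h0 ▸ le_inf S.K_le_L S.K_le))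
  · -- `v ∈ κ(L)`
    have hvk := S.kappaL_dvd hv hk
    obtain ⟨w, hw⟩ := exists_prime_orderOf_dvd_card' (G := kstar M K) v' hvk
    set B₀ := zpowers (w : G) with hB₀def
    have hB₀ : Nat.card B₀ = v' := by rw [Nat.card_zpowers, orderOf_coe, hw]
    have hB₀W : B₀ ≤ kstar M K := zpowers_le.2 w.2
    obtain ⟨hN₀, -⟩ := normalizer_le_of_kstar hU hG S.maxM S.dec.hall S.hK1 S.D hB₀ hB₀W
    obtain ⟨c, -, hc⟩ := exists_conj_of_rank_one hG
      (tau13_of_kappa hU hG S.P.maxL hk).2.2.2 (hB₀W.trans S.P.hallL.1)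
      (inf_le_right.trans S.centralizer_K) hB₀ hB
    set M₁ := cj c M with hM₁def
    have hM₁ : IsCoatom M₁ := isCoatom_cj S.maxM c
    have hNB : normalizer (B : Set G) ≤ M₁ := by
      rw [show B = cj c B₀ from hc.symm, hM₁def]
      intro g hg
      rw [mem_cj]
      refine hN₀ (mem_normalizer_iff_cj.2 ?_)
      rw [cj_mul, cj_mul, mem_normalizer_iff_cj.1 hg, cj_inv_cj]
    have hCB : centralizer (B : Set G) ≤ M₁ := centralizer_le_of_normalizer_le hNB
    have hAM : A ≤ M₁ :=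
      ((le_centralizer_iff_isMulCommutative.2 hA.1).trans (centralizer_le inf_le_left)).trans hCB
    have hvM₁ : v' ∈ sigma M₁ := by rw [sigma_cj]; exact S.kappaL_sigma hU hG hv hk
    have hnc : ∀ g : G, H ≠ cj g M₁ := fun g e => S.nconjM (g * c) (by rw [e, cj_mul])
    obtain ⟨⟨d, hd⟩, hd1'⟩ := (ne_bot_iff_exists_ne_one).1 (ne_bot_of_card_prime hD)
    have hd1 : d ≠ 1 := fun e => hd1' (Subtype.ext e)
    have hdo : orderOf d = v' := (hv.eq_one_or_self_of_dvd _
      (hD ▸ orderOf_dvd_natCard (⁅A, K⁆ : Subgroup G) hd)).resolve_left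
        fun e => hd1 (orderOf_eq_one_iff.1 e)
    have hzd : zpowers d = ⁅A, K⁆ := Subgroup.eq_of_le_of_card_ge (zpowers_le.2 hd)
      (by rw [hD, Nat.card_zpowers, hdo])
    obtain ⟨hu1, hu2⟩ := unique_of_tau2_fix hU hG hH h2 hD (hDA.trans (hAE.trans hE.1))
      (S.fix_ne_bot hU hG hDC)
    rw [← hzd, centralizer_zpowers'] at hu1 hu2
    have hdσ : d ∈ sigmaCore M₁ :=
      pGroup_le_sigmaCore hU hG hM₁ hvM₁ (isPGroup_of_card_prime hD) (hDA.trans hAM) hd
    obtain ⟨N, DN⟩ := exists_support hU hG hM₁ hdσ hd1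
      fun h => hnc 1 (by rw [cj_one, hu2 M₁ hM₁ h])
    obtain rfl := hu2 N DN.maxN DN.le
    obtain ⟨t, ht, htd, -⟩ := exists_card_prime S.hU1
    have htH : t ∈ sigma N := sigmaCore_primes hU hG hH ht
      (htd.trans (card_dvd_of_le (S.U_le_sigmaCore hU hG)))
    have htM : t ∣ Nat.card M₁ := by
      rw [card_cj]; exact htd.trans (card_dvd_of_le S.dec.compl.1)
    have he := DN.kappa_eq_empty hU hG hM₁ hdσ hd1 htH htM
    rw [show M₁ = M.map (MulAut.conj c).toMonoidHom from rfl, kappa_map] at he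
    have hy : y ∈ kappa M := S.dec.hall.2.1 y S.prime (S.cardK ▸ dvd_rfl)
    rw [he] at hy
    exact hy

include hU hG in
/-- A complement to `H_σ` over `K` lies in `L`, and `K` lies in its Fitting subgroup. -/
theorem compl_data {E : Subgroup G} (hE : IsComplIn E (sigmaCore H) H) (hKE : K ≤ E) :
    E ≤ L ∧ K ≤ fittingOf E := by
  haveI := Fact.mk S.prime
  have hsub : ∀ {A : Subgroup G}, A ≤ E → IsMulCommutative A → E ≤ normalizer (A : Set G) →
      A ≤ fittingOf E := by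
    intro A hA hc hn
    haveI := hc
    haveI : (A.subgroupOf E).Normal := (normal_subgroupOf_iff_le_normalizer hA).2 hn
    haveI : IsMulCommutative (A.subgroupOf E) := inferInstance
    rw [← map_subgroupOf_eq_of_le hA]
    exact map_mono CfsgLib.Base.le_fittingSubgroup_of_isMulCommutative
  have hKc : IsMulCommutative K := isMulCommutative_of_cyclic S.P.cyclicK
  rcases tau_cases hU hG S.maxH (S.cardK ▸ card_dvd_of_le S.K_le) (S.y_not_sigmaH hU hG)
    with h13 | h2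
  · suffices hn : E ≤ normalizer (K : Set G) from ⟨hn.trans S.normalizer_K, hsub hKE hKc hn⟩
    rcases tau13_iff.1 h13 with h1 | h3
    · have hd := S.centralizes_derived hU hG h1 hE hKE
      refine le_trans (fun e he => mem_centralizer_iff.2 fun x hx => ?_)
        (centralizer_le_normalizer (K : Set G))
      set c := e * x * e⁻¹ * x⁻¹ with hc
      have hcE : c ∈ ⁅E, E⁆ := commutator_mem_commutator he (hKE hx)
      have hcx : Commute c x := (mem_centralizer_iff.1 (hd hcE) x hx).symm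
      have hxy : x ^ y = 1 := by
        have := pow_card_eq_one' (x := (⟨x, hx⟩ : K))
        rw [S.cardK] at this
        exact congrArg Subtype.val this
      have hcy : c ^ y = 1 := by
        have h3 : (c * x) ^ y = 1 := by
          rw [hc, show e * x * e⁻¹ * x⁻¹ * x = e * x * e⁻¹ by group, conj_pow, hxy]
          group
        rwa [hcx.mul_pow, hxy, mul_one] at h3
      have hc1 : c = 1 := by
        rcases S.prime.eq_one_or_self_of_dvd _ (orderOf_dvd_of_pow_eq_one hcy) with h | h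
        · exact orderOf_eq_one_iff.1 h
        · exact absurd ((h ▸ orderOf_dvd_natCard _ hcE).trans
            (card_dvd_of_le (commutator_mono hE.1 hE.1))) h1.2.2.2.1
      rw [hc, mul_inv_eq_one, mul_inv_eq_iff_eq_mul] at hc1
      exact hc1.symm
    · exact compl_le_normalizer_of_tau3 hU hG S.maxH h3 hE hKE S.cardK
  · obtain ⟨A, hAE, hA, hA2⟩ := exists_elementary_compl hU hG S.maxH h2 hE
    obtain ⟨⟨hEA, hall⟩, -, -⟩ := hU.s1418 hG H S.maxH E hE y h2 A ⟨hAE, hA, hA2⟩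
    have hKA : K ≤ A := hall K hKE S.cardK
    have hAL : A ≤ L := ((le_centralizer_iff_isMulCommutative.2 hA.1).trans
      (centralizer_le hKA)).trans S.centralizer_K
    obtain ⟨EL, hEL⟩ := exists_compl hU hG S.P.maxL
    have hNA := (hU.s1420 hG L S.P.maxL EL hEL).2.2.1 y A (S.y_sigmaL hU hG)
      (CfsgLib.Base.isPGroup_of_isElementaryAbelian hA) hAL (BG12.not_isCyclic_of_sq hA hA2)
    exact ⟨hEA.trans hNA, hKA.trans (hsub hAE hA.1 hEA)⟩

end TypeTwoSetup

include hU in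
theorem stmtS1435_of : StmtS1435.{u} := by
  intro G _ _ hG M hM K U hKU hK1 hU1 Ms hMs hKst _ r _ hr R H hH hNR
  obtain ⟨L, P⟩ := exists_partners hU hG hM hKU.hall hK1
  obtain rfl := P.eq_of_hall hU hG hK1 hMs hKst
  have D := kuData_of_decomposition hU hG hM hKU hK1
  obtain ⟨t, ht, htd, -⟩ := exists_card_prime hU1
  have htu := D.hallU.2.1 t ht htd
  have hP2 : ¬ AllKappaSigma M := fun h =>
    (h t ht (htd.trans (card_dvd_of_le hKU.compl.1))).elim htu.2.2 htu.2.1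
  obtain ⟨hy, -⟩ := prime_of_not_allKappaSigma hU hG hM hKU.hall hK1 hP2
  set T := (R : Subgroup U).map U.subtype with hTdef
  have hT : SylIn r T U := sylIn_sylow_map R
  have hru := D.hallU.2.1 r (Fact.out) hr
  have hTM : SylIn r T M := sylIn_of_hall' D.hallU hru hT
  -- `K` normalises the Sylow subgroup of `U`
  haveI := D.comm
  have hcop : (Nat.card K).Coprime (Nat.card U) :=
    hy.coprime_iff_not_dvd.2 fun h =>
      (D.hallU.2.1 _ hy h).2.1 (hKU.hall.2.1 _ hy dvd_rfl)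
  obtain ⟨R', hRn⟩ := CfsgLib.Coprime.exists_invariant_sylow (p := r) hKU.normal hcop
    (Or.inl (minSimple_solvable hG (ne_top_of_le_maximal hM hKU.hall.1)))
  haveI : (R : Subgroup U).Normal := inferInstance
  haveI := Sylow.unique_of_normal R inferInstance
  rw [Subsingleton.elim R' R] at hRn
  have hEH : K ⊔ U ≤ H := (sup_le hRn ((le_centralizer_iff_isMulCommutative.2 D.comm).trans
    ((centralizer_le hT.le).trans (centralizer_le_normalizer _)))).trans hNR
  have hrM : r ∣ Nat.card M := hr.trans (card_dvd_of_le hKU.compl.1)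
  have hne : H ≠ M := fun e => hru.2.2 ((mem_sigma_iff hTM).2 ⟨hrM, e ▸ hNR⟩)
  have hnc : ∀ g : G, H ≠ cj g M := by
    intro g e
    have hTH : T ≤ H := le_normalizer.trans hNR
    have hcard : Nat.card H = Nat.card M := by rw [e, card_cj]
    have hi : T.relIndex H = T.relIndex M := Nat.eq_of_mul_eq_mul_left (Nat.card_pos (α := T))
      ((BG12.card_mul_relIndex hTH).trans (hcard.trans (BG12.card_mul_relIndex hTM.le).symm))
    have h := (mem_sigma_iff (M := H) (T := T) ⟨hTH, hT.isPGroup, hi.symm ▸ hTM.not_dvd⟩).2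
      ⟨hcard.symm ▸ hrM, hNR⟩
    rw [e, sigma_cj] at h
    exact hru.2.2 h
  have S : TypeTwoSetup M K U Ms H (Nat.card K) :=
    ⟨hM, hH, hKU, hK1, hU1, D, P, hy, rfl, hEH, hne, hnc⟩
  obtain ⟨E, hE, hKE⟩ := exists_compl_ge hU hG hH S.K_le fun q hq hd => by
    haveI := Fact.mk hy
    exact eq_of_dvd_card_pGroup (isPGroup_of_card_prime rfl) hq hd ▸ S.y_not_sigmaH hU hG
  obtain ⟨hEL, hKF⟩ := S.compl_data hU hG hE hKE
  have hHL : H ⊓ Ms = E := by
    refine le_antisymm (fun x hx => ?_) (le_inf hE.1 hEL)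
    obtain ⟨e, he, s, hs, rfl⟩ := hE.2.2.2 x (mem_inf.1 hx).1
    have h1 : s ∈ sigmaCore H ⊓ Ms :=
      mem_inf.2 ⟨hs, by simpa using mul_mem (inv_mem (hEL he)) (mem_inf.1 hx).2⟩
    rw [S.sigmaCore_inf_L hU hG, mem_bot] at h1
    rwa [h1, mul_one]
  refine ⟨S.kappa_eq_empty hU hG, S.U_le_sigmaCore hU hG, S.inter hU hG,
    S.not_normalizer_le hU hG, ?_, ?_⟩
  · rw [hHL]; exact hKF
  · rw [hHL]; exact hE

end CfsgLib.FT.BG13
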