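import Cfsg.Agent.Lib.FT.BG13.TypePStmts
import Cfsg.Agent.Lib.OddOrder.FittingHall

/-!
BG 14.3 and 14.4: the centralisers of the elements of `M_σ`.
-/

set_option autoImplicit false
set_option linter.style.haveILetI false
set_option linter.unusedSectionVars false

universe u

namespace CfsgLib.FT.BG13

open Cfsg CfsgLib.OddOrder CfsgLib.Techniques _root_.Subgroup
open scoped commutatorElement

variable {G : Type u} [Group G] [Finite G]

/-- A non-trivial element has a power of prime order. -/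
theorem exists_prime_le_zpowers {x : G} (hx : x ≠ 1) :
    ∃ q : ℕ, q.Prime ∧ q ∣ orderOf x ∧ ∃ X : Subgroup G, X ≤ zpowers x ∧ Nat.card X = q := by
  obtain ⟨q, hq, hd, X, hX, hXc⟩ := exists_card_prime (X := zpowers x)
    (fun h => hx (zpowers_eq_bot.1 h))
  exact ⟨q, hq, by rwa [Nat.card_zpowers] at hd, X, hX, hXc⟩

theorem exists_le_zpowers_of_dvd {x : G} {p : ℕ} [Fact p.Prime] (hd : p ∣ orderOf x) :
    ∃ X : Subgroup G, X ≤ zpowers x ∧ Nat.card X = p := by
  obtain ⟨y, hy⟩ := exists_prime_orderOf_dvd_card' (G := zpowers x) p (by rwa [Nat.card_zpowers])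
  exact ⟨zpowers (y : G), zpowers_le.2 y.2, by rw [Nat.card_zpowers, orderOf_coe, hy]⟩

theorem centralizer_le_of_le_zpowers {x : G} {X : Subgroup G} (h : X ≤ zpowers x) :
    centralizer ({x} : Set G) ≤ centralizer (X : Set G) := by
  rw [← centralizer_zpowers']
  exact centralizer_le h

/-- The parts of an element centralising `x` in a product with a normal factor avoiding `x`. -/
theorem centralizer_parts {A B : Subgroup G} {x a b : G} (hAB : A ⊓ B = ⊥) (hx : x ∈ A)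
    (hBn : x ∈ normalizer (B : Set G)) (ha : a ∈ A) (hb : b ∈ B)
    (hg : a * b ∈ centralizer ({x} : Set G)) :
    a ∈ centralizer ({x} : Set G) ∧ b ∈ centralizer ({x} : Set G) := by
  have h1 : a * b * x = x * (a * b) := mem_centralizer_singleton'.1 hg
  have e1 : b * x * b⁻¹ = a⁻¹ * x * a :=
    calc b * x * b⁻¹ = a⁻¹ * (a * b * x) * b⁻¹ := by group
      _ = a⁻¹ * (x * (a * b)) * b⁻¹ := by rw [h1]
      _ = a⁻¹ * x * a := by group
  have e2 : b * x * b⁻¹ * x⁻¹ ∈ A ⊓ B := by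
    refine mem_inf.2 ⟨?_, ?_⟩
    · rw [e1]
      exact mul_mem (mul_mem (mul_mem (inv_mem ha) hx) ha) (inv_mem hx)
    · have : b * x * b⁻¹ * x⁻¹ = b * (x * b⁻¹ * x⁻¹) := by group
      rw [this]
      exact mul_mem hb ((mem_normalizer_iff.1 hBn b⁻¹).1 (inv_mem hb))
  rw [hAB, mem_bot, mul_inv_eq_one] at e2
  refine ⟨mem_centralizer_singleton'.2 ?_,
    mem_centralizer_singleton'.2 (mul_inv_eq_iff_eq_mul.1 e2)⟩
  rw [e2] at e1
  calc a * x = a * (a⁻¹ * x * a) := by rw [← e1]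
    _ = x * a := by group

theorem card_of_isComplIn {A B C : Subgroup G} (h : IsComplIn A B C)
    (hn : A ≤ normalizer (B : Set G)) : Nat.card C = Nat.card A * Nat.card B := by
  rw [← CfsgLib.Coprime.card_sup_of_inf_eq_bot hn h.2.2.1]
  congr 1
  refine le_antisymm (fun c hc => ?_) (sup_le h.1 h.2.1) |> fun e => by rw [e]
  obtain ⟨a, ha, b, hb, rfl⟩ := h.2.2.2 c hc
  exact mul_mem ((le_sup_left : A ≤ A ⊔ B) ha) ((le_sup_right : B ≤ A ⊔ B) hb)

variable (hU : Upstream.{u}) (hG : IsMinSimpleOddOrder G) {M : Subgroup G} (hM : IsCoatom M)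

include hU hG hM in
/-- If `M_σ` is nilpotent it is `M_F`. -/
theorem fittingHallOf_eq_sigmaCore (h : Group.IsNilpotent (sigmaCore M)) :
    fittingHallOf M = sigmaCore M := by
  have hS := sigmaCore_hallOf hU hG hM
  refine le_antisymm (le_sigmaCore hU hG hM (fittingHallOf_le M) fun p hp hd => ?_) ?_
  · haveI := Fact.mk hp
    set F := fittingHallOf M with hFdef
    haveI : Group.IsNilpotent F := isNilpotent_fittingHallOf M
    obtain ⟨S⟩ : Nonempty (Sylow p F) := inferInstance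
    haveI hSn : (S : Subgroup F).Normal :=
      ((Group.isNilpotent_of_finite_tfae (G := F)).out 0 3 rfl rfl).1 inferInstance p inferInstance S
    haveI := S.characteristic_of_normal hSn
    have hT : SylIn p ((S : Subgroup F).map F.subtype) F := sylIn_sylow_map S
    have hTM : SylIn p ((S : Subgroup F).map F.subtype) M := by
      refine ⟨hT.le.trans (fittingHallOf_le M), hT.isPGroup, fun hd' => ?_⟩
      rw [← relIndex_mul_relIndex _ F M hT.le (fittingHallOf_le M)] at hd'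
      rcases hp.dvd_mul.1 hd' with h' | h'
      · exact hT.not_dvd h'
      · exact hp.not_dvd_one ((coprime_fittingHallOf M).gcd_eq_one ▸ Nat.dvd_gcd hd h')
    refine (mem_sigma_iff hTM).2 ⟨hd.trans (card_dvd_of_le (fittingHallOf_le M)), ?_⟩
    exact (normalizer_eq_maximal hG hM hTM.le (sylIn_ne_bot hT hd) ((le_normalizer_fittingHallOf M).trans
      (CfsgLib.Base.normalizer_le_normalizer_map_subtype F _))).le
  · have hcop : (Nat.card (piCore (sigma M) M)).Coprime (piCore (sigma M) M).index := by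
      have := CfsgLib.Coprime.coprime_of_pi hS.2.1 hS.2.2
      rwa [sigmaCore, CfsgLib.Base.card_map_subtype, Subgroup.relIndex, Subgroup.subgroupOf,
        comap_map_eq_self_of_injective M.subtype_injective] at this
    have hn : Group.IsNilpotent (piCore (sigma M) M) :=
      haveI : Group.IsNilpotent ↥((piCore (sigma M) M).map M.subtype) := h
      Group.nilpotent_of_mulEquiv
        ((piCore (sigma M) M).equivMapOfInjective M.subtype M.subtype_injective).symm
    exact map_mono (le_fittingHall hn hcop)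

include hU hG hM in
/-- All primes of `τ₂(M)` belong to one `σ(L)`. -/
theorem exists_sigma_of_tau2 {t : ℕ} [Fact t.Prime] (ht : t ∈ tau2 M) :
    ∃ L : Subgroup G, IsCoatom L ∧ ∀ u : ℕ, u ∈ tau2 M → u ∈ sigma L := by
  obtain ⟨E, hE⟩ := exists_compl hU hG hM
  obtain ⟨A, hAE, hA, hA2⟩ := exists_elementary_compl hU hG hM ht hE
  have hAp : IsPGroup t A := CfsgLib.Base.isPGroup_of_isElementaryAbelian hA
  have hA1 : A ≠ ⊥ := by
    intro h
    rw [h, card_bot] at hA2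
    exact (Fact.out : t.Prime).ne_one ((Nat.pow_eq_one.1 hA2.symm).resolve_right two_ne_zero)
  obtain ⟨⟨hEA, -⟩, ⟨-, -, hNA⟩, -⟩ := hU.s1418 hG M hM E hE t ht A ⟨hAE, hA, hA2⟩
  obtain ⟨L, hL, hNL⟩ := exists_maximal_normalizer hG hAp hA1
  have hAL : A ≤ L := le_normalizer.trans hNL
  have hne : L ≠ M := fun h => hNA (h ▸ hNL)
  have htL : t ∈ sigma L := by
    refine (BG12.sigma_or_tau2_of_normalizer_le hU.s1403 hG hL hAp hA1 hNL).resolve_right
      fun h2' => ?_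
    obtain ⟨E', hE', hAE'⟩ := exists_compl_ge hU hG hL hAL
      fun s hs hd => eq_of_dvd_card_pGroup hAp hs hd ▸ h2'.2.1
    exact ((hU.s1418 hG L hL E' hE' t h2' A ⟨hAE', hA, hA2⟩).2.1.2.2) hNL
  refine ⟨L, hL, fun u hu => by_contra fun huL => ?_⟩
  haveI := Fact.mk hu.1
  obtain ⟨B, hBE, hB, hB2⟩ := exists_elementary_compl hU hG hM hu hE
  have hBp : IsPGroup u B := CfsgLib.Base.isPGroup_of_isElementaryAbelian hB
  have hBL : B ≤ L := (hBE.trans hEA).trans hNL
  have hBd : u ∣ Nat.card L := (hB2 ▸ dvd_pow_self u two_ne_zero : u ∣ Nat.card B).trans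
    (card_dvd_of_le hBL)
  rcases tau_cases hU hG hL hBd huL with h13 | h2
  · exact BG12.not_isCyclic_of_sq hB hB2 (isCyclic_of_pGroup_le hG h13.2.2.2 hBL hBp)
  · have h0 := (hU.s1417 hG L hL u h2 B ⟨hBL, hB, hB2⟩).2.2.2.2.1 M hM hne.symm (hBE.trans hE.1)
    exact hA1 (le_bot_iff.1 (h0 ▸ le_inf (pGroup_le_sigmaCore hU hG hL htL hAp hAL)
      (hAE.trans hE.1)))

include hU hG hM in
/-- BG 14.3. -/
theorem fix_cases {x x' : G} (hx : x ∈ sigmaCore M) (hx1 : x ≠ 1)
    (hx' : x' ∈ M ⊓ centralizer ({x} : Set G)) (hx'1 : x' ≠ 1)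
    (hσ : ∀ p : ℕ, p.Prime → p ∣ orderOf x' → p ∉ sigma M) :
    ((∀ p : ℕ, p.Prime → p ∣ orderOf x' → p ∈ kappa M) ∧ centralizer ({x} : Set G) ≤ M) ∨
      ((∀ p : ℕ, p.Prime → p ∣ orderOf x' → p ∈ tau2 M) ∧
        (∃ L : Subgroup G, IsCoatom L ∧ ∀ p : ℕ, p.Prime → p ∣ orderOf x' → p ∈ sigma L) ∧
        (centralizer ({x'} : Set G) ≤ M ∧
          ∀ L : Subgroup G, IsCoatom L → centralizer ({x'} : Set G) ≤ L → L = M)) := by
  obtain ⟨hx'M, hxx'⟩ := mem_inf.1 hx'
  rw [mem_centralizer_singleton'] at hxx'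
  have hzM : zpowers x' ≤ M := zpowers_le.2 hx'M
  have hclass : ∀ p : ℕ, p.Prime → p ∣ orderOf x' → ∀ Y : Subgroup G, Y ≤ zpowers x' →
      Nat.card Y = p → x ∈ sigmaCore M ⊓ centralizer (Y : Set G) ∧
        (p ∈ kappa M ∨ p ∈ tau2 M) := by
    intro p hp hd Y hY hYc
    haveI := Fact.mk hp
    have hxY : x ∈ sigmaCore M ⊓ centralizer (Y : Set G) :=
      mem_inf.2 ⟨hx, centralizer_le_of_le_zpowers hY (mem_centralizer_singleton'.2 hxx'.symm)⟩
    refine ⟨hxY, ?_⟩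
    rcases tau_cases hU hG hM (hd.trans ((orderOf_dvd_natCard M hx'M))) (hσ p hp hd) with h | h
    · exact Or.inl (mem_kappa_of hU hG hM h hYc (hY.trans hzM)
        fun e => hx1 (by rw [e, mem_bot] at hxY; exact hxY))
    · exact Or.inr h
  by_cases hk : ∀ p : ℕ, p.Prime → p ∣ orderOf x' → p ∈ kappa M
  · refine Or.inl ⟨hk, ?_⟩
    obtain ⟨p, hp, hd, Y, hY, hYc⟩ := exists_prime_le_zpowers hx'1
    haveI := Fact.mk hp
    obtain ⟨q, hq, -, X, hX, hXc⟩ := exists_prime_le_zpowers hx1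
    haveI := Fact.mk hq
    obtain ⟨L, hL, hN⟩ := exists_maximal_normalizer hG (isPGroup_of_card_prime hYc)
      (ne_bot_of_card_prime hYc)
    obtain ⟨D, hYH⟩ := exists_pair hU hG hM (hk p hp hd) hYc (hY.trans hzM) hL hN
    have hxY := (hclass p hp hd Y hY hYc).1
    rw [(D.right p Y hYc hYH).2.2.2] at hxY
    obtain ⟨-, h1, -, -⟩ := D.left q X hXc (hX.trans (zpowers_le.2 hxY))
    exact (centralizer_le_of_le_zpowers hX).trans ((centralizer_le_normalizer _).trans h1)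
  push Not at hk
  obtain ⟨t, ht, htd, htk⟩ := hk
  haveI := Fact.mk ht
  obtain ⟨R, hR, hRc⟩ := exists_le_zpowers_of_dvd htd
  have ht2 : t ∈ tau2 M := (hclass t ht htd R hR hRc).2.resolve_left htk
  have hall : ∀ p : ℕ, p.Prime → p ∣ orderOf x' → p ∈ tau2 M := by
    intro p hp hd
    haveI := Fact.mk hp
    obtain ⟨Y, hY, hYc⟩ := exists_le_zpowers_of_dvd hd
    refine (hclass p hp hd Y hY hYc).2.resolve_left fun hpk => htk ?_
    obtain ⟨L, hL, hN⟩ := exists_maximal_normalizer hG (isPGroup_of_card_prime hYc)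
      (ne_bot_of_card_prime hYc)
    obtain ⟨D, hYH⟩ := exists_pair hU hG hM hpk hYc (hY.trans hzM) hL hN
    obtain ⟨q, hq, -, X, hX, hXc⟩ := exists_prime_le_zpowers hx1
    haveI := Fact.mk hq
    have hxY := (hclass p hp hd Y hY hYc).1
    rw [(D.right p Y hYc hYH).2.2.2] at hxY
    have hzx' : zpowers x' ≤ centralizer ({x} : Set G) :=
      zpowers_le.2 (mem_centralizer_singleton'.2 hxx')
    have hcomm : IsMulCommutative (zpowers x') := isMulCommutative_of_cyclic inferInstance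
    have hRY := le_centralizer_of_le_commutative hcomm hR hY
    exact D.kappa_of_fix hU hG hRc (hR.trans hzM)
      (hRY.trans (centralizer_le_of_normalizer_le hN)) (hσ t ht htd) hXc
      (hX.trans (zpowers_le.2 hxY)) hYc hYH
      ((hR.trans hzx').trans (centralizer_le_of_le_zpowers hX)) hRY
  obtain ⟨L, hL, hLσ⟩ := exists_sigma_of_tau2 hU hG hM ht2
  obtain ⟨E, hE⟩ := exists_compl hU hG hM
  refine Or.inr ⟨hall, ⟨L, hL, fun p hp hd => hLσ p (hall p hp hd)⟩, ?_⟩
  exact (hU.s1420 hG M hM E hE).2.2.2 x' hx'M hx'1 hall ⟨hx'M, x, hx, hx1, hxx'⟩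

include hU in
theorem stmtS1432_of : StmtS1432.{u} := by
  intro G _ _ hG M hM x hx hx1 x' hx' hx'1 hσ
  exact fix_cases hU hG hM hx hx1 hx' hx'1 hσ

include hU hG hM in
/-- BG 12.15 for a subgroup of order `q ∈ σ(M)` whose normaliser is not in `M`. -/
theorem normalizer_support {q : ℕ} [hq : Fact q.Prime] {X : Subgroup G} (hX : Nat.card X = q)
    (hqM : q ∈ sigma M) (hXM : X ≤ M) (hNM : ¬ normalizer (X : Set G) ≤ M) {L : Subgroup G}
    (hL : IsCoatom L) (hN : normalizer (X : Set G) ≤ L) :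
    (∀ g : G, L ≠ cj g M) ∧ q ∈ tau2 L ∧ IsComplIn (M ⊓ L) (sigmaCore L) L := by
  have hne : L ≠ M := fun h => hNM (h ▸ hN)
  have hXp := isPGroup_of_card_prime hX
  have hXL : X ≤ L := le_normalizer.trans hN
  obtain ⟨S₀, hS₀, hXS⟩ := exists_sylIn_ge hXp (le_inf hXM hXL : X ≤ M ⊓ L)
  obtain ⟨S, hS⟩ := exists_sylow_of_sylIn hS₀
  have hnc := (hU.s1424 hG M hM q hqM X hXp (ne_bot_of_card_prime hX) hXM L hL hne hN S
    (hS.symm ▸ hXS)).1
  have hqL : q ∉ sigma L := fun h => by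
    obtain ⟨g, hg⟩ := sigma_disjoint hU hG hM hL hqM h
    exact hnc g hg
  obtain ⟨h2, -, hc⟩ := (hU.p1215 hG M hM q hqM X hXp (ne_bot_of_card_prime hX) hXM L hL hne hN).2
    hqL
  exact ⟨hnc, h2, hc⟩

/-- The maximal subgroup containing the centraliser of `x ∈ M_σ` when this is not `M`. -/
structure SupportData (M N : Subgroup G) (x : G) : Prop where
  maxN : IsCoatom N
  le : centralizer ({x} : Set G) ≤ N
  uniq : ∀ L : Subgroup G, IsCoatom L → centralizer ({x} : Set G) ≤ L → L = N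
  nconj : ∀ g : G, N ≠ cj g M
  nil : Group.IsNilpotent (sigmaCore N)
  fitting : fittingHallOf N = sigmaCore N
  compl : IsComplIn (M ⊓ N) (sigmaCore N) N
  complC : IsComplIn (M ⊓ centralizer ({x} : Set G)) (sigmaCore N ⊓ centralizer ({x} : Set G))
    (centralizer ({x} : Set G))
  fix : sigmaCore N ⊓ centralizer ({x} : Set G) ≠ ⊥
  tau2 : ∀ s : ℕ, s.Prime → s ∣ orderOf x → s ∈ Cfsg.tau2 N

include hU hG hM in
/-- BG 14.4. -/
theorem exists_support {x : G} (hx : x ∈ sigmaCore M) (hx1 : x ≠ 1)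
    (hxM : ¬ centralizer ({x} : Set G) ≤ M) : ∃ N : Subgroup G, SupportData M N x := by
  obtain ⟨q, hq, hqd, X, hX, hXc⟩ := exists_prime_le_zpowers hx1
  haveI := Fact.mk hq
  have hXσ : X ≤ sigmaCore M := hX.trans (zpowers_le.2 hx)
  have hqM : q ∈ sigma M := sigmaCore_primes hU hG hM hq (hXc ▸ card_dvd_of_le hXσ)
  have hNM : ¬ normalizer (X : Set G) ≤ M := fun h => hxM
    ((centralizer_le_of_le_zpowers hX).trans (centralizer_le_of_normalizer_le h))
  obtain ⟨L, hL, hN⟩ := exists_maximal_normalizer hG (isPGroup_of_card_prime hXc)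
    (ne_bot_of_card_prime hXc)
  obtain ⟨hnc, hq2, hcompl⟩ :=
    normalizer_support hU hG hM hXc hqM (hXσ.trans (sigmaCore_le M)) hNM hL hN
  have hCL : centralizer ({x} : Set G) ≤ L :=
    (centralizer_le_of_le_zpowers hX).trans (centralizer_le_of_normalizer_le hN)
  have hxC : x ∈ centralizer ({x} : Set G) := mem_centralizer_singleton'.2 rfl
  have hxML : x ∈ M ⊓ L := mem_inf.2 ⟨sigmaCore_le M hx, hCL hxC⟩
  have hparts : ∀ g ∈ centralizer ({x} : Set G), ∃ a ∈ M ⊓ centralizer ({x} : Set G),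
      ∃ b ∈ sigmaCore L ⊓ centralizer ({x} : Set G), g = a * b := by
    intro g hg
    obtain ⟨a, ha, b, hb, rfl⟩ := hcompl.2.2.2 g (hCL hg)
    obtain ⟨h1, h2⟩ := centralizer_parts hcompl.2.2.1 hxML
      (le_normalizer_sigmaCore L (hCL hxC)) ha hb hg
    exact ⟨a, mem_inf.2 ⟨(mem_inf.1 ha).1, h1⟩, b, mem_inf.2 ⟨hb, h2⟩, rfl⟩
  have hfix : sigmaCore L ⊓ centralizer ({x} : Set G) ≠ ⊥ := fun h => hxM fun g hg => by
    obtain ⟨a, ha, b, hb, rfl⟩ := hparts g hg
    rw [h, mem_bot] at hb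
    rw [hb, mul_one]
    exact (mem_inf.1 ha).1
  obtain ⟨⟨y, hy⟩, hy1⟩ := (ne_bot_iff_exists_ne_one).1 hfix
  have hxσ : ∀ p : ℕ, p.Prime → p ∣ orderOf x → p ∉ sigma L := fun p hp hd h => by
    obtain ⟨g, hg⟩ := sigma_disjoint hU hG hM hL
      (sigmaCore_primes hU hG hM hp (hd.trans (orderOf_dvd_natCard _ hx))) h
    exact hnc g hg
  have hxy : x ∈ L ⊓ centralizer ({y} : Set G) := mem_inf.2 ⟨(mem_inf.1 hxML).2,
    mem_centralizer_singleton'.2 (mem_centralizer_singleton'.1 (mem_inf.1 hy).2).symm⟩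
  rcases fix_cases hU hG hL (mem_inf.1 hy).1 (fun h => hy1 (Subtype.ext h)) hxy hx1 hxσ with
    ⟨hk, -⟩ | ⟨h2, -, -, hu⟩
  · exact absurd (tau13_of_kappa hU hG hL (hk q hq hqd)).2.2.2 hq2.2.2.2
  obtain ⟨E, hE⟩ := exists_compl hU hG hL
  obtain ⟨A, hAE, hA, hA2⟩ := exists_elementary_compl hU hG hL hq2 hE
  have hnil := (hU.s1417 hG L hL q hq2 A ⟨hAE.trans hE.1, hA, hA2⟩).1
  exact ⟨L, hL, hCL, hu, hnc, hnil, fittingHallOf_eq_sigmaCore hU hG hL hnil, hcompl,
    ⟨inf_le_right, inf_le_right,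
      le_bot_iff.1 ((le_inf (le_inf (inf_le_left.trans inf_le_left)
        ((inf_le_left.trans inf_le_right).trans hCL)) (inf_le_right.trans inf_le_left)).trans
        hcompl.2.2.1.le), hparts⟩, hfix, h2⟩

include hU hG hM in
theorem SupportData.supportR_eq {x : G} {N : Subgroup G} (D : SupportData M N x)
    (hxM : ¬ centralizer ({x} : Set G) ≤ M) :
    supportR M x = sigmaCore N ⊓ centralizer ({x} : Set G) := by
  have h : ¬ centralizer ({x} : Set G) ≤ M ∧
      ∃! L : Subgroup G, IsCoatom L ∧ centralizer ({x} : Set G) ≤ L :=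
    ⟨hxM, N, ⟨D.maxN, D.le⟩, fun L hL => D.uniq L hL.1 hL.2⟩
  rw [supportR, dif_pos h,
    D.uniq _ (Classical.choose_spec h.2.exists).1 (Classical.choose_spec h.2.exists).2, D.fitting]

theorem supportR_eq_bot {x : G} (h : centralizer ({x} : Set G) ≤ M) : supportR M x = ⊥ := by
  rw [supportR, dif_neg fun h' => h'.1 h]

include hU hG hM in
/-- The elements of `R(x)` centralise `x` and have orders free of `σ(M)`. -/
theorem supportR_mem {x r : G} (hx : x ∈ sigmaCore M) (hx1 : x ≠ 1) (hr : r ∈ supportR M x) :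
    r = 1 ∨ ∃ N : Subgroup G, SupportData M N x ∧ r ∈ sigmaCore N ⊓ centralizer ({x} : Set G) := by
  by_cases hxM : centralizer ({x} : Set G) ≤ M
  · rw [supportR_eq_bot hxM, mem_bot] at hr
    exact Or.inl hr
  · obtain ⟨N, D⟩ := exists_support hU hG hM hx hx1 hxM
    rw [D.supportR_eq hU hG hM hxM] at hr
    exact Or.inr ⟨N, D, hr⟩

include hU hG hM in
/-- The conjugates of `M` containing `x` form one orbit of `R(x)`. -/
theorem exists_supportR_cj {x : G} (hx : x ∈ sigmaCore M) (hx1 : x ≠ 1) {g : G}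
    (hxg : x ∈ cj g M) : ∃ r ∈ supportR M x, cj r M = cj g M := by
  obtain ⟨q, hq, hqd, X, hX, hXc⟩ := exists_prime_le_zpowers hx1
  haveI := Fact.mk hq
  have hXσ : X ≤ sigmaCore M := hX.trans (zpowers_le.2 hx)
  have hqM : q ∈ sigma M := sigmaCore_primes hU hG hM hq (hXc ▸ card_dvd_of_le hXσ)
  have hXp := isPGroup_of_card_prime hXc
  by_cases hCX : centralizer (X : Set G) ≤ M
  · exact ⟨1, one_mem _, by rw [cj_one, cj_eq_of_centralizer_le hU hG hM hqM hXp
      (ne_bot_of_card_prime hXc) (hXσ.trans (sigmaCore_le M)) hCX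
      (hX.trans (zpowers_le.2 hxg))]⟩
  obtain ⟨c, hc, hce⟩ := exists_centralizer_cj_eq hU.s1403 hG hM hqM (Nat.card G) X le_add_self
    hXp (ne_bot_of_card_prime hXc) 1 g (by rw [cj_one]; exact hXσ.trans (sigmaCore_le M))
    (hX.trans (zpowers_le.2 hxg))
  rw [cj_one] at hce
  obtain ⟨L, hL, hN⟩ := exists_maximal_normalizer hG hXp (ne_bot_of_card_prime hXc)
  obtain ⟨-, -, hcompl⟩ := normalizer_support hU hG hM hXc hqM (hXσ.trans (sigmaCore_le M))
    (fun h => hCX (centralizer_le_of_normalizer_le h)) hL hN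
  have hxC : x ∈ centralizer (X : Set G) :=
    centralizer_le_of_le_zpowers hX (mem_centralizer_singleton'.2 rfl)
  have hxL : x ∈ L := centralizer_le_of_normalizer_le hN hxC
  obtain ⟨a, ha, b, hb, hab⟩ := hcompl.2.2.2 c⁻¹ (inv_mem (centralizer_le_of_normalizer_le hN hc))
  have hcb : cj b⁻¹ M = cj g M := by
    rw [← hce, show c = b⁻¹ * a⁻¹ by rw [← mul_inv_rev, ← hab, inv_inv], cj_mul,
      cj_eq_self_of_mem (inv_mem (mem_inf.1 ha).1)]
  have hbx : b * x * b⁻¹ ∈ M := by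
    have := hxg
    rw [← hcb, mem_cj, inv_inv] at this
    exact this
  have hbC : b * x * b⁻¹ * x⁻¹ ∈ (M ⊓ L) ⊓ sigmaCore L := by
    refine mem_inf.2 ⟨mem_inf.2 ⟨mul_mem hbx (inv_mem (sigmaCore_le M hx)),
      mul_mem (mul_mem (mul_mem (sigmaCore_le L hb) hxL) (inv_mem (sigmaCore_le L hb)))
        (inv_mem hxL)⟩, ?_⟩
    have : b * x * b⁻¹ * x⁻¹ = b * (x * b⁻¹ * x⁻¹) := by group
    rw [this]
    exact mul_mem hb ((mem_normalizer_iff.1 (le_normalizer_sigmaCore L hxL) b⁻¹).1 (inv_mem hb))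
  rw [hcompl.2.2.1, mem_bot, mul_inv_eq_one, mul_inv_eq_iff_eq_mul] at hbC
  have hbC' : b⁻¹ ∈ centralizer ({x} : Set G) := inv_mem (mem_centralizer_singleton'.2 hbC)
  by_cases hxM : centralizer ({x} : Set G) ≤ M
  · exact ⟨1, one_mem _, by rw [cj_one, ← hcb, cj_eq_self_of_mem (hxM hbC')]⟩
  obtain ⟨N, D⟩ := exists_support hU hG hM hx hx1 hxM
  refine ⟨b⁻¹, ?_, hcb⟩
  rw [D.supportR_eq hU hG hM hxM, ← D.uniq L hL
    ((centralizer_le_of_le_zpowers hX).trans (centralizer_le_of_normalizer_le hN))]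
  exact mem_inf.2 ⟨inv_mem hb, hbC'⟩

include hU in
theorem stmtS1374_of : StmtS1374.{u} := by
  intro G _ _ hG M hM x hx hx1
  by_cases hxM : centralizer ({x} : Set G) ≤ M
  · refine ⟨?_, ⊥, ?_, ?_, ?_⟩
    · rw [relIndex_eq_one.2 (le_inf hxM le_rfl)]
      exact Nat.coprime_one_right _
    · intro c _
      rw [mem_normalizer_iff_cj, cj_bot]
    · exact ⟨inf_le_right, bot_le, inf_bot_eq _, fun m hm => ⟨m, mem_inf.2 ⟨hxM hm, hm⟩, 1,
        one_mem _, (mul_one m).symm⟩⟩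
    · intro g hg
      obtain ⟨r, hr, hre⟩ := exists_supportR_cj hU hG hM hx hx1 hg
      rw [supportR_eq_bot hxM] at hr
      exact ⟨r, ⟨hr, hre⟩, fun r' hr' => by rw [mem_bot.1 hr'.1, mem_bot.1 hr]⟩
  obtain ⟨N, D⟩ := exists_support hU hG hM hx hx1 hxM
  set C := centralizer ({x} : Set G) with hCdef
  have hCn : C ≤ normalizer ((sigmaCore N ⊓ C : Subgroup G) : Set G) :=
    CfsgLib.Coprime.le_normalizer_inf_inf (D.le.trans (le_normalizer_sigmaCore N)) le_normalizer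
  refine ⟨?_, sigmaCore N ⊓ C, hCn, D.complC, fun g hg => ?_⟩
  · have hAn : M ⊓ C ≤ normalizer ((sigmaCore N ⊓ C : Subgroup G) : Set G) :=
      inf_le_right.trans hCn
    have hcop : (Nat.card ↥(M ⊓ C)).Coprime (Nat.card ↥(sigmaCore N ⊓ C)) := by
      obtain ⟨-, -, hdisj, -⟩ := D.compl
      refine (coprime_sigmaCore hU hG D.maxN fun t ht hd h => ?_).coprime_dvd_right
        (card_dvd_of_le inf_le_left)
      haveI := Fact.mk ht
      obtain ⟨y, hy⟩ := exists_prime_orderOf_dvd_card' t hd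
      have hY : Nat.card (zpowers (y : G)) = t := by rw [Nat.card_zpowers, orderOf_coe, hy]
      have hYle : zpowers (y : G) ≤ M ⊓ N :=
        zpowers_le.2 (mem_inf.2 ⟨(mem_inf.1 y.2).1, D.le (mem_inf.1 y.2).2⟩)
      exact ne_bot_of_card_prime hY (le_bot_iff.1 (hdisj ▸ le_inf hYle
        (pGroup_le_sigmaCore hU hG D.maxN h (isPGroup_of_card_prime hY)
          (hYle.trans inf_le_right))))
    have hrel : (M ⊓ C).relIndex C = Nat.card ↥(sigmaCore N ⊓ C) := by
      have h1 := relIndex_mul_relIndex ⊥ (M ⊓ C) C bot_le inf_le_right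
      rw [relIndex_bot_left, relIndex_bot_left, card_of_isComplIn D.complC hAn] at h1
      exact Nat.eq_of_mul_eq_mul_left Nat.card_pos h1
    rwa [hrel]
  · obtain ⟨r, hr, hre⟩ := exists_supportR_cj hU hG hM hx hx1 hg
    rw [D.supportR_eq hU hG hM hxM] at hr
    refine ⟨r, ⟨hr, hre⟩, fun r' ⟨hr', hre'⟩ => ?_⟩
    have h2 : cj (r⁻¹ * r') M = M := by
      rw [cj_mul]
      change cj r⁻¹ (cj r' M) = M
      rw [show cj r' M = cj r M from hre'.trans hre.symm, cj_inv_cj]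
    have h3 : r⁻¹ * r' ∈ (M ⊓ N) ⊓ sigmaCore N := by
      have h4 := mul_mem (inv_mem hr) hr'
      exact mem_inf.2 ⟨mem_inf.2 ⟨mem_maximal_of_cj_eq hG hM h2,
        sigmaCore_le N (mem_inf.1 h4).1⟩, (mem_inf.1 h4).1⟩
    rw [D.compl.2.2.1, mem_bot, inv_mul_eq_one] at h3
    exact h3.symm

include hU in
theorem stmtS1375_of : StmtS1375.{u} := by
  intro G _ _ hG M hM x hx hx1 hxM
  obtain ⟨N, D⟩ := exists_support hU hG hM hx hx1 hxM
  refine ⟨N, ⟨D.maxN, D.le⟩, D.uniq, D.fitting.symm,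
    CfsgLib.Coprime.le_normalizer_inf_inf (D.le.trans (le_normalizer_sigmaCore N)) le_normalizer,
    D.complC, D.compl, fun K' U' hd => ?_⟩
  have hxC : x ∈ centralizer ({x} : Set G) := mem_centralizer_singleton'.2 rfl
  have hxN : x ∈ N := D.le hxC
  have hxσ : x ∉ sigmaCore N := fun h => hx1 (by
    have h2 : x ∈ (M ⊓ N) ⊓ sigmaCore N :=
      mem_inf.2 ⟨mem_inf.2 ⟨sigmaCore_le M hx, hxN⟩, h⟩
    rwa [D.compl.2.2.1, mem_bot] at h2)
  set W := U' ⊔ sigmaCore N with hWdef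
  have hWN : W ≤ N := sup_le hd.compl.1 (sigmaCore_le N)
  have hKW : K' ≤ normalizer (W : Set G) :=
    CfsgLib.Coprime.le_normalizer_sup_sup hd.normal (hd.hall.1.trans (le_normalizer_sigmaCore N))
  have hNW : N ≤ K' ⊔ W := fun n hn => by
    obtain ⟨a, ha, b, hb, rfl⟩ := hd.compl.2.2.2 n hn
    refine mul_mem ((le_sup_right : W ≤ K' ⊔ W) ((le_sup_left : U' ≤ W) ha)) ?_
    exact (sup_le le_sup_left ((le_sup_right : sigmaCore N ≤ W).trans le_sup_right) :
      K' ⊔ sigmaCore N ≤ K' ⊔ W) hb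
  have hidx : W.relIndex N ∣ Nat.card K' := by
    have h0 : N = K' ⊔ W := le_antisymm hNW (sup_le hd.hall.1 hWN)
    have h1 := relIndex_mul_relIndex ⊥ W N bot_le hWN
    rw [relIndex_bot_left, relIndex_bot_left] at h1
    have h2 := CfsgLib.Coprime.card_sup_mul_card_inf hKW
    rw [← h0, ← h1, mul_assoc, mul_comm (Nat.card K') (Nat.card W)] at h2
    exact Dvd.intro _ (Nat.eq_of_mul_eq_mul_left Nat.card_pos h2)
  have hNn : N ≤ normalizer (W : Set G) := hNW.trans (sup_le hKW le_normalizer)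
  have hxW : x ∈ W := by
    haveI : (W.subgroupOf N).Normal := (normal_subgroupOf_iff_le_normalizer hWN).2 hNn
    have hpow : x ^ W.relIndex N ∈ W :=
      (Subgroup.pow_index_mem (W.subgroupOf N) ⟨x, hxN⟩ :)
    obtain ⟨m, hm⟩ := exists_pow_eq_self_of_coprime (x := x) (n := W.relIndex N) (by
      refine Nat.coprime_of_dvd fun t ht h1 h2 => ?_
      haveI := Fact.mk ht
      exact (tau13_of_kappa hU hG D.maxN (hd.hall.2.1 t ht (h1.trans hidx))).2.2.2 |>
        (D.tau2 t ht h2).2.2.2)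
    rw [← hm]
    exact pow_mem hpow m
  obtain ⟨⟨y, hy⟩, hy1⟩ := (ne_bot_iff_exists_ne_one).1 D.fix
  refine ⟨fun hU' => hxσ ?_, ⟨⟨hxN, y, (mem_inf.1 hy).1, fun h => hy1 (Subtype.ext h),
    (mem_centralizer_singleton'.1 (mem_inf.1 hy).2).symm⟩, hxW⟩, hxσ⟩
  rwa [hWdef, hU', bot_sup_eq] at hxW

end CfsgLib.FT.BG13
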