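import Cfsg.Agent.Lib.FT.BG13.Basic

/-!
The primes outside `σ(M)` and the complements of `M_σ` in `M`.
-/

set_option autoImplicit false
set_option linter.style.haveILetI false

universe u

namespace CfsgLib.FT.BG13

open Cfsg CfsgLib.OddOrder CfsgLib.Techniques _root_.Subgroup

variable {G : Type u} [Group G] [Finite G]

/-- A prime of `τ₁(M) ∪ τ₃(M)`. -/
def Tau13 (M : Subgroup G) (p : ℕ) : Prop :=
  p.Prime ∧ p ∉ sigma M ∧ p ∣ Nat.card M ∧ PRankLE p 1 M

theorem tau13_iff {M : Subgroup G} {p : ℕ} : Tau13 M p ↔ p ∈ tau1 M ∪ tau3 M := by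
  constructor
  · rintro ⟨h1, h2, h3, h4⟩
    by_cases h : p ∣ Nat.card ↥⁅M, M⁆
    · exact Or.inr ⟨h1, h2, h, h4⟩
    · exact Or.inl ⟨h1, h2, h3, h, h4⟩
  · intro h
    refine ⟨?_, ?_, dvd_card_of_mem_tau h, ?_⟩
    all_goals rcases h with h | h
    · exact h.1
    · exact h.1
    · exact h.2.1
    · exact h.2.1
    · exact h.2.2.2.2
    · exact h.2.2.2

theorem tau13_of_tau1 {M : Subgroup G} {p : ℕ} (h : p ∈ tau1 M) : Tau13 M p :=
  tau13_iff.2 (Or.inl h)

theorem tau13_of_tau3 {M : Subgroup G} {p : ℕ} (h : p ∈ tau3 M) : Tau13 M p :=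
  tau13_iff.2 (Or.inr h)

variable {p : ℕ} [Fact p.Prime] {M : Subgroup G}

/-- A `p`-subgroup of a subgroup of odd order and `p`-rank one is cyclic. -/
theorem isCyclic_of_pGroup_le (hG : IsMinSimpleOddOrder G) (hr : PRankLE p 1 M) {X : Subgroup G}
    (hXM : X ≤ M) (hX : IsPGroup p X) : IsCyclic X := by
  by_cases h1 : X = ⊥
  · subst h1
    exact isCyclic_of_subsingleton
  exact isCyclic_of_pRankLE_one
    (minSimple_ne_two hG ((dvd_of_pGroup_ne_bot hX h1).trans (card_subgroup_dvd_card X))) hX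
    (CfsgLib.Base.pRankLE_of_injective (inclusion hXM) (inclusion_injective hXM) hr)

/-- In `p`-rank one the subgroup of order `p` of a `p`-subgroup is unique. -/
theorem le_of_rank_one (hG : IsMinSimpleOddOrder G) (hr : PRankLE p 1 M) {P X Y : Subgroup G}
    (hPM : P ≤ M) (hP : IsPGroup p P) (hX : X ≤ P) (hY : Y ≤ P) (hXc : Nat.card X = p)
    (hY1 : Y ≠ ⊥) : X ≤ Y :=
  le_of_isCyclic (isCyclic_of_pGroup_le hG hr hPM hP) hX hY hXc
    (dvd_of_pGroup_ne_bot (hP.to_le hY) hY1)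

/-- In `p`-rank one the subgroups of order `p` are conjugate. -/
theorem exists_conj_of_rank_one (hG : IsMinSimpleOddOrder G) (hr : PRankLE p 1 M)
    {X Y : Subgroup G} (hXM : X ≤ M) (hYM : Y ≤ M) (hX : Nat.card X = p) (hY : Nat.card Y = p) :
    ∃ m ∈ M, cj m X = Y := by
  obtain ⟨T, hT, hYT⟩ := exists_sylIn_ge (p := p) (isPGroup_of_card_prime hY) hYM
  obtain ⟨m, hm, hmX⟩ := hT.exists_conj (isPGroup_of_card_prime hX) hXM
  haveI := isCyclic_of_pGroup_le hG hr hT.le hT.isPGroup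
  exact ⟨m, hm, CfsgLib.OddOrder.eq_of_card_eq_of_isCyclic (C := T) hmX hYT (by rw [card_cj, hX, hY])⟩

theorem le_centralizer_of_rank_one (hG : IsMinSimpleOddOrder G) (hr : PRankLE p 1 M)
    {P X : Subgroup G} (hPM : P ≤ M) (hP : IsPGroup p P) (hX : X ≤ P) :
    P ≤ centralizer (X : Set G) := by
  have hc := isCyclic_of_pGroup_le hG hr hPM hP
  intro a ha
  refine mem_centralizer_iff.2 fun b hb => ?_
  letI := IsCyclic.commGroup (α := P)
  exact congrArg Subtype.val (mul_comm (⟨b, hX hb⟩ : P) ⟨a, ha⟩)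

/-- For `p ∈ τ₁(M)` the `p`-subgroups of `M` meet `M'` trivially. -/
theorem inf_derived_eq_bot_of_tau1 (hp : p ∈ tau1 M) {X : Subgroup G} (hX : IsPGroup p X) :
    X ⊓ ⁅M, M⁆ = ⊥ :=
  CfsgLib.Base.inf_eq_bot_of_coprime (coprime_of_pGroup hX hp.2.2.2.1)

variable (hU : Upstream.{u}) (hG : IsMinSimpleOddOrder G) (hM : IsCoatom M)

include hU hG hM in
theorem tau_cases (hd : p ∣ Nat.card M) (hp : p ∉ sigma M) : Tau13 M p ∨ p ∈ tau2 M := by
  by_cases h1 : PRankLE p 1 M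
  · exact Or.inl ⟨Fact.out, hp, hd, h1⟩
  · exact Or.inr ⟨Fact.out, hp, pRankLE_two_of_not_sigma hU.s1403 hG hM hp, h1⟩

include hU hG hM in
theorem not_ideal_of_tau2 (hp : p ∈ tau2 M) : ¬ IsIdealPrime p G :=
  not_ideal hU.s1403 hG hM hp.2.1 hp.2.2.2

include hU hG hM in
theorem tau13_of_ideal (hi : IsIdealPrime p G) (hd : p ∣ Nat.card M) (hp : p ∉ sigma M) :
    Tau13 M p :=
  (tau_cases hU hG hM hd hp).resolve_right fun h => not_ideal_of_tau2 hU hG hM h hi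

omit hU hG hM in
theorem beta_of_ideal (hp : p ∈ sigma M) (hi : IsIdealPrime p G) : p ∈ beta M := by
  refine ⟨⟨Fact.out, fun h => hi.2.1 ?_⟩, hi⟩
  obtain ⟨T, hT⟩ := exists_sylIn (p := p) M
  exact CfsgLib.Base.pRankLE_top_iff.1
    ((pRankLE_iff_sylIn (sigma_sylIn_top hp hT)).2 ((pRankLE_iff_sylIn hT).1 h))

/-! ### Complements of `M_σ` -/

omit [Fact p.Prime] in
include hU hG hM in
theorem exists_compl : ∃ E : Subgroup G, IsComplIn E (sigmaCore M) M := by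
  have hS := sigmaCore_hallOf hU hG hM
  have hcop : (Nat.card (sigmaCore M)).Coprime ((sigmaCore M).relIndex M) :=
    CfsgLib.Coprime.coprime_of_pi hS.2.1 hS.2.2
  obtain ⟨E, hEM, hEc, hE⟩ :=
    CfsgLib.Coprime.exists_complement_in (sigmaCore_le M) (le_normalizer_sigmaCore M) hcop
  refine ⟨E, hEM, sigmaCore_le M,
    CfsgLib.Base.inf_eq_bot_of_coprime (by rw [hEc]; exact hcop.symm), fun m hm => ?_⟩
  rw [← hE, sup_comm] at hm
  obtain ⟨a, ha, b, hb, rfl⟩ :=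
    (CfsgLib.Coprime.mem_sup_iff_of_le_normalizer (hEM.trans (le_normalizer_sigmaCore M))).1 hm
  exact ⟨a, ha, b, hb, rfl⟩

variable {E : Subgroup G}

omit [Fact p.Prime] hU hG hM in
theorem compl_sup (hE : IsComplIn E (sigmaCore M) M) : E ⊔ sigmaCore M = M :=
  le_antisymm (sup_le hE.1 hE.2.1) fun m hm => by
    obtain ⟨a, ha, b, hb, rfl⟩ := hE.2.2.2 m hm
    exact mul_mem_sup ha hb

omit [Fact p.Prime] hU hG hM in
theorem compl_card (hE : IsComplIn E (sigmaCore M) M) :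
    Nat.card E = (sigmaCore M).relIndex M := by
  have h := CfsgLib.Coprime.card_sup_of_inf_eq_bot (hE.1.trans (le_normalizer_sigmaCore M)) hE.2.2.1
  rw [compl_sup hE] at h
  have h2 : Nat.card (sigmaCore M) * (sigmaCore M).relIndex M = Nat.card M := by
    rw [← relIndex_bot_left (sigmaCore M), relIndex_mul_relIndex _ _ _ bot_le (sigmaCore_le M),
      relIndex_bot_left]
  rw [h, mul_comm (Nat.card E)] at h2
  exact (Nat.eq_of_mul_eq_mul_left Nat.card_pos h2).symm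

omit [Fact p.Prime] in
include hU hG hM in
theorem compl_primes (hE : IsComplIn E (sigmaCore M) M) {q : ℕ} (hq : q.Prime)
    (hd : q ∣ Nat.card E) : q ∉ sigma M := fun h =>
  (sigmaCore_hallOf hU hG hM).2.2 q hq h (compl_card hE ▸ hd)

omit [Fact p.Prime] in
include hU hG hM in
theorem compl_hall (hE : IsComplIn E (sigmaCore M) M) :
    IsPiHallOf {q | q.Prime ∧ q ∉ sigma M} E M := by
  refine ⟨hE.1, fun q hq hd => ⟨hq, compl_primes hU hG hM hE hq hd⟩, fun q hq hπ hd => ?_⟩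
  refine sigmaCore_coprime hU hG hM hq hπ.2 (dvd_trans hd (dvd_of_eq ?_))
  have h := CfsgLib.Coprime.card_sup_of_inf_eq_bot (hE.1.trans (le_normalizer_sigmaCore M)) hE.2.2.1
  rw [compl_sup hE, ← relIndex_bot_left M, ← relIndex_mul_relIndex _ _ _ bot_le hE.1,
    relIndex_bot_left] at h
  exact Nat.eq_of_mul_eq_mul_left Nat.card_pos h

omit [Fact p.Prime] in
include hU hG hM in
theorem exists_compl_ge {Y : Subgroup G} (hYM : Y ≤ M)
    (hY : ∀ q : ℕ, q.Prime → q ∣ Nat.card Y → q ∉ sigma M) :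
    ∃ E : Subgroup G, IsComplIn E (sigmaCore M) M ∧ Y ≤ E := by
  obtain ⟨E₀, hE₀⟩ := exists_compl hU hG hM
  haveI := maximal_solvable hG hM
  have hD := CfsgLib.Coprime.hallD_of_solvable (G := M) {q | q.Prime ∧ q ∉ sigma M}
  obtain ⟨g, hg⟩ := hD.conj_le (U := Y.subgroupOf M) (H := E₀.subgroupOf M)
    (fun q hq hd => ⟨hq, hY q hq (by rwa [CfsgLib.Base.card_subgroupOf hYM] at hd)⟩)
    (CfsgLib.Coprime.piHallOf_iff.1 (compl_hall hU hG hM hE₀)).2
  have hgY : cj (g : G) Y ≤ E₀ := by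
    refine cj_le_iff.2 fun y hy => ?_
    have h := hg (Subgroup.smul_mem_pointwise_smul ⟨y, hYM hy⟩ (MulAut.conj g) _
      (mem_subgroupOf.2 hy))
    exact mem_subgroupOf.1 h
  refine ⟨cj (g : G)⁻¹ E₀, ?_, ?_⟩
  · refine ⟨?_, sigmaCore_le M, ?_, ?_⟩
    · exact (cj_mono hE₀.1).trans (cj_eq_self_of_mem (inv_mem g.2)).le
    · rw [← mem_normalizer_iff_cj.1 (le_normalizer_sigmaCore M (inv_mem g.2)), ← cj_inf, hE₀.2.2.1,
        cj_bot]
    · intro m hm
      obtain ⟨a, ha, b, hb, e⟩ := hE₀.2.2.2 _ (mul_mem (mul_mem g.2 hm) (inv_mem g.2))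
      refine ⟨(g : G)⁻¹ * a * g, by rwa [mem_cj, inv_inv, show (g : G) * ((g : G)⁻¹ * a * g) *
        (g : G)⁻¹ = a by group], (g : G)⁻¹ * b * g, ?_, ?_⟩
      · exact (mem_normalizer_iff''.1 (le_normalizer_sigmaCore M g.2) b).1 hb
      · rw [show (g : G)⁻¹ * a * g * ((g : G)⁻¹ * b * g) = (g : G)⁻¹ * (a * b) * g by group, ← e]
        group
  · have := cj_mono (g := (g : G)⁻¹) hgY
    rwa [cj_inv_cj] at this

omit [Fact p.Prime] in
include hU hG hM in
theorem compl_conj {E' : Subgroup G} (hE : IsComplIn E (sigmaCore M) M)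
    (hE' : IsComplIn E' (sigmaCore M) M) : ∃ a ∈ sigmaCore M, cj a E = E' := by
  obtain ⟨a, ha, e⟩ := CfsgLib.Coprime.sz_conj_rel (hE.1.trans (le_normalizer_sigmaCore M))
    (hE'.1.trans (le_normalizer_sigmaCore M))
    (Nat.coprime_of_dvd fun q hq h1 h2 => compl_primes hU hG hM hE hq h2
      (sigmaCore_primes hU hG hM hq h1))
    (by rw [compl_card hE, compl_card hE']) (by rw [sup_comm, compl_sup hE]; exact hE'.1)
    (Or.inl (minSimple_solvable hG (ne_top_of_le_maximal hM (sigmaCore_le M))))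
  exact ⟨a, ha, (CfsgLib.Base.map_conj_eq_smul a E).trans e⟩

include hU hG hM in
/-- For `p ∈ τ₃(M)` the `p`-subgroups of `M` lie in `M'`. -/
theorem le_derived_of_tau3 (hp : p ∈ tau3 M) {X : Subgroup G} (hX : IsPGroup p X) (hXM : X ≤ M) :
    X ≤ ⁅M, M⁆ := by
  obtain ⟨E, hE, hXE⟩ := exists_compl_ge hU hG hM hXM
    fun q hq hd => eq_of_dvd_card_pGroup hX hq hd ▸ hp.2.1
  haveI : Group.IsSolvable E := minSimple_solvable hG (ne_top_of_le_maximal hM hE.1)
  have hD := CfsgLib.Coprime.hallD_of_solvable (G := E) (tau3 M)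
  obtain ⟨H, hH, hXH⟩ := hD.exists_le (U := X.subgroupOf E)
    fun q hq hd => eq_of_dvd_card_pGroup hX hq
      (by rwa [CfsgLib.Base.card_subgroupOf hXE] at hd) ▸ hp
  have h3 := ((hU.s1415 hG M hM E hE).2.2 _ (CfsgLib.Coprime.piHallOf_map_subtype hH)).2.1
  calc X = (X.subgroupOf E).map E.subtype := (map_subgroupOf_eq_of_le hXE).symm
    _ ≤ H.map E.subtype := map_mono hXH
    _ ≤ ⁅E, E⁆ := h3
    _ ≤ ⁅M, M⁆ := commutator_mono hE.1 hE.1

end CfsgLib.FT.BG13
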