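import Cfsg.Agent.Lib.FT.BG13.CoprimeAux
import Cfsg.Agent.Lib.FT.BG13.Complements

/-!
The primes of `κ(M) ∩ τ₃(M)` (BG 14.2, the case of a complement equal to its `κ`-part): every
subgroup of prime order of the complement has the same fixed points in `M_σ`.
-/

set_option autoImplicit false
set_option linter.style.haveILetI false
set_option linter.unusedSectionVars false

universe u

namespace CfsgLib.FT.BG13

open Cfsg CfsgLib.OddOrder CfsgLib.Techniques _root_.Subgroup
open scoped commutatorElement Pointwise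

variable {G : Type u} [Group G] [Finite G]
variable (hU : Upstream.{u}) (hG : IsMinSimpleOddOrder G) {M : Subgroup G} (hM : IsCoatom M)
variable {E L P R : Subgroup G} {p r : ℕ}

include hU hG hM in
/-- No prime is in `τ₂(M)` when a complement lies in another maximal subgroup meeting `M_σ`. -/
theorem not_tau2_of_compl_le (hE : IsComplIn E (sigmaCore M) M) (hL : IsCoatom L) (hne : L ≠ M)
    (hEL : E ≤ L) (hH : sigmaCore M ⊓ L ≠ ⊥) (t : ℕ) : t ∉ tau2 M := by
  intro ht
  haveI := Fact.mk ht.1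
  obtain ⟨A, hAE, hA, hA2⟩ := exists_elementary_compl hU hG hM ht hE
  exact hH ((hU.s1417 hG M hM t ht A ⟨hAE.trans hE.1, hA, hA2⟩).2.2.2.2.1 L hL hne
    (hAE.trans hEL))

include hU hG in
/-- The other side of a pair lies in the complements contained in both. -/
theorem KPair.side_le_compl (D : KPair M L) (hE : IsComplIn E (sigmaCore M) M) (hEL : E ≤ L) :
    sigmaCore L ⊓ M ≤ E := by
  have hM := D.maxM
  have hEn : E ≤ normalizer ((sigmaCore L ⊓ M : Subgroup G) : Set G) :=
    CfsgLib.Coprime.le_normalizer_inf_inf (hEL.trans (le_normalizer_sigmaCore L))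
      (hE.1.trans le_normalizer)
  obtain ⟨E', hE', hle⟩ := exists_compl_ge hU hG hM (sup_le hE.1 inf_le_right :
      E ⊔ sigmaCore L ⊓ M ≤ M) fun t ht hd => by
    rcases ht.dvd_mul.1 (hd.trans (CfsgLib.Coprime.card_sup_dvd hEn)) with h | h
    · exact compl_primes hU hG hM hE ht h
    · intro hσ
      obtain ⟨g, hg⟩ := sigma_disjoint hU hG hM D.maxL hσ
        (sigmaCore_primes hU hG D.maxL ht (h.trans (card_dvd_of_le inf_le_left)))
      exact D.nconj g hg
  have he : E = E' := Subgroup.eq_of_le_of_card_ge (le_sup_left.trans hle)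
    (by rw [compl_card hE, compl_card hE'])
  exact (le_sup_right.trans hle).trans he.ge

include hU hG hM in
/-- A subgroup of prime order of the complement with a fixed point in `M_σ ∩ M*` centralises the
subgroup of order `p ∈ κ(M) ∩ τ₃(M)`. -/
theorem fix_le_centralizer [hp : Fact p.Prime] [hr : Fact r.Prime] (D : KPair M L)
    (hp3 : p ∈ tau3 M) (hE : IsComplIn E (sigmaCore M) M) (hEL : E ≤ L) (hP : Nat.card P = p)
    (hPE : P ≤ E) (hPH : P ≤ sigmaCore L ⊓ M) (hR : Nat.card R = r) (hRE : R ≤ E)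
    (hfix : sigmaCore M ⊓ L ⊓ centralizer (R : Set G) ≠ ⊥) : R ≤ centralizer (P : Set G) := by
  by_contra hnc
  have hEs := minSimple_solvable hG (ne_top_of_le_maximal hM hE.1)
  have hPp := isPGroup_of_card_prime hP
  have hPM : P ≤ M := hPE.trans hE.1
  have hRM : R ≤ M := hRE.trans hE.1
  have hEP : E ≤ normalizer (P : Set G) := compl_le_normalizer_of_tau3 hU hG hM hp3 hE hPE hP
  have hrσ : r ∉ sigma M := compl_primes hU hG hM hE hr.out (hR ▸ card_dvd_of_le hRE)
  have hn2 := not_tau2_of_compl_le hU hG hM hE D.maxL D.ne hEL D.left_ne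
  -- `r ∈ τ₁(M)`
  have hr1 : r ∈ tau1 M := by
    rcases tau13_iff.1 ((tau_cases hU hG hM (hR ▸ card_dvd_of_le hRM) hrσ).resolve_right (hn2 r))
      with h | h
    · exact h
    exfalso
    haveI : Group.IsSolvable E := hEs
    obtain ⟨H, hH, -⟩ := (CfsgLib.Coprime.hallD_of_solvable (G := E) (tau3 M)).exists_le
      (U := (⊥ : Subgroup E)) (by
        intro t ht hd
        rw [card_bot] at hd
        exact absurd (Nat.dvd_one.1 hd) ht.ne_one)
    have hE₃ := CfsgLib.Coprime.piHallOf_map_subtype hH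
    obtain ⟨hc, -, hn⟩ := (hU.s1415 hG M hM E hE).2.2 _ hE₃
    have hP3 := le_of_normal_hall hn hE₃ hPE fun t ht hd =>
      eq_of_dvd_card_pGroup hPp ht hd ▸ hp3
    have hR3 := le_of_normal_hall hn hE₃ hRE fun t ht hd =>
      eq_of_dvd_card_pGroup (isPGroup_of_card_prime hR) ht hd ▸ h
    exact hnc (le_centralizer_of_le_commutative (isMulCommutative_of_cyclic hc) hR3 hP3)
  have hrp : r ≠ p := fun e => hr1.2.2.2.1 (e ▸ hp3.2.2.1)
  have hPR : ⁅P, R⁆ = P := commutator_eq_of_card_prime hP (hRE.trans hEP) hnc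
  -- the prime `q` and a fixed element
  obtain ⟨q, hq, -, X, hXW, hX⟩ := exists_card_prime hfix
  haveI := Fact.mk hq
  have hXH : X ≤ sigmaCore M ⊓ L := hXW.trans inf_le_left
  have hXσ : X ≤ sigmaCore M := hXH.trans inf_le_left
  have hXR : R ≤ centralizer (X : Set G) := le_centralizer_iff.1 (hXW.trans inf_le_right)
  have hHP : sigmaCore M ⊓ L = sigmaCore M ⊓ centralizer (P : Set G) :=
    (D.right p P hP hPH).2.2.2.symm
  have hXP : P ≤ centralizer (X : Set G) :=
    le_centralizer_iff.1 ((hXH.trans hHP.le).trans inf_le_right)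
  have hqσ : q ∈ sigma M := sigmaCore_primes hU hG hM hq (hX ▸ card_dvd_of_le hXσ)
  have hqL : Tau13 L q := tau13_of_kappa hU hG D.maxL (D.left q X hX hXH).1
  have hq2 : q ≠ 2 := minSimple_ne_two hG (hX ▸ card_subgroup_dvd_card X)
  have hrq : r ≠ q := fun e => hrσ (e ▸ hqσ)
  have hσs := minSimple_solvable hG (ne_top_of_le_maximal hM (sigmaCore_le M))
  set A := R ⊔ P with hAdef
  have hAE : A ≤ E := sup_le hRE hPE
  have hcopA := coprime_of_le_compl hU hG hM hE hAE
  have hAσ : A ≤ normalizer (sigmaCore M : Set G) :=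
    (hAE.trans hE.1).trans (le_normalizer_sigmaCore M)
  obtain ⟨S', hXS, hSn⟩ := CfsgLib.Coprime.exists_invariant_sylow_ge hAσ hcopA (Or.inr hσs) hXσ
    (isPGroup_of_card_prime hX) ((sup_le hXR hXP).trans (centralizer_le_normalizer _))
  set S := (S' : Subgroup ↥(sigmaCore M)).map (sigmaCore M).subtype with hSdef
  have hS : SylIn q S (sigmaCore M) := sylIn_sylow_map S'
  have hSσ : S ≤ sigmaCore M := hS.le
  have hSM : SylIn q S M := sylIn_of_hall' (sigmaCore_hallOf hU hG hM) hqσ hS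
  have hcopS : ∀ B : Subgroup G, B ≤ E → (Nat.card B).Coprime (Nat.card S) := fun B hB =>
    (coprime_of_le_compl hU hG hM hE hB).coprime_dvd_right (card_dvd_of_le hSσ)
  -- `P` centralises `S`
  have hPS : P ≤ centralizer (S : Set G) := by
    by_cases hα : q ∈ alpha M
    · have hSα : S ≤ alphaCore M :=
        le_of_normal_hall (le_normalizer_alphaCore M) (alphaCore_hall hU.s1403 hG hM)
          (hSσ.trans (sigmaCore_le M)) fun t ht hd => eq_of_dvd_card_pGroup hS.isPGroup ht hd ▸ hα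
      have hcyc := isCyclic_alpha_centralizer hU hG hM (tau13_of_tau1 hr1) hR hRM hS.isPGroup hSα
      obtain ⟨x, hxX, hxo, -⟩ := exists_gen_of_card_prime hX
      refine le_centralizer_of_cyclic_fix hq2 hr.out hR hS.isPGroup hrq
        (le_sup_left.trans hSn) (le_sup_right.trans hSn) (hRE.trans hEP)
        (minSimple_solvable hG (ne_top_of_le_maximal hM hPM)) ?_ ?_ ?_ hPR hcyc (hXS hxX) hxo
        (mem_centralizer_iff.2 fun y hy => (mem_centralizer_iff.1 (hXR hy) x hxX).symm)
        (mem_centralizer_iff.2 fun y hy => (mem_centralizer_iff.1 (hXP hy) x hxX).symm)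
      · rw [hP]
        exact hp.out.odd_of_ne_two (minSimple_ne_two hG (hP ▸ card_subgroup_dvd_card P))
      · rw [hP]
        exact fun hd => hrp ((Nat.prime_dvd_prime_iff_eq hr.out hp.out).1 hd)
      · rw [hP]
        exact fun hd => hp3.2.1 ((Nat.prime_dvd_prime_iff_eq hq hp.out).1 hd ▸ hqσ)
    · exact centralizes_of_alpha hU hG hM (le_derived_of_tau3 hU hG hM hp3 hPp hPM)
        (hSσ.trans (sigmaCore_le_derived hU.s1403 hG hM)) (le_sup_right.trans hSn)
        (hcopS P hPE) fun t ht hd => eq_of_dvd_card_pGroup hS.isPGroup ht hd ▸ hα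
  -- so `S` is cyclic
  have hSL : S ≤ L := ((le_inf hSσ (le_centralizer_iff.1 hPS)).trans hHP.ge).trans inf_le_right
  have hSc : IsCyclic S := isCyclic_of_pGroup_le hG hqL.2.2.2 hSL hS.isPGroup
  have hqα : q ∉ alpha M := fun hα => hα.2
    ((pRankLE_iff_sylIn hSM).2 (pRankLE_two_of_one hq (pRankLE_one_of_cyclic hSc)))
  have hRS : R ≤ centralizer (S : Set G) :=
    le_centralizer_of_cyclic_pGroup hS.isPGroup hSc (le_sup_left.trans hSn) (hcopS R hRE)
      fun h => ne_bot_of_card_prime hX (le_bot_iff.1 (h ▸ le_inf hXS (le_centralizer_iff.1 hXR)))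
  -- an `E`-invariant Sylow subgroup, centralised by `R`
  obtain ⟨S0', hS0n⟩ := CfsgLib.Coprime.exists_invariant_sylow (p := q)
    (hE.1.trans (le_normalizer_sigmaCore M)) (coprime_of_le_compl hU hG hM hE le_rfl) (Or.inr hσs)
  set S0 := (S0' : Subgroup ↥(sigmaCore M)).map (sigmaCore M).subtype with hS0def
  have hS0 : SylIn q S0 (sigmaCore M) := sylIn_sylow_map S0'
  obtain ⟨c, hcA, hce⟩ := CfsgLib.Coprime.invariant_sylow_conj hAσ hcopA (Or.inr hσs) S' S0' hSn
    (hAE.trans hS0n)
  have hce' : cj (c : G) S = S0 := by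
    have h2 := CfsgLib.Coprime.conj_smul_map (sigmaCore M).subtype c (S' : Subgroup ↥(sigmaCore M))
    rw [show MulAut.conj c • (S' : Subgroup ↥(sigmaCore M)) = (S0' : Subgroup ↥(sigmaCore M)) from
      congrArg Sylow.toSubgroup hce, CfsgLib.Coprime.conj_smul_eq_map] at h2
    exact h2
  have hRS0 : R ≤ centralizer (S0 : Set G) := by
    intro y hy
    refine mem_centralizer_iff.2 ?_
    rw [← hce']
    intro z hz
    have hz' : (c : G)⁻¹ * z * c ∈ S := mem_cj.1 hz
    have h1 := mem_centralizer_iff.1 (hRS hy) _ hz'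
    have h2 : y * c = c * y := mem_centralizer_iff.1 hcA y (le_sup_left (a := R) (b := P) hy)
    calc z * y = c * ((c : G)⁻¹ * z * c) * ((c : G)⁻¹ * y) := by group
      _ = c * ((c : G)⁻¹ * z * c) * (y * (c : G)⁻¹) := by
        congr 1
        calc (c : G)⁻¹ * y = (c : G)⁻¹ * (y * c) * (c : G)⁻¹ := by group
          _ = y * (c : G)⁻¹ := by rw [h2]; group
      _ = c * ((c : G)⁻¹ * z * c * y) * (c : G)⁻¹ := by group
      _ = c * (y * ((c : G)⁻¹ * z * c)) * (c : G)⁻¹ := by rw [h1]
      _ = (c * y) * (c : G)⁻¹ * z := by group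
      _ = (y * c) * (c : G)⁻¹ * z := by rw [h2]
      _ = y * z := by group
  -- `E` centralises `S0`
  have hES0 : E ≤ centralizer (S0 : Set G) := by
    haveI : Group.IsSolvable E := hEs
    obtain ⟨H, hH, hRH⟩ := (CfsgLib.Coprime.hallD_of_solvable (G := E) (tau1 M)).exists_le
      (U := R.subgroupOf E) fun t ht hd => eq_of_dvd_card_pGroup (isPGroup_of_card_prime hR) ht
        (by rwa [CfsgLib.Base.card_subgroupOf hRE] at hd) ▸ hr1
    set E₁ := H.map E.subtype with hE₁def
    have hE₁ := CfsgLib.Coprime.piHallOf_map_subtype hH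
    have hRE₁ : R ≤ E₁ := by
      rw [← map_subgroupOf_eq_of_le hRE]
      exact map_mono hRH
    have hE₁S0 : E₁ ≤ centralizer (S0 : Set G) := le_centralizer_iff.1
      ((le_inf hS0.le (le_centralizer_iff.1 hRS0)).trans (centralizer_le_tau1Hall hU hG hM hr1 hR
        hRE₁ (hE₁.1.trans hE.1) ((hU.s1415 hG M hM E hE).2.1 E₁ hE₁) hE₁.2.1))
    refine le_of_sylows fun t ht hd => ?_
    haveI := Fact.mk ht
    have htσ : t ∉ sigma M := compl_primes hU hG hM hE ht hd
    rcases tau13_iff.1 ((tau_cases hU hG hM (hd.trans (card_dvd_of_le hE.1)) htσ).resolve_right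
      (hn2 t)) with h1 | h3
    · obtain ⟨T, hT⟩ := exists_sylIn (p := t) E₁
      exact ⟨T, sylIn_of_hall' hE₁ h1 hT, hT.le.trans hE₁S0⟩
    · obtain ⟨T, hT⟩ := exists_sylIn (p := t) E
      exact ⟨T, hT, centralizes_of_alpha hU hG hM
        (le_derived_of_tau3 hU hG hM h3 hT.isPGroup (hT.le.trans hE.1))
        (hS0.le.trans (sigmaCore_le_derived hU.s1403 hG hM)) (hT.le.trans hS0n)
        (((coprime_of_le_compl hU hG hM hE hT.le)).coprime_dvd_right (card_dvd_of_le hS0.le))
        fun u hu hd => eq_of_dvd_card_pGroup hS0.isPGroup hu hd ▸ hqα⟩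
  obtain ⟨q', hq', hqd, Z, hZS, hZ⟩ := exists_card_prime (sylIn_ne_bot hS0
    (hX ▸ card_dvd_of_le hXσ))
  obtain rfl : q' = q := eq_of_dvd_card_pGroup hS0.isPGroup hq' hqd
  refine sylow_not_cyclic hU hG hM hZ (hZS.trans hS0.le) (Or.inr ((le_inf (hZS.trans hS0.le)
    ((le_centralizer_iff.1 hES0).trans' hZS)).trans (hU.s1426 hG M hM E hE).1)) hS0 ?_
  rw [← hce']
  exact ((equivMapOfInjective S _ (MulAut.conj (c : G)).injective).isCyclic).1 hSc

include hU hG hM in
/-- The subgroup of prime order `r` of the complement centralises a member of `M_σ ∩ M*` if it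
centralises `P`. -/
theorem fix_ne_bot_of_centralizes [hp : Fact p.Prime] [hr : Fact r.Prime] (D : KPair M L)
    (hE : IsComplIn E (sigmaCore M) M) (hEL : E ≤ L) (hP : Nat.card P = p)
    (hPH : P ≤ sigmaCore L ⊓ M) (hR : Nat.card R = r) (hRE : R ≤ E)
    (hRP : R ≤ centralizer (P : Set G)) :
    sigmaCore M ⊓ L ⊓ centralizer (R : Set G) ≠ ⊥ := by
  intro hbot
  have hL := D.maxL
  have hRM : R ≤ M := hRE.trans hE.1
  have hRL : R ≤ L := hRE.trans hEL
  have hrL : r ∉ sigma L := fun h => by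
    have hc := commutator_eq_bot_iff_le_centralizer.1 (D.commutator_eq_bot hU hG)
    have hRH : R ≤ sigmaCore L ⊓ M :=
      le_inf (pGroup_le_sigmaCore hU hG hL h (isPGroup_of_card_prime hR) hRL) hRM
    rw [inf_eq_left.2 (hc.trans (centralizer_le hRH))] at hbot
    exact D.left_ne hbot
  set H := sigmaCore M ⊓ L with hHdef
  have hRHn : R ≤ normalizer (H : Set G) := CfsgLib.Coprime.le_normalizer_inf_inf
    (hRM.trans (le_normalizer_sigmaCore M)) (hRL.trans le_normalizer)
  have hcop : (Nat.card R).Coprime (Nat.card H) :=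
    (coprime_of_le_compl hU hG hM hE hRE).coprime_dvd_right (card_dvd_of_le inf_le_left)
  obtain ⟨q, hq, hqd, -⟩ := exists_card_prime D.left_ne
  haveI := Fact.mk hq
  obtain ⟨Q', hQn⟩ := CfsgLib.Coprime.exists_invariant_sylow (p := q) hRHn hcop
    (Or.inr (minSimple_solvable hG (ne_top_of_le_maximal hM (inf_le_left.trans (sigmaCore_le M)))))
  set Q := (Q' : Subgroup H).map H.subtype with hQdef
  have hQ : SylIn q Q H := sylIn_sylow_map Q'
  obtain ⟨q', hq', hqd', X, hXQ, hX⟩ := exists_card_prime (sylIn_ne_bot hQ hqd)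
  obtain rfl : q' = q := eq_of_dvd_card_pGroup hQ.isPGroup hq' hqd'
  have hXH : X ≤ H := hXQ.trans hQ.le
  obtain ⟨hqk, hXN, -, -⟩ := D.left q' X hX hXH
  have hqt := tau13_of_kappa hU hG hL hqk
  have hXL : X ≤ L := hXH.trans inf_le_right
  have hXn : R ≤ normalizer (X : Set G) := le_normalizer_of_isCyclic
    (isCyclic_of_pGroup_le hG hqt.2.2.2 (hQ.le.trans inf_le_right) hQ.isPGroup) hXQ hQn
  have hnc : ¬ R ≤ centralizer (X : Set G) := fun h =>
    ne_bot_of_card_prime hX (le_bot_iff.1 (hbot ▸ le_inf hXH (le_centralizer_iff.1 h)))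
  have hXd : X ≤ ⁅L, L⁆ := by
    rw [← commutator_eq_of_card_prime hX hXn hnc]
    exact commutator_mono hXL hRL
  have hq3 : q' ∈ tau3 L :=
    ⟨hq, hqt.2.1, hX ▸ card_dvd_of_le hXd, hqt.2.2.2⟩
  obtain ⟨E', hE', hle⟩ := exists_compl_ge hU hG hL (sup_le hRL hXL) fun t ht hd => by
    rcases ht.dvd_mul.1 (hd.trans (CfsgLib.Coprime.card_sup_dvd hXn)) with h | h
    · exact eq_of_dvd_card_pGroup (isPGroup_of_card_prime hR) ht h ▸ hrL
    · exact eq_of_dvd_card_pGroup (isPGroup_of_card_prime hX) ht h ▸ hqt.2.1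
  have hXE' : X ≤ E' := le_sup_right.trans hle
  have hE'M : E' ≤ M := (compl_le_normalizer_of_tau3 hU hG hL hq3 hE' hXE' hX).trans hXN
  exact hnc (fix_le_centralizer hU hG hL D.symm hq3 hE' hE'M hX hXE' hXH hR
    (le_sup_left.trans hle) fun h =>
      ne_bot_of_card_prime hP (le_bot_iff.1 (h ▸ le_inf hPH (le_centralizer_iff.1 hRP))))

include hU hG hM in
/-- A subgroup of prime order of the complement not centralising `P` cannot exist: the step that
produces a fixed point on each side. -/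
theorem fix_ne_bot_of_moves [hp : Fact p.Prime] [hr : Fact r.Prime] (D : KPair M L)
    (hE : IsComplIn E (sigmaCore M) M) (hEL : E ≤ L) (hP : Nat.card P = p) (hPE : P ≤ E)
    (hPH : P ≤ sigmaCore L ⊓ M) (hR : Nat.card R = r) (hRE : R ≤ E)
    (hRP : R ≤ normalizer (P : Set G)) (hnc : ¬ R ≤ centralizer (P : Set G)) :
    sigmaCore M ⊓ centralizer (R : Set G) ≠ ⊥ := by
  intro hbot
  have hPR : ⁅P, R⁆ = P := commutator_eq_of_card_prime hP hRP hnc
  have hrp : r ≠ p := by
    intro e
    subst e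
    have hle : P ≤ R := le_of_rank_one hG (tau13_of_kappa hU hG hM (D.right r P hP hPH).1).2.2.2
      (sup_le (hRE.trans hE.1) (hPE.trans hE.1))
      ((isPGroup_of_card_prime hR).to_sup_of_normal_right' (isPGroup_of_card_prime hP) hRP)
      le_sup_right le_sup_left hP (ne_bot_of_card_prime hR)
    haveI := isCyclic_of_prime_card hR
    exact hnc (le_centralizer_of_le_commutative (isMulCommutative_of_cyclic ‹_›) le_rfl hle)
  have hMσ : sigmaCore M ≤ centralizer (P : Set G) := by
    refine le_centralizer_iff.1 ?_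
    refine le_centralizer_iff.1 (le_of_sylows fun t ht hd => ?_)
    haveI := Fact.mk ht
    have hσs := minSimple_solvable hG (ne_top_of_le_maximal hM (sigmaCore_le M))
    have hRPE : R ⊔ P ≤ E := sup_le hRE hPE
    have hcop := coprime_of_le_compl hU hG hM hE hRPE
    obtain ⟨T', hTn⟩ := CfsgLib.Coprime.exists_invariant_sylow (p := t)
      ((hRPE.trans hE.1).trans (le_normalizer_sigmaCore M)) hcop (Or.inr hσs)
    have hT : SylIn t ((T' : Subgroup ↥(sigmaCore M)).map (sigmaCore M).subtype) (sigmaCore M) :=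
      sylIn_sylow_map T'
    refine ⟨_, hT, le_centralizer_iff.1 ?_⟩
    have hts : t ∈ sigma M := sigmaCore_primes hU hG hM ht hd
    have hrσ : r ∉ sigma M := compl_primes hU hG hM hE hr.out (hR ▸ card_dvd_of_le hRE)
    have hpσ : p ∉ sigma M := compl_primes hU hG hM hE hp.out (hP ▸ card_dvd_of_le hPE)
    have h := FixedPointPrime.commutator_le_centralizer_of_fpf (Q := P) ht hr.out hR hT.isPGroup
      (fun e => hrσ (e ▸ hts)) (le_sup_left.trans hTn) (le_sup_right.trans hTn) hRP
      (minSimple_solvable hG (ne_top_of_le_maximal hM (hPE.trans hE.1)))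
      (by rw [hP]; exact hp.out.odd_of_ne_two (minSimple_ne_two hG (hP ▸ card_subgroup_dvd_card P)))
      (by rw [hP]; exact fun hd => hrp ((Nat.prime_dvd_prime_iff_eq hr.out hp.out).1 hd))
      (by rw [hP]; exact fun hd => hpσ ((Nat.prime_dvd_prime_iff_eq ht hp.out).1 hd ▸ hts))
      (le_bot_iff.1 ((inf_le_inf_right _ hT.le).trans hbot.le))
    rwa [hPR] at h
  have hσL : sigmaCore M ≤ L :=
    hMσ.trans (centralizer_le_of_normalizer_le (D.right p P hP hPH).2.1)
  have hle : M ≤ L := (compl_sup hE).ge.trans (sup_le hEL hσL)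
  exact D.ne ((hM.le_iff.1 hle).resolve_left D.maxL.1)

include hU hG hM in
/-- A subgroup of prime order `s ∈ σ(M)` of `M*` centralising `R` lies in `C_{M_σ ∩ M*}(R)`, up to
conjugation in `C(R)`. -/
theorem side_fix_ne_bot [hr : Fact r.Prime] {s : ℕ} [hs : Fact s.Prime] {E' W : Subgroup G}
    (hL : IsCoatom L) (hnc : ∀ g : G, L ≠ cj g M) (hE' : IsComplIn E' (sigmaCore L) L)
    (hE'M : E' ≤ M) (hR : Nat.card R = r) (hRE' : R ≤ E') (hW : Nat.card W = s)
    (hsM : s ∈ sigma M) (hWL : W ≤ L) (hWR : W ≤ centralizer (R : Set G)) :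
    sigmaCore M ⊓ L ⊓ centralizer (R : Set G) ≠ ⊥ := by
  have hsL : s ∉ sigma L := fun h => by
    obtain ⟨g, hg⟩ := sigma_disjoint hU hG hM hL hsM h
    exact hnc g hg
  have hrL : r ∉ sigma L := compl_primes hU hG hL hE' hr.out (hR ▸ card_dvd_of_le hRE')
  obtain ⟨E'', hE'', hle⟩ := exists_compl_ge hU hG hL (sup_le (hRE'.trans hE'.1) hWL)
    fun t ht hd => by
      rcases ht.dvd_mul.1 (hd.trans (CfsgLib.Coprime.card_sup_dvd
        ((le_centralizer_iff.1 hWR).trans (centralizer_le_normalizer _)))) with h | h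
      · exact eq_of_dvd_card_pGroup (isPGroup_of_card_prime hR) ht h ▸ hrL
      · exact eq_of_dvd_card_pGroup (isPGroup_of_card_prime hW) ht h ▸ hsL
  obtain ⟨a, ha, hae⟩ := exists_centralizer_compl hU hG hL hE' hE'' hRE' (le_sup_left.trans hle)
  have hW' : cj a W ≤ E' := (cj_mono (le_sup_right.trans hle)).trans hae.le
  have hWC : cj a W ≤ centralizer (R : Set G) :=
    cj_le_iff.2 fun x hx => mul_mem (mul_mem (mem_inf.1 ha).2 (hWR hx)) (inv_mem (mem_inf.1 ha).2)
  intro h
  refine ne_bot_of_card_prime ((card_cj a W).trans hW) (le_bot_iff.1 (h ▸ le_inf (le_inf ?_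
    (hW'.trans hE'.1)) hWC))
  exact pGroup_le_sigmaCore hU hG hM hsM (isPGroup_of_card_prime ((card_cj a W).trans hW))
    (hW'.trans hE'M)

end CfsgLib.FT.BG13
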