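import Cfsg.Agent.Lib.FT.BG13.TauThree

/-!
BG 14.2 for a prime in `κ(M) ∩ τ₃(M)`: the whole complement is the `κ(M)`-part, and all of its
subgroups of prime order have the same fixed points in `M_σ`.
-/

set_option autoImplicit false
set_option linter.style.haveILetI false
set_option linter.unusedSectionVars false

universe u

namespace CfsgLib.FT.BG13

open Cfsg CfsgLib.OddOrder CfsgLib.Techniques _root_.Subgroup
open scoped commutatorElement

variable {G : Type u} [Group G] [Finite G]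
variable (hU : Upstream.{u}) (hG : IsMinSimpleOddOrder G) {M : Subgroup G} (hM : IsCoatom M)
variable {E L P R : Subgroup G} {p r : ℕ}

include hU hG hM in
/-- Every subgroup of prime order of the complement centralises `P`. -/
theorem prime_le_centralizer [hp : Fact p.Prime] [hr : Fact r.Prime] (D : KPair M L)
    (hp3 : p ∈ tau3 M) (hE : IsComplIn E (sigmaCore M) M) (hEL : E ≤ L) (hP : Nat.card P = p)
    (hPE : P ≤ E) (hPH : P ≤ sigmaCore L ⊓ M) (hR : Nat.card R = r) (hRE : R ≤ E) :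
    R ≤ centralizer (P : Set G) := by
  by_contra hnc
  have hL := D.maxL
  have hRM : R ≤ M := hRE.trans hE.1
  have hRL : R ≤ L := hRE.trans hEL
  have hEP := compl_le_normalizer_of_tau3 hU hG hM hp3 hE hPE hP
  have hbot : sigmaCore M ⊓ L ⊓ centralizer (R : Set G) = ⊥ := by
    by_contra h
    exact hnc (fix_le_centralizer hU hG hM D hp3 hE hEL hP hPE hPH hR hRE h)
  have hn2 := not_tau2_of_compl_le hU hG hM hE hL D.ne hEL D.left_ne
  have hrσ : r ∉ sigma M := compl_primes hU hG hM hE hr.out (hR ▸ card_dvd_of_le hRE)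
  have hCM := fix_ne_bot_of_moves hU hG hM D hE hEL hP hPE hPH hR hRE (hRE.trans hEP) hnc
  have hrtM := (tau_cases hU hG hM (hR ▸ card_dvd_of_le hRM) hrσ).resolve_right (hn2 r)
  -- the other side
  set H := sigmaCore M ⊓ L with hHdef
  have hrL : r ∉ sigma L := fun h => by
    have hc := commutator_eq_bot_iff_le_centralizer.1 (D.commutator_eq_bot hU hG)
    have hRH : R ≤ sigmaCore L ⊓ M :=
      le_inf (pGroup_le_sigmaCore hU hG hL h (isPGroup_of_card_prime hR) hRL) hRM
    rw [inf_eq_left.2 (hc.trans (centralizer_le hRH))] at hbot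
    exact D.left_ne hbot
  have hRHn : R ≤ normalizer (H : Set G) := CfsgLib.Coprime.le_normalizer_inf_inf
    (hRM.trans (le_normalizer_sigmaCore M)) (hRL.trans le_normalizer)
  obtain ⟨q, hq, hqd, -⟩ := exists_card_prime D.left_ne
  haveI := Fact.mk hq
  obtain ⟨Q', hQn⟩ := CfsgLib.Coprime.exists_invariant_sylow (p := q) hRHn
    ((coprime_of_le_compl hU hG hM hE hRE).coprime_dvd_right (card_dvd_of_le inf_le_left))
    (Or.inr (minSimple_solvable hG (ne_top_of_le_maximal hM (inf_le_left.trans (sigmaCore_le M)))))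
  have hQ : SylIn q ((Q' : Subgroup H).map H.subtype) H := sylIn_sylow_map Q'
  obtain ⟨q', hq', hqd', X, hXQ, hX⟩ := exists_card_prime (sylIn_ne_bot hQ hqd)
  obtain rfl : q' = q := eq_of_dvd_card_pGroup hQ.isPGroup hq' hqd'
  have hXH : X ≤ H := hXQ.trans hQ.le
  obtain ⟨hqk, hXN, -, -⟩ := D.left q' X hX hXH
  have hqt := tau13_of_kappa hU hG hL hqk
  have hXL : X ≤ L := hXH.trans inf_le_right
  have hXn : R ≤ normalizer (X : Set G) := le_normalizer_of_isCyclic
    (isCyclic_of_pGroup_le hG hqt.2.2.2 (hQ.le.trans inf_le_right) hQ.isPGroup) hXQ hQn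
  have hncX : ¬ R ≤ centralizer (X : Set G) := fun h =>
    ne_bot_of_card_prime hX (le_bot_iff.1 (hbot ▸ le_inf hXH (le_centralizer_iff.1 h)))
  have hXd : X ≤ ⁅L, L⁆ := by
    rw [← commutator_eq_of_card_prime hX hXn hncX]
    exact commutator_mono hXL hRL
  have hq3 : q' ∈ tau3 L := ⟨hq, hqt.2.1, hX ▸ card_dvd_of_le hXd, hqt.2.2.2⟩
  obtain ⟨E', hE', hle⟩ := exists_compl_ge hU hG hL (sup_le hRL hXL) fun t ht hd => by
    rcases ht.dvd_mul.1 (hd.trans (CfsgLib.Coprime.card_sup_dvd hXn)) with h | h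
    · exact eq_of_dvd_card_pGroup (isPGroup_of_card_prime hR) ht h ▸ hrL
    · exact eq_of_dvd_card_pGroup (isPGroup_of_card_prime hX) ht h ▸ hqt.2.1
  have hXE' : X ≤ E' := le_sup_right.trans hle
  have hRE' : R ≤ E' := le_sup_left.trans hle
  have hE'M : E' ≤ M := (compl_le_normalizer_of_tau3 hU hG hL hq3 hE' hXE' hX).trans hXN
  have hbot' : sigmaCore L ⊓ M ⊓ centralizer (R : Set G) = ⊥ := by
    by_contra h
    exact hncX (fix_le_centralizer hU hG hL D.symm hq3 hE' hE'M hX hXE' hXH hR hRE' h)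
  have hCL := fix_ne_bot_of_moves hU hG hL D.symm hE' hE'M hX hXE' hXH hR hRE' hXn hncX
  have hn2L := not_tau2_of_compl_le hU hG hL hE' hM D.symm.ne hE'M D.right_ne
  have hrtL := (tau_cases hU hG hL (hR ▸ card_dvd_of_le hRL) hrL).resolve_right (hn2L r)
  have hrkM := mem_kappa_of hU hG hM hrtM hR hRM hCM
  have hrkL := mem_kappa_of hU hG hL hrtL hR hRL hCL
  -- the common partner of `R`
  obtain ⟨N, hN, hRN⟩ := exists_maximal_normalizer hG (isPGroup_of_card_prime hR)
    (ne_bot_of_card_prime hR)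
  obtain ⟨DM, -⟩ := exists_pair hU hG hM hrkM hR hRM hN hRN
  obtain ⟨DL, -⟩ := exists_pair hU hG hL hrkL hR hRL hN hRN
  obtain ⟨s, hs, -, X', hX'C, hX'⟩ := exists_card_prime hCM
  obtain ⟨t, ht, -, Y, hYC, hY⟩ := exists_card_prime hCL
  haveI := Fact.mk hs
  haveI := Fact.mk ht
  have hCN : centralizer (R : Set G) ≤ N := centralizer_le_of_normalizer_le hRN
  obtain ⟨hsk, hX'M, -, -⟩ :=
    DM.left s X' hX' (le_inf (hX'C.trans inf_le_left) ((hX'C.trans inf_le_right).trans hCN))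
  obtain ⟨htk, hYL, -, -⟩ :=
    DL.left t Y hY (le_inf (hYC.trans inf_le_left) ((hYC.trans inf_le_right).trans hCN))
  have hsM : s ∈ sigma M :=
    sigmaCore_primes hU hG hM hs (hX' ▸ card_dvd_of_le (hX'C.trans inf_le_left))
  have htL : t ∈ sigma L :=
    sigmaCore_primes hU hG hL ht (hY ▸ card_dvd_of_le (hYC.trans inf_le_left))
  have hst : s ≠ t := fun e => by
    obtain ⟨g, hg⟩ := sigma_disjoint hU hG hM hL hsM (e ▸ htL)
    exact D.nconj g hg
  -- a Hall `{s, t}`-subgroup of `C(R)`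
  set C := centralizer (R : Set G) with hCdef
  haveI : Group.IsSolvable C := minSimple_solvable hG (ne_top_of_le_maximal hN hCN)
  have hD := CfsgLib.Coprime.hallD_of_solvable (G := C) ({s, t} : Set ℕ)
  have hX'C' : X' ≤ C := hX'C.trans inf_le_right
  have hYC' : Y ≤ C := hYC.trans inf_le_right
  obtain ⟨H₀', hH₀', hX'H⟩ := hD.exists_le (U := X'.subgroupOf C) fun u hu hd =>
    Or.inl (eq_of_dvd_card_pGroup (isPGroup_of_card_prime hX') hu
      (by rwa [CfsgLib.Base.card_subgroupOf hX'C'] at hd))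
  obtain ⟨c, hc⟩ := hD.conj_le (U := Y.subgroupOf C) (fun u hu hd =>
    Or.inr (eq_of_dvd_card_pGroup (isPGroup_of_card_prime hY) hu
      (by rwa [CfsgLib.Base.card_subgroupOf hYC'] at hd))) hH₀'
  set H₀ := H₀'.map C.subtype with hH₀def
  have hH₀ := CfsgLib.Coprime.piHallOf_map_subtype hH₀'
  have hX'H₀ : X' ≤ H₀ := by
    rw [← map_subgroupOf_eq_of_le hX'C']
    exact map_mono hX'H
  have hYH₀ : cj (c : G) Y ≤ H₀ := by
    rw [← map_subgroupOf_eq_of_le hYC']
    rintro _ ⟨_, ⟨y, hy, rfl⟩, rfl⟩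
    exact ⟨c * y * c⁻¹, hc ⟨y, hy, rfl⟩, by simp⟩
  have hcR : (c : G) ∈ centralizer (R : Set G) := c.2
  have hY' : Nat.card ↥(cj (c : G) Y) = t := (card_cj (c : G) Y).trans hY
  have hst' : ∀ u : ℕ, u.Prime → u ∣ Nat.card H₀ → u = s ∨ u = t := fun u hu hd =>
    hH₀.2.1 u hu hd
  have hcyc : ∀ u : ℕ, u.Prime → Tau13 N u → ∀ T : Subgroup G, T ≤ H₀ → IsPGroup u T →
      IsCyclic T := fun u hu hut T hT hTp =>
    haveI := Fact.mk hu
    isCyclic_of_pGroup_le hG hut.2.2.2 ((hT.trans hH₀.1).trans hCN) hTp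
  have hsN := tau13_of_kappa hU hG hN hsk
  have htN := tau13_of_kappa hU hG hN htk
  rcases lt_or_gt_of_ne hst with hlt | hlt
  · have hn := le_normalizer_of_two_primes hlt hst' (hcyc s hs hsN) (hcyc t ht htN)
      (hX' ▸ card_dvd_of_le hX'H₀) hY' hYH₀
    have h1 : X' ≤ cj (c : G) L := by
      refine (hX'H₀.trans hn).trans ?_
      rw [← cj_normalizer]
      exact cj_mono hYL
    have h2 : cj (c : G)⁻¹ X' ≤ L := by
      rw [← cj_inv_cj (c : G) L]
      exact cj_mono h1
    exact side_fix_ne_bot hU hG hM hL D.nconj hE' hE'M hR hRE'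
      ((card_cj (c : G)⁻¹ X').trans hX') hsM h2
      (cj_le_iff.2 fun x hx => mul_mem (mul_mem (inv_mem hcR) (hX'C' hx)) (inv_mem (inv_mem hcR)))
      hbot
  · have hn := le_normalizer_of_two_primes hlt (fun u hu hd => (hst' u hu hd).symm)
      (hcyc t ht htN) (hcyc s hs hsN) (hY' ▸ card_dvd_of_le hYH₀) hX' hX'H₀
    exact side_fix_ne_bot hU hG hL hM D.symm.nconj hE hEL hR hRE hY' htL
      ((hYH₀.trans hn).trans hX'M)
      (cj_le_iff.2 fun x hx => mul_mem (mul_mem hcR (hYC' hx)) (inv_mem hcR)) hbot'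

include hU hG hM in
/-- Every subgroup of prime order of the complement centralises `M_σ ∩ M*`. -/
theorem side_le_centralizer [hp : Fact p.Prime] [hr : Fact r.Prime] (D : KPair M L)
    (hp3 : p ∈ tau3 M) (hE : IsComplIn E (sigmaCore M) M) (hEL : E ≤ L) (hP : Nat.card P = p)
    (hPE : P ≤ E) (hPH : P ≤ sigmaCore L ⊓ M) (hR : Nat.card R = r) (hRE : R ≤ E) :
    sigmaCore M ⊓ L ≤ centralizer (R : Set G) := by
  have hL := D.maxL
  have hRM : R ≤ M := hRE.trans hE.1
  have hRL : R ≤ L := hRE.trans hEL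
  by_cases hrL : r ∈ sigma L
  · exact (commutator_eq_bot_iff_le_centralizer.1 (D.commutator_eq_bot hU hG)).trans
      (centralizer_le (le_inf (pGroup_le_sigmaCore hU hG hL hrL (isPGroup_of_card_prime hR) hRL)
        hRM))
  set H := sigmaCore M ⊓ L with hHdef
  have hRHn : R ≤ normalizer (H : Set G) := CfsgLib.Coprime.le_normalizer_inf_inf
    (hRM.trans (le_normalizer_sigmaCore M)) (hRL.trans le_normalizer)
  have hcop : (Nat.card R).Coprime (Nat.card H) :=
    (coprime_of_le_compl hU hG hM hE hRE).coprime_dvd_right (card_dvd_of_le inf_le_left)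
  refine le_of_sylows fun q hq hqd => ?_
  haveI := Fact.mk hq
  obtain ⟨Q', hQn⟩ := CfsgLib.Coprime.exists_invariant_sylow (p := q) hRHn hcop
    (Or.inr (minSimple_solvable hG (ne_top_of_le_maximal hM (inf_le_left.trans (sigmaCore_le M)))))
  set Q := (Q' : Subgroup H).map H.subtype with hQdef
  have hQ : SylIn q Q H := sylIn_sylow_map Q'
  refine ⟨Q, hQ, ?_⟩
  obtain ⟨q', hq', hqd', X, hXQ, hX⟩ := exists_card_prime (sylIn_ne_bot hQ hqd)
  obtain rfl : q' = q := eq_of_dvd_card_pGroup hQ.isPGroup hq' hqd'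
  have hXH : X ≤ H := hXQ.trans hQ.le
  obtain ⟨hqk, hXN, -, -⟩ := D.left q' X hX hXH
  have hqt := tau13_of_kappa hU hG hL hqk
  have hXL : X ≤ L := hXH.trans inf_le_right
  have hQc := isCyclic_of_pGroup_le hG hqt.2.2.2 (hQ.le.trans inf_le_right) hQ.isPGroup
  have hXn : R ≤ normalizer (X : Set G) := le_normalizer_of_isCyclic hQc hXQ hQn
  refine le_centralizer_iff.1 (le_centralizer_of_cyclic_pGroup hQ.isPGroup hQc hQn
    (hcop.coprime_dvd_right (card_dvd_of_le hQ.le)) fun hbot => ?_)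
  have hncX : ¬ R ≤ centralizer (X : Set G) := fun h =>
    ne_bot_of_card_prime hX (le_bot_iff.1 (hbot ▸ le_inf hXQ (le_centralizer_iff.1 h)))
  have hXd : X ≤ ⁅L, L⁆ := by
    rw [← commutator_eq_of_card_prime hX hXn hncX]
    exact commutator_mono hXL hRL
  have hq3 : q' ∈ tau3 L := ⟨hq, hqt.2.1, hX ▸ card_dvd_of_le hXd, hqt.2.2.2⟩
  obtain ⟨E', hE', hle⟩ := exists_compl_ge hU hG hL (sup_le hRL hXL) fun t ht hd => by
    rcases ht.dvd_mul.1 (hd.trans (CfsgLib.Coprime.card_sup_dvd hXn)) with h | h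
    · exact eq_of_dvd_card_pGroup (isPGroup_of_card_prime hR) ht h ▸ hrL
    · exact eq_of_dvd_card_pGroup (isPGroup_of_card_prime hX) ht h ▸ hqt.2.1
  have hXE' : X ≤ E' := le_sup_right.trans hle
  exact hncX (prime_le_centralizer hU hG hL D.symm hq3 hE'
    ((compl_le_normalizer_of_tau3 hU hG hL hq3 hE' hXE' hX).trans hXN) hX hXE' hXH hR
    (le_sup_left.trans hle))

include hU hG hM in
/-- BG 14.2 in the case `p ∈ κ(M) ∩ τ₃(M)`. -/
theorem tau3_kappa_prime [hp : Fact p.Prime] [hr : Fact r.Prime] (hpk : p ∈ kappa M)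
    (hp3 : p ∈ tau3 M) (hE : IsComplIn E (sigmaCore M) M) (hP : Nat.card P = p) (hPE : P ≤ E)
    (hR : Nat.card R = r) (hRE : R ≤ E) :
    r ∈ kappa M ∧
      sigmaCore M ⊓ centralizer (R : Set G) = sigmaCore M ⊓ centralizer (P : Set G) := by
  have hPM : P ≤ M := hPE.trans hE.1
  have hRM : R ≤ M := hRE.trans hE.1
  obtain ⟨L, hL, hNL⟩ := exists_maximal_normalizer hG (isPGroup_of_card_prime hP)
    (ne_bot_of_card_prime hP)
  obtain ⟨D, hPH⟩ := exists_pair hU hG hM hpk hP hPM hL hNL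
  have hEL : E ≤ L := (compl_le_normalizer_of_tau3 hU hG hM hp3 hE hPE hP).trans hNL
  have hHP : sigmaCore M ⊓ L = sigmaCore M ⊓ centralizer (P : Set G) :=
    (D.right p P hP hPH).2.2.2.symm
  have hRP := prime_le_centralizer hU hG hM D hp3 hE hEL hP hPE hPH hR hRE
  have hHR := side_le_centralizer hU hG hM D hp3 hE hEL hP hPE hPH hR hRE
  have hrσ : r ∉ sigma M := compl_primes hU hG hM hE hr.out (hR ▸ card_dvd_of_le hRE)
  obtain ⟨q, hq, -, X, hXH, hX⟩ := exists_card_prime D.left_ne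
  haveI := Fact.mk hq
  have hrk : r ∈ kappa M := D.kappa_of_fix hU hG hR hRM (hRE.trans hEL) hrσ hX hXH hP hPH
    (le_centralizer_iff.1 (hXH.trans hHR)) hRP
  refine ⟨hrk, le_antisymm (le_inf inf_le_left ?_) ?_⟩
  · rcases tau13_iff.1 (tau13_of_kappa hU hG hM hrk) with h1 | h3
    · exact centralizer_le_centralizer hU hG hM h1 hR hRM hP hPM (le_centralizer_iff.1 hRP)
        (compl_primes hU hG hM hE hp.out (hP ▸ card_dvd_of_le hPE))
    · obtain ⟨N, hN, hNN⟩ := exists_maximal_normalizer hG (isPGroup_of_card_prime hR)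
        (ne_bot_of_card_prime hR)
      obtain ⟨D', hRH'⟩ := exists_pair hU hG hM hrk hR hRM hN hNN
      rw [(D'.right r R hR hRH').2.2.2]
      exact side_le_centralizer hU hG hM D' h3 hE
        ((compl_le_normalizer_of_tau3 hU hG hM h3 hE hRE hR).trans hNN) hR hRE hRH' hP hPE
  · rw [← hHP]
    exact le_inf inf_le_left hHR

end CfsgLib.FT.BG13
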