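import Cfsg.Agent.Lib.FT.BG13.Support
import Cfsg.Agent.Lib.FT.Transport

/-!
BG 14.5: the cosets `x R(x)`, `x ∈ M_σ`, and the size of their union of conjugates.
-/

set_option autoImplicit false
set_option linter.style.haveILetI false
set_option linter.unusedSectionVars false

universe u

namespace CfsgLib.FT.BG13

open Cfsg CfsgLib.OddOrder CfsgLib.Techniques _root_.Subgroup
open scoped commutatorElement

variable {G : Type u} [Group G] [Finite G]

/-- The part of an element for a set of primes is unique. -/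
theorem part_unique {π : Set ℕ} {a b c d : G} (hab : Commute a b) (hcd : Commute c d)
    (h : a * b = c * d) (ha : ∀ p : ℕ, p.Prime → p ∣ orderOf a → p ∈ π)
    (hb : ∀ p : ℕ, p.Prime → p ∣ orderOf b → p ∉ π)
    (hc : ∀ p : ℕ, p.Prime → p ∣ orderOf c → p ∈ π)
    (hd : ∀ p : ℕ, p.Prime → p ∣ orderOf d → p ∉ π) : a = c := by
  set N := orderOf b * orderOf d with hN
  have h1 : a ^ N = c ^ N := by
    have hbN : b ^ N = 1 := by rw [hN, pow_mul, pow_orderOf_eq_one, one_pow]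
    have hdN : d ^ N = 1 := by rw [hN, mul_comm, pow_mul, pow_orderOf_eq_one, one_pow]
    calc a ^ N = (a * b) ^ N := by rw [hab.mul_pow, hbN, mul_one]
      _ = (c * d) ^ N := by rw [h]
      _ = c ^ N := by rw [hcd.mul_pow, hdN, mul_one]
  have hcop : ∀ e : G, (∀ p : ℕ, p.Prime → p ∣ orderOf e → p ∈ π) → N.Coprime (orderOf e) :=
    fun e he => Nat.coprime_of_dvd fun p hp hpN hpe => by
      rcases hp.dvd_mul.1 hpN with h' | h'
      · exact hb p hp h' (he p hp hpe)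
      · exact hd p hp h' (he p hp hpe)
  obtain ⟨m, hm⟩ := exists_pow_eq_self_of_coprime (hcop a ha)
  obtain ⟨n, hn⟩ := exists_pow_eq_self_of_coprime (hcop c hc)
  have hac : Commute a c := by
    rw [← hm, ← hn, h1]
    exact (Commute.refl (c ^ N)).pow_pow m n
  have h3 : (a⁻¹ * c) ^ N = 1 := by
    rw [hac.inv_left.mul_pow, inv_pow, h1, inv_mul_cancel]
  have h4 : (a⁻¹ * c) ^ (orderOf a * orderOf c) = 1 := by
    rw [hac.inv_left.mul_pow, inv_pow, pow_mul, pow_orderOf_eq_one, one_pow, mul_comm, pow_mul,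
      pow_orderOf_eq_one, one_pow, inv_one, one_mul]
  have h5 := pow_gcd_eq_one.2 ⟨h3, h4⟩
  rw [Nat.Coprime.gcd_eq_one ((hcop a ha).mul_right (hcop c hc)), pow_one, inv_mul_eq_one] at h5
  exact h5

variable (hU : Upstream.{u}) (hG : IsMinSimpleOddOrder G) {M : Subgroup G} (hM : IsCoatom M)

include hU hG hM in
theorem orderOf_sigmaCore {x : G} (hx : x ∈ sigmaCore M) {p : ℕ} (hp : p.Prime)
    (hd : p ∣ orderOf x) : p ∈ sigma M :=
  sigmaCore_primes hU hG hM hp (hd.trans (orderOf_dvd_natCard _ hx))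

include hU hG in
theorem sigma_eq_of_mem {M N : Subgroup G} (hM : IsCoatom M) (hN : IsCoatom N) {p : ℕ}
    (h1 : p ∈ sigma M) (h2 : p ∈ sigma N) : sigma N = sigma M := by
  obtain ⟨g, rfl⟩ := sigma_disjoint hU hG hM hN h1 h2
  exact sigma_cj g M

include hU hG hM in
theorem commute_supportR {x r : G} (hx : x ∈ sigmaCore M) (hx1 : x ≠ 1)
    (hr : r ∈ supportR M x) : Commute x r := by
  rcases supportR_mem hU hG hM hx hx1 hr with rfl | ⟨N, -, h⟩
  · exact Commute.one_right _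
  · exact (mem_centralizer_singleton'.1 (mem_inf.1 h).2).symm

include hU hG hM in
theorem supportR_prime_not_sigma {x r : G} (hx : x ∈ sigmaCore M) (hx1 : x ≠ 1)
    (hr : r ∈ supportR M x) {p : ℕ} (hp : p.Prime) (hd : p ∣ orderOf r) : p ∉ sigma M := by
  rcases supportR_mem hU hG hM hx hx1 hr with rfl | ⟨N, D, h⟩
  · rw [orderOf_one] at hd
    exact absurd (Nat.dvd_one.1 hd) hp.ne_one
  · intro hpM
    obtain ⟨g, hg⟩ := sigma_disjoint hU hG hM D.maxN hpM
      (orderOf_sigmaCore hU hG D.maxN (mem_inf.1 h).1 hp hd)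
    exact D.nconj g hg

include hU hG in
/-- In an equality `x r = y s` with different classes the `σ(N)`-part of `x r` comes from `r`. -/
theorem support_class {M N : Subgroup G} (hM : IsCoatom M) (hN : IsCoatom N) {x y r s : G}
    (hx : x ∈ sigmaCore M) (hy : y ∈ sigmaCore N) (hx1 : x ≠ 1) (hy1 : y ≠ 1)
    (hr : r ∈ supportR M x) (hs : s ∈ supportR N y) (h : x * r = y * s)
    (hdisj : ∀ p : ℕ, p ∈ sigma M → p ∉ sigma N) :
    ∃ L : Subgroup G, SupportData M L x ∧ r ∈ sigmaCore L ⊓ centralizer ({x} : Set G) ∧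
      sigma L = sigma N := by
  have hys := commute_supportR hU hG hN hy hy1 hs
  have hyN : ∀ p : ℕ, p.Prime → p ∣ orderOf y → p ∈ sigma N := fun p hp hd =>
    orderOf_sigmaCore hU hG hN hy hp hd
  have hsN : ∀ p : ℕ, p.Prime → p ∣ orderOf s → p ∉ sigma N := fun p hp hd =>
    supportR_prime_not_sigma hU hG hN hy hy1 hs hp hd
  have h1 : ∀ p : ℕ, p.Prime → p ∣ orderOf (1 : G) → p ∈ sigma N := fun p hp hd => by
    rw [orderOf_one] at hd
    exact absurd (Nat.dvd_one.1 hd) hp.ne_one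
  have hxN : ∀ p : ℕ, p.Prime → p ∣ orderOf x → p ∉ sigma N := fun p hp hd =>
    hdisj p (orderOf_sigmaCore hU hG hM hx hp hd)
  rcases supportR_mem hU hG hM hx hx1 hr with rfl | ⟨L, D, hrL⟩
  · exact absurd (part_unique (π := sigma N) hys (Commute.one_left x)
      (by rw [← h, mul_one, one_mul]) hyN hsN h1 hxN) hy1
  refine ⟨L, D, hrL, ?_⟩
  by_contra hne
  refine hy1 (part_unique (π := sigma N) hys (Commute.one_left (x * r))
    (by rw [one_mul, h]) hyN hsN h1 fun p hp hd hpN => ?_)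
  rcases hp.dvd_mul.1 (hd.trans ((commute_supportR hU hG hM hx hx1 hr).orderOf_mul_dvd_mul_orderOf))
    with h' | h'
  · exact hxN p hp h' hpN
  · exact hne (sigma_eq_of_mem hU hG hN D.maxN hpN
      (orderOf_sigmaCore hU hG D.maxN (mem_inf.1 hrL).1 hp h'))

include hU in
theorem stmtS1433_of : StmtS1433.{u} := by
  intro G _ _ hG M N hM hN x y hx hy hx1 hy1 hxy r hr s hs h
  have hxr := commute_supportR hU hG hM hx hx1 hr
  have hys := commute_supportR hU hG hN hy hy1 hs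
  by_cases hmeet : ∃ p, p ∈ sigma M ∧ p ∈ sigma N
  · obtain ⟨p, h1, h2⟩ := hmeet
    have he := sigma_eq_of_mem hU hG hM hN h1 h2
    exact hxy (part_unique (π := sigma M) hxr hys h
      (fun p hp hd => orderOf_sigmaCore hU hG hM hx hp hd)
      (fun p hp hd => supportR_prime_not_sigma hU hG hM hx hx1 hr hp hd)
      (fun p hp hd => he ▸ orderOf_sigmaCore hU hG hN hy hp hd)
      (fun p hp hd => he ▸ supportR_prime_not_sigma hU hG hN hy hy1 hs hp hd))
  push Not at hmeet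
  obtain ⟨L, DL, hrL, hL⟩ := support_class hU hG hM hN hx hy hx1 hy1 hr hs h hmeet
  obtain ⟨L', DL', hsL, hL'⟩ := support_class hU hG hN hM hy hx hy1 hx1 hs hr h.symm
    fun p h1 h2 => hmeet p h2 h1
  have hry : r = y := part_unique (π := sigma N) hxr.symm hys (by rw [← hxr.eq, h])
    (fun p hp hd => hL ▸ orderOf_sigmaCore hU hG DL.maxN (mem_inf.1 hrL).1 hp hd)
    (fun p hp hd => hmeet p (orderOf_sigmaCore hU hG hM hx hp hd))
    (fun p hp hd => orderOf_sigmaCore hU hG hN hy hp hd)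
    (fun p hp hd => supportR_prime_not_sigma hU hG hN hy hy1 hs hp hd)
  obtain ⟨p, hp, hd, -⟩ := exists_prime_le_zpowers hy1
  have hyL : y ∈ sigmaCore L := hry ▸ (mem_inf.1 hrL).1
  obtain ⟨g, hg⟩ := sigma_disjoint hU hG hN DL.maxN (orderOf_sigmaCore hU hG hN hy hp hd)
    (hL.symm ▸ orderOf_sigmaCore hU hG hN hy hp hd)
  change L = cj g N at hg
  obtain ⟨c, hc, hce⟩ := exists_supportR_cj hU hG hN hy hy1 (g := g)
    (hg ▸ sigmaCore_le L hyL)
  rw [← hg] at hce
  have hxs : x = s := mul_left_cancel (a := y) (by rw [← h, hxr.eq, hry])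
  have hyN' : ¬ centralizer ({y} : Set G) ≤ N := fun hle => by
    rw [supportR_eq_bot hle, mem_bot] at hs
    exact hx1 (hxs.trans hs)
  rw [DL'.supportR_eq hU hG hN hyN'] at hc
  have hcσ := (mem_inf.1 hc).1
  have hxσ : x ∈ sigmaCore L' := hxs ▸ (mem_inf.1 hsL).1
  have hxL : x ∈ cj c N := hce.symm ▸ DL.le (mem_centralizer_singleton'.2 rfl)
  have h0 : c⁻¹ * x * c ∈ (N ⊓ L') ⊓ sigmaCore L' :=
    mem_inf.2 ⟨mem_inf.2 ⟨mem_cj.1 hxL, sigmaCore_le L' (mul_mem (mul_mem (inv_mem hcσ) hxσ) hcσ)⟩,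
      mul_mem (mul_mem (inv_mem hcσ) hxσ) hcσ⟩
  rw [DL'.compl.2.2.1, mem_bot] at h0
  exact hx1 (by simpa [mul_assoc] using congrArg (fun z => c * z * c⁻¹) h0)

/-! ### The size of `Ã` -/

theorem sigmaCore_cj (g : G) (M : Subgroup G) : sigmaCore (cj g M) = cj g (sigmaCore M) :=
  map_sigmaCore (MulAut.conj g) M

theorem supportR_cj (g : G) (M : Subgroup G) (x : G) :
    supportR (cj g M) (g * x * g⁻¹) = cj g (supportR M x) :=
  CfsgLib.FT.Subgroup.map_supportR (MulAut.conj g) M x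

include hU hG hM in
/-- `R(x)` does not depend on the conjugate of `M` containing `x`. -/
theorem supportR_eq_cj {x : G} (hx : x ∈ sigmaCore M) (hx1 : x ≠ 1) {g : G} (hxg : x ∈ cj g M) :
    supportR (cj g M) x = supportR M x := by
  obtain ⟨r, hr, hre⟩ := exists_supportR_cj hU hG hM hx hx1 hxg
  rw [← hre]
  have hrC : r ∈ centralizer ({x} : Set G) :=
    mem_centralizer_singleton'.2 (commute_supportR hU hG hM hx hx1 hr).symm.eq
  by_cases hxM : centralizer ({x} : Set G) ≤ M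
  · rw [supportR_eq_bot hxM, mem_bot] at hr
    rw [hr, cj_one]
  have hiff : ¬ centralizer ({x} : Set G) ≤ cj r M := by
    intro h
    refine hxM ?_
    rw [← cj_inv_cj r M, ← cj_eq_self_of_mem (g := r⁻¹) (H := centralizer ({x} : Set G))
      (inv_mem hrC)]
    exact cj_mono h
  obtain ⟨N, D⟩ := exists_support hU hG hM hx hx1 hxM
  have h : ∃! L : Subgroup G, IsCoatom L ∧ centralizer ({x} : Set G) ≤ L :=
    ⟨N, ⟨D.maxN, D.le⟩, fun L hL => D.uniq L hL.1 hL.2⟩
  unfold supportR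
  rw [dif_pos ⟨hiff, h⟩, dif_pos ⟨hxM, h⟩]

include hG hM in
theorem card_conjugates :
    Nat.card {L : Subgroup G // ∃ g : G, L = cj g M} = M.index := by
  rw [index]
  symm
  refine Nat.card_eq_of_bijective
    (fun c : G ⧸ M => ⟨cj c.out M, c.out, rfl⟩) ⟨fun a b h => ?_, fun ⟨L, g, hL⟩ => ?_⟩
  · have h' : cj a.out M = cj b.out M := congrArg Subtype.val h
    rw [← QuotientGroup.out_eq' a, ← QuotientGroup.out_eq' b, QuotientGroup.eq]
    refine mem_maximal_of_cj_eq hG hM ?_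
    rw [cj_mul, ← h', cj_inv_cj]
  · refine ⟨(g : G ⧸ M), Subtype.ext ?_⟩
    change cj (g : G ⧸ M).out M = L
    obtain ⟨m, hm⟩ := QuotientGroup.mk_out_eq_mul M g
    rw [hm, hL, cj_mul, cj_eq_self_of_mem m.2]

include hU hG hM in
/-- BG 14.5 (c). -/
theorem ncard_tilde :
    Set.ncard (tildeOf M ((sigmaCore M : Set G) \ {1})) =
      (Nat.card (sigmaCore M) - 1) * M.index := by
  classical
  set A := Σ b : {b : G // ∃ h : G, b ∈ sigmaCore (cj h M) ∧ b ≠ 1},
    supportR (cj b.2.choose M) b.1 with hA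
  set B := Σ L : {L : Subgroup G // ∃ g : G, L = cj g M}, {b : G // b ∈ sigmaCore L.1 ∧ b ≠ 1}
    with hB
  -- independence of the conjugate
  have hsame : ∀ (b : {b : G // ∃ h : G, b ∈ sigmaCore (cj h M) ∧ b ≠ 1}) (g : G),
      b.1 ∈ cj g M → supportR (cj g M) b.1 = supportR (cj b.2.choose M) b.1 := by
    intro b g hg
    have he : cj g M = cj (g * b.2.choose⁻¹) (cj b.2.choose M) := by rw [cj_mul, cj_inv_cj]
    rw [he]
    exact supportR_eq_cj hU hG (isCoatom_cj hM _) b.2.choose_spec.1 b.2.choose_spec.2 (he ▸ hg)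
  -- the cosets
  have h1 : Set.ncard (tildeOf M ((sigmaCore M : Set G) \ {1})) = Nat.card A := by
    rw [← Nat.card_coe_set_eq]
    symm
    refine Nat.card_eq_of_bijective (fun p : A => ⟨p.1.1 * p.2.1, ?_⟩) ⟨?_, ?_⟩
    · obtain ⟨⟨b, hbe⟩, r, hr⟩ := p
      obtain ⟨hb, hb1⟩ := hbe.choose_spec
      change b * r ∈ tildeOf M _
      change r ∈ supportR (cj hbe.choose M) b at hr
      generalize hbe.choose = h at hb hr
      rw [sigmaCore_cj, mem_cj] at hb
      refine ⟨h⁻¹ * b * h, ⟨hb, fun e => hb1 ?_⟩, h⁻¹ * r * h, ?_, h, by group⟩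
      · simpa [mul_assoc] using congrArg (fun z => h * z * h⁻¹) (Set.mem_singleton_iff.1 e)
      · rw [show b = h * (h⁻¹ * b * h) * h⁻¹ by group, supportR_cj, mem_cj] at hr
        exact hr
    · rintro ⟨⟨b, hb⟩, r, hr⟩ ⟨⟨b', hb'⟩, r', hr'⟩ he
      have he' : b * r = b' * r' := congrArg Subtype.val he
      by_cases hbb : b = b'
      · subst hbb
        obtain rfl : r = r' := mul_left_cancel he'
        rfl
      · exact absurd he' (stmtS1433_of hU hG _ _ (isCoatom_cj hM hb.choose)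
          (isCoatom_cj hM hb'.choose) b b' hb.choose_spec.1 hb'.choose_spec.1 hb.choose_spec.2
          hb'.choose_spec.2 hbb r hr r' hr')
    · rintro ⟨g, a, ha, r, hr, y, rfl⟩
      have hya : y * a * y⁻¹ ∈ sigmaCore (cj y M) := by
        rw [sigmaCore_cj]
        exact conj_mem_cj.2 ha.1
      have hbe : ∃ h : G, y * a * y⁻¹ ∈ sigmaCore (cj h M) ∧ y * a * y⁻¹ ≠ 1 :=
        ⟨y, hya, fun e => ha.2 (Set.mem_singleton_iff.2 (conj_eq_one_iff.1 e))⟩
      refine ⟨⟨⟨y * a * y⁻¹, hbe⟩, y * r * y⁻¹, ?_⟩, Subtype.ext ?_⟩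
      · rw [← hsame ⟨_, hbe⟩ y (sigmaCore_le _ hya)]
        change y * r * y⁻¹ ∈ supportR (cj y M) (y * a * y⁻¹)
        rw [supportR_cj]
        exact conj_mem_cj.2 hr
      · change y * a * y⁻¹ * (y * r * y⁻¹) = y * (a * r) * y⁻¹
        group
  -- the pairs
  have h2 : Nat.card A = Nat.card B := by
    refine Nat.card_eq_of_bijective (fun p : A => (⟨⟨cj p.2.1 (cj p.1.2.choose M),
      p.2.1 * p.1.2.choose, (cj_mul _ _ _).symm⟩, ⟨p.1.1, ?_, p.1.2.choose_spec.2⟩⟩ : B)) ⟨?_, ?_⟩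
    · obtain ⟨⟨b, hbe⟩, r, hr⟩ := p
      obtain ⟨hb, hb1⟩ := hbe.choose_spec
      change b ∈ sigmaCore (cj r (cj hbe.choose M))
      rw [sigmaCore_cj, mem_cj]
      have hc := commute_supportR hU hG (isCoatom_cj hM _) hb hb1 hr
      rwa [mul_assoc, hc.eq, ← mul_assoc, inv_mul_cancel, one_mul]
    · rintro ⟨⟨b, hbe⟩, r, hr⟩ ⟨⟨b', hbe'⟩, r', hr'⟩ he
      obtain rfl : b = b' := congrArg (fun q : B => q.2.1) he
      have hL : cj r (cj hbe.choose M) = cj r' (cj hbe.choose M) :=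
        congrArg (fun q : B => q.1.1) he
      change r ∈ supportR (cj hbe.choose M) b at hr
      change r' ∈ supportR (cj hbe.choose M) b at hr'
      obtain ⟨hb, hb1⟩ := hbe.choose_spec
      obtain ⟨L₁, hL₁⟩ : ∃ L₁, L₁ = cj hbe.choose M := ⟨_, rfl⟩
      have hL₁m : IsCoatom L₁ := hL₁ ▸ isCoatom_cj hM _
      suffices r = r' by subst this; rfl
      rw [← hL₁] at hr hr' hb hL
      by_cases hbM : centralizer ({b} : Set G) ≤ L₁
      · rw [supportR_eq_bot hbM, mem_bot] at hr hr'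
        exact hr.trans hr'.symm
      obtain ⟨N, D⟩ := exists_support hU hG hL₁m hb hb1 hbM
      rw [D.supportR_eq hU hG hL₁m hbM] at hr hr'
      have h3 : r⁻¹ * r' ∈ (L₁ ⊓ N) ⊓ sigmaCore N := by
        have h4 := mul_mem (inv_mem hr) hr'
        refine mem_inf.2 ⟨mem_inf.2 ⟨mem_maximal_of_cj_eq hG hL₁m ?_,
          sigmaCore_le N (mem_inf.1 h4).1⟩, (mem_inf.1 h4).1⟩
        rw [cj_mul, ← hL, cj_inv_cj]
      rwa [D.compl.2.2.1, mem_bot, inv_mul_eq_one] at h3
    · rintro ⟨⟨L, g, rfl⟩, b, hb, hb1⟩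
      have hbe : ∃ h : G, b ∈ sigmaCore (cj h M) ∧ b ≠ 1 := ⟨g, hb, hb1⟩
      have hg : cj g M = cj (g * hbe.choose⁻¹) (cj hbe.choose M) := by rw [cj_mul, cj_inv_cj]
      obtain ⟨r, hr, hre⟩ := exists_supportR_cj hU hG (isCoatom_cj hM hbe.choose)
        hbe.choose_spec.1 hb1 (g := g * hbe.choose⁻¹) (hg ▸ sigmaCore_le _ hb)
      refine ⟨⟨⟨b, hbe⟩, r, hr⟩, ?_⟩
      rw [← hg] at hre
      refine Sigma.subtype_ext (Subtype.ext hre) rfl
  have h3 : Nat.card B = (Nat.card (sigmaCore M) - 1) * M.index := by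
    haveI : Fintype {L : Subgroup G // ∃ g : G, L = cj g M} := Fintype.ofFinite _
    rw [Nat.card_sigma]
    rw [Finset.sum_congr rfl fun L _ => ?_, Finset.sum_const, smul_eq_mul, mul_comm,
      Finset.card_univ, ← Nat.card_eq_fintype_card, card_conjugates hG hM]
    obtain ⟨g, hg⟩ := L.2
    rw [show ({b : G // b ∈ sigmaCore L.1 ∧ b ≠ 1}) = ↥((sigmaCore L.1 : Set G) \ {1}) from rfl,
      Nat.card_coe_set_eq, Set.ncard_sdiff_singleton_of_mem (one_mem _), ← Nat.card_coe_set_eq,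
      SetLike.coe_sort_coe, hg, sigmaCore_cj, card_cj]
  rw [h1, h2, h3]

include hU in
theorem stmtS1377_of : StmtS1377.{u} := by
  intro G _ _ hG M hM
  exact ncard_tilde hU hG hM

end CfsgLib.FT.BG13
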