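import Cfsg.Agent.Lib.FT.BG13.TauThreeMain
import Cfsg.Agent.Lib.Base.ThompsonFPF

/-!
BG 14.1 and 14.2: the structure of a maximal subgroup with `κ(M) ≠ ∅`.
-/

set_option autoImplicit false
set_option linter.style.haveILetI false
set_option linter.unusedSectionVars false

universe u

namespace CfsgLib.FT.BG13

open Cfsg CfsgLib.OddOrder CfsgLib.Techniques _root_.Subgroup
open scoped commutatorElement

variable {G : Type u} [Group G] [Finite G]

/-- `K* = C_{M_σ}(K)`. -/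
abbrev kstar (M K : Subgroup G) : Subgroup G := sigmaCore M ⊓ centralizer (K : Set G)

/-- The primes outside `σ(M) ∪ κ(M)`. -/
abbrev uPrimes (M : Subgroup G) : Set ℕ := {q | q.Prime ∧ q ∉ kappa M ∧ q ∉ sigma M}

/-- What BG 14.2 says about a complement `E = KU`. -/
structure KUData (M E K U : Subgroup G) : Prop where
  compl : IsComplIn E (sigmaCore M) M
  K_le : K ≤ E
  U_le : U ≤ E
  sup : K ⊔ U = E
  inf : U ⊓ K = ⊥
  hallU : IsPiHallOf (uPrimes M) U M
  normalU : E ≤ normalizer (U : Set G)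
  comm : IsMulCommutative U
  free : ∀ k ∈ K, k ≠ 1 → U ⊓ centralizer ({k} : Set G) = ⊥
  prime : ∀ k ∈ K, k ≠ 1 → sigmaCore M ⊓ centralizer ({k} : Set G) = kstar M K
  fixed : kstar M K ≠ ⊥
  normalY : ∀ Y : Subgroup G, Y ≤ K → (Nat.card Y).Prime → K ≤ normalizer (Y : Set G)
  cases : (IsCyclic K ∧ kappa M = tau1 M) ∨ (U = ⊥ ∧ ∃ p ∈ kappa M, p ∈ tau3 M)
  unique : ∀ (q : ℕ) [Fact q.Prime] (X : Subgroup G), Nat.card X = q → X ≤ kstar M K →
    q ∈ beta M ∨ X ≤ ⁅sigmaCore M, sigmaCore M⁆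

theorem exists_prime_zpowers {K : Subgroup G} {k : G} (hk : k ∈ K) (hk1 : k ≠ 1) :
    ∃ p : ℕ, p.Prime ∧ ∃ Y : Subgroup G, Y ≤ K ∧ Nat.card Y = p ∧
      centralizer ({k} : Set G) ≤ centralizer (Y : Set G) := by
  obtain ⟨p, hp, -, Y, hY, hYc⟩ := exists_card_prime (X := zpowers k)
    (fun h => hk1 (zpowers_eq_bot.1 h))
  refine ⟨p, hp, Y, hY.trans (zpowers_le.2 hk), hYc, ?_⟩
  rw [← centralizer_zpowers']
  exact centralizer_le hY

theorem dvd_card_of_le_prime {p : ℕ} {K Y : Subgroup G} (h : Nat.card Y = p) (hY : Y ≤ K) :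
    p ∣ Nat.card K :=
  h ▸ card_dvd_of_le hY

variable (hU : Upstream.{u}) (hG : IsMinSimpleOddOrder G) {M : Subgroup G} (hM : IsCoatom M)
variable {E K U : Subgroup G}

include hU hG hM in
/-- The case `κ(M) ⊆ τ₁(M)`. -/
theorem kuData_of_tau1 (hK : IsPiHallOf (kappa M) K M) (hK1 : K ≠ ⊥)
    (hE : IsComplIn E (sigmaCore M) M) (hKE : K ≤ E)
    (h3 : ∀ p ∈ kappa M, p ∉ tau3 M) : ∃ U : Subgroup G, KUData M E K U := by
  have hEs : Group.IsSolvable E := minSimple_solvable hG (ne_top_of_le_maximal hM hE.1)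
  have hk1 : ∀ p : ℕ, p.Prime → p ∈ kappa M → p ∈ tau1 M := fun p hp h => by
    haveI := Fact.mk hp
    exact (tau13_iff.1 (tau13_of_kappa hU hG hM h)).resolve_right (h3 p h)
  obtain ⟨p₀, hp₀, hp₀d, P₀, hP₀K, hP₀⟩ := exists_card_prime hK1
  haveI := Fact.mk hp₀
  have hp₀k : p₀ ∈ kappa M := hK.2.1 p₀ hp₀ hp₀d
  have hP₀M : P₀ ≤ M := hP₀K.trans hK.1
  have hfix₀ := fix_ne_bot_of_kappa hU hG hM hp₀k hP₀ hP₀M
  -- `κ = τ₁`
  have hκ : kappa M = tau1 M := by
    refine Set.Subset.antisymm (fun p hp => hk1 p hp.1 hp) fun r hr => ?_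
    haveI := Fact.mk hr.1
    haveI : Group.IsSolvable E := hEs
    obtain ⟨H, hH, hPH⟩ := (CfsgLib.Coprime.hallD_of_solvable (G := E) (tau1 M)).exists_le
      (U := P₀.subgroupOf E) fun t ht hd => eq_of_dvd_card_pGroup (isPGroup_of_card_prime hP₀) ht
        (by rwa [CfsgLib.Base.card_subgroupOf (hP₀K.trans hKE)] at hd) ▸ hk1 p₀ hp₀ hp₀k
    set E₁ := H.map E.subtype with hE₁def
    have hE₁ := CfsgLib.Coprime.piHallOf_map_subtype hH
    have hPE₁ : P₀ ≤ E₁ := by
      rw [← map_subgroupOf_eq_of_le (hP₀K.trans hKE)]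
      exact map_mono hPH
    obtain ⟨T, hT⟩ := exists_sylIn (p := r) E₁
    have hrE : r ∣ Nat.card E := dvd_sigmaCompl hE hr.2.1 hr.1 hr.2.2.1
    obtain ⟨r', hr', hrd, R, hRT, hR⟩ := exists_card_prime
      (sylIn_ne_bot (sylIn_of_hall' hE₁ hr hT) hrE)
    obtain rfl : r' = r := eq_of_dvd_card_pGroup hT.isPGroup hr' hrd
    have hC := centralizer_le_tau1Hall hU hG hM (hk1 p₀ hp₀ hp₀k) hP₀ hPE₁
      (hE₁.1.trans hE.1) ((hU.s1415 hG M hM E hE).2.1 E₁ hE₁) hE₁.2.1
    exact mem_kappa_of hU hG hM (tau13_of_tau1 hr) hR ((hRT.trans hT.le).trans (hE₁.1.trans hE.1))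
      fun h => hfix₀ (le_bot_iff.1 (h ▸ le_inf inf_le_left
        (hC.trans (centralizer_le (hRT.trans hT.le)))))
  have hKcyc : IsCyclic K := (hU.s1415 hG M hM E hE).2.1 K ⟨hKE, fun q hq hd => hκ ▸ hK.2.1 q hq hd,
    fun q hq h1 hd => hK.2.2 q hq (hκ ▸ h1)
      (hd.trans (Dvd.intro _ (relIndex_mul_relIndex K E M hKE hE.1)))⟩
  have hKC : ∀ (p : ℕ) [Fact p.Prime] (Y : Subgroup G), Y ≤ K → Nat.card Y = p →
      sigmaCore M ⊓ centralizer (Y : Set G) = kstar M K := fun p hp Y hYK hY =>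
    le_antisymm (le_inf inf_le_left (centralizer_le_tau1Hall hU hG hM
      (hk1 p hp.out (hK.2.1 p hp.out (dvd_card_of_le_prime hY hYK))) hY hYK hK.1 hKcyc
      fun t ht hd => hk1 t ht (hK.2.1 t ht hd))) (inf_le_inf_left _ (centralizer_le hYK))
  -- the normal Hall subgroup `U`
  haveI : Group.IsSolvable E := hEs
  have hEd : ∀ t : ℕ, t.Prime → t ∣ Nat.card ↥⁅E, E⁆ → t ∈ uPrimes M := by
    intro t ht hd
    refine ⟨ht, fun hk => (hκ ▸ hk : t ∈ tau1 M).2.2.2.1
        (hd.trans (card_dvd_of_le (commutator_mono hE.1 hE.1))), ?_⟩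
    exact compl_primes hU hG hM hE ht (hd.trans (card_dvd_of_le (commutator_le_self E)))
  obtain ⟨H, hH, hle⟩ := (CfsgLib.Coprime.hallD_of_solvable (G := E) (uPrimes M)).exists_le
    (U := ⁅E, E⁆.subgroupOf E) fun t ht hd => hEd t ht
      (by rwa [CfsgLib.Base.card_subgroupOf (commutator_le_self E)] at hd)
  set U := H.map E.subtype with hUdef
  have hUE := CfsgLib.Coprime.piHallOf_map_subtype hH
  have hdU : ⁅E, E⁆ ≤ U := by
    rw [← map_subgroupOf_eq_of_le (commutator_le_self E)]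
    exact map_mono hle
  have hUn : E ≤ normalizer (U : Set G) := by
    intro e he
    refine mem_normalizer_iff_cj.2 (Subgroup.eq_of_le_of_card_ge (cj_le_iff.2 fun x hx => ?_)
      (card_cj e U).ge)
    have h1 : e * x * e⁻¹ * x⁻¹ ∈ U := hdU (commutator_mem_commutator he (hUE.1 hx))
    simpa using mul_mem h1 hx
  have hUM : IsPiHallOf (uPrimes M) U M := by
    refine ⟨hUE.1.trans hE.1, hUE.2.1, fun q hq h1 hd => ?_⟩
    rw [← relIndex_mul_relIndex U E M hUE.1 hE.1] at hd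
    rcases hq.dvd_mul.1 hd with h | h
    · exact hUE.2.2 q hq h1 h
    · exact (compl_hall hU hG hM hE).2.2 q hq ⟨hq, h1.2.2⟩ h
  have hUK : U ⊓ K = ⊥ :=
    inf_eq_bot_of_primes (π := uPrimes M) hUE.2.1 fun q hq hd h => h.2.1 (hK.2.1 q hq hd)
  have hsup : K ⊔ U = E := by
    refine le_antisymm (sup_le hKE hUE.1) (le_of_sylows fun t ht hd => ?_)
    haveI := Fact.mk ht
    have htσ : t ∉ sigma M := compl_primes hU hG hM hE ht hd
    by_cases htk : t ∈ kappa M
    · obtain ⟨T, hT⟩ := exists_sylIn (p := t) K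
      exact ⟨T, (sylIn_of_hall' hK htk hT).mono (hT.le.trans hKE) hE.1, hT.le.trans le_sup_left⟩
    · obtain ⟨T, hT⟩ := exists_sylIn (p := t) U
      exact ⟨T, sylIn_of_hall' hUE ⟨ht, htk, htσ⟩ hT, hT.le.trans le_sup_right⟩
  have hfree : ∀ k ∈ K, k ≠ 1 → U ⊓ centralizer ({k} : Set G) = ⊥ := by
    intro k hk hk1'
    obtain ⟨p, hp, Y, hYK, hY, hkY⟩ := exists_prime_zpowers hk hk1'
    haveI := Fact.mk hp
    refine le_bot_iff.1 ((inf_le_inf_left _ hkY).trans (le_bot_iff.2 ?_))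
    by_contra hne
    obtain ⟨r, hr, -, R, hRU, hR⟩ := exists_card_prime hne
    haveI := Fact.mk hr
    have hru : r ∈ uPrimes M := hUE.2.1 r hr (dvd_card_of_le_prime hR (hRU.trans inf_le_left))
    have hpk : p ∈ kappa M := hK.2.1 p hp (dvd_card_of_le_prime hY hYK)
    have hYM : Y ≤ M := hYK.trans hK.1
    have hRM : R ≤ M := (hRU.trans inf_le_left).trans hUM.1
    have hRY : R ≤ centralizer (Y : Set G) := hRU.trans inf_le_right
    have hCR := centralizer_le_centralizer hU hG hM (hk1 p hp hpk) hY hYM hR hRM hRY hru.2.2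
    obtain ⟨L, hL, hN⟩ := exists_maximal_normalizer hG (isPGroup_of_card_prime hY)
      (ne_bot_of_card_prime hY)
    obtain ⟨D, hYH⟩ := exists_pair hU hG hM hpk hY hYM hL hN
    obtain ⟨q, hq, -, X, hX0, hX⟩ := exists_card_prime D.left_ne
    haveI := Fact.mk hq
    exact hru.2.1 (D.kappa_of_fix hU hG hR hRM (hRY.trans (centralizer_le_of_normalizer_le hN))
      hru.2.2 hX hX0 hY hYH
      (le_centralizer_iff.1 ((hX0.trans (D.right p Y hY hYH).2.2.2.ge).trans hCR)) hRY)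
  have hfix : kstar M K ≠ ⊥ := fun h => hfix₀ ((hKC p₀ P₀ hP₀K hP₀).trans h)
  refine ⟨U, hE, hKE, hUE.1, hsup, hUK, hUM, hUn, ?_, hfree, ?_, hfix,
    fun Y hY _ => le_normalizer_of_isCyclic hKcyc hY le_normalizer, Or.inl ⟨hKcyc, hκ⟩, ?_⟩
  · have hP₀n : P₀ ≤ normalizer (U : Set G) := (hP₀K.trans hKE).trans hUn
    refine (hU.s1420 hG M hM E hE).1 U hUM.1 (CfsgLib.Base.IsFPF.isNilpotent
      (A := P₀) ⟨hP₀n, fun a ha ha1 => hfree a (hP₀K ha) ha1⟩ (ne_bot_of_card_prime hP₀))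
      fun t ht hd => (hUE.2.1 t ht hd).2.2
  · intro k hk hk1'
    obtain ⟨p, hp, Y, hYK, hY, hkY⟩ := exists_prime_zpowers hk hk1'
    haveI := Fact.mk hp
    exact le_antisymm ((inf_le_inf_left _ hkY).trans (hKC p Y hYK hY).le)
      (inf_le_inf_left _ (centralizer_le (Set.singleton_subset_iff.2 hk)))
  · intro q hq X hX hXW
    exact beta_or_derived_of_tau1 hU hG hM (hk1 p₀ hp₀ hp₀k) hP₀ hP₀M hX
      (hXW.trans (inf_le_inf_left _ (centralizer_le hP₀K)))

include hU hG hM in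
/-- The case `κ(M) ∩ τ₃(M) ≠ ∅`. -/
theorem kuData_of_tau3 (hK : IsPiHallOf (kappa M) K M)
    (hE : IsComplIn E (sigmaCore M) M) (hKE : K ≤ E) {p : ℕ} (hpk : p ∈ kappa M)
    (hp3 : p ∈ tau3 M) : KUData M E K ⊥ := by
  haveI := Fact.mk hpk.1
  obtain ⟨T₀, hT₀⟩ := exists_sylIn (p := p) K
  obtain ⟨p', hp', hpd, P, hPT, hP⟩ := exists_card_prime
    (sylIn_ne_bot (sylIn_of_hall' hK hpk hT₀) hpk.2.1)
  obtain rfl : p' = p := eq_of_dvd_card_pGroup hT₀.isPGroup hp' hpd
  have hPE : P ≤ E := (hPT.trans hT₀.le).trans hKE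
  have hPM : P ≤ M := hPE.trans hE.1
  have hall : ∀ t : ℕ, t.Prime → t ∣ Nat.card E → t ∈ kappa M := by
    intro t ht hd
    haveI := Fact.mk ht
    obtain ⟨x, hx⟩ := exists_prime_orderOf_dvd_card' t hd
    exact (tau3_kappa_prime hU hG hM hpk hp3 hE hP hPE
      (R := zpowers (x : G)) (by rw [Nat.card_zpowers, orderOf_coe, hx]) (zpowers_le.2 x.2)).1
  have hEK : E ≤ K := le_of_sylows fun t ht hd => by
    haveI := Fact.mk ht
    obtain ⟨T, hT⟩ := exists_sylIn (p := t) K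
    exact ⟨T, (sylIn_of_hall' hK (hall t ht hd) hT).mono (hT.le.trans hKE) hE.1, hT.le⟩
  obtain rfl : K = E := le_antisymm hKE hEK
  set H := sigmaCore M ⊓ centralizer (P : Set G) with hHdef
  have hprime : ∀ (r : ℕ) [Fact r.Prime] (R : Subgroup G), Nat.card R = r → R ≤ K →
      sigmaCore M ⊓ centralizer (R : Set G) = H := fun r _ R hR hRE =>
    (tau3_kappa_prime hU hG hM hpk hp3 hE hP hPE hR hRE).2
  have hKH : K ≤ centralizer (H : Set G) := le_of_sylows fun t ht hd => by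
    haveI := Fact.mk ht
    obtain ⟨T, hT⟩ := exists_sylIn (p := t) K
    refine ⟨T, hT, le_centralizer_iff.1 ?_⟩
    obtain ⟨t', ht', htd, Y, hYT, hY⟩ := exists_card_prime (sylIn_ne_bot hT hd)
    obtain rfl : t' = t := eq_of_dvd_card_pGroup hT.isPGroup ht' htd
    rw [← hprime t' Y hY (hYT.trans hT.le)]
    exact centralizer_le_pGroup hU hG hM (tau13_of_kappa hU hG hM (hall t' ht hd)) hY hYT
      hT.isPGroup (hT.le.trans hK.1)
  have hkstar : kstar M K = H :=
    le_antisymm (inf_le_inf_left _ (centralizer_le hPE)) (le_inf inf_le_left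
      (le_centralizer_iff.1 hKH))
  have hHne := fix_ne_bot_of_kappa hU hG hM hpk hP hPM
  refine ⟨hE, le_rfl, bot_le, by rw [sup_bot_eq], bot_inf_eq _, ⟨bot_le, ?_, ?_⟩, ?_, inferInstance,
    fun _ _ _ => bot_inf_eq _, ?_, fun h => hHne (hkstar.symm.trans h), ?_, Or.inr ⟨rfl, p', hpk, hp3⟩, ?_⟩
  · intro t ht hd
    rw [card_bot] at hd
    exact absurd (Nat.dvd_one.1 hd) ht.ne_one
  · intro t ht h hd
    rw [relIndex_bot_left] at hd
    exact h.2.1 (hall t ht (dvd_sigmaCompl hE h.2.2 ht hd))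
  · intro e _
    rw [mem_normalizer_iff_cj, cj_bot]
  · intro k hk hk1'
    obtain ⟨r, hr, Y, hYK, hY, hkY⟩ := exists_prime_zpowers hk hk1'
    haveI := Fact.mk hr
    exact le_antisymm ((inf_le_inf_left _ hkY).trans ((hprime r Y hY hYK).trans hkstar.symm).le)
      (inf_le_inf_left _ (centralizer_le (Set.singleton_subset_iff.2 hk)))
  · intro Y hYK hYp
    haveI := Fact.mk hYp
    set y := Nat.card Y with hy
    have hyk : y ∈ kappa M := hall y hYp (dvd_card_of_le_prime rfl hYK)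
    rcases tau13_iff.1 (tau13_of_kappa hU hG hM hyk) with h1 | h3
    · -- a subgroup of order in `τ₁` is central
      haveI : Group.IsSolvable K := minSimple_solvable hG (ne_top_of_le_maximal hM hE.1)
      obtain ⟨W, hW, hle⟩ := (CfsgLib.Coprime.hallD_of_solvable (G := K) (tau3 M)).exists_le
        (U := ⁅K, K⁆.subgroupOf K) fun t ht hd => by
          haveI := Fact.mk ht
          rw [CfsgLib.Base.card_subgroupOf (commutator_le_self K)] at hd
          exact (tau13_iff.1 (tau13_of_kappa hU hG hM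
            (hall t ht (hd.trans (card_dvd_of_le (commutator_le_self K)))))).resolve_left
            fun h => h.2.2.2.1 (hd.trans (card_dvd_of_le (commutator_mono hE.1 hE.1)))
      obtain ⟨hWc, -, hWn⟩ := (hU.s1415 hG M hM K hE).2.2 _ (CfsgLib.Coprime.piHallOf_map_subtype hW)
      have hdW : ⁅K, K⁆ ≤ W.map K.subtype := by
        rw [← map_subgroupOf_eq_of_le (commutator_le_self K)]
        exact map_mono hle
      have hYd : Y ≤ centralizer (⁅K, K⁆ : Subgroup G) := le_centralizer_iff.1 (le_of_sylows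
        fun t ht hd => by
          haveI := Fact.mk ht
          obtain ⟨T, hT⟩ := exists_sylIn (p := t) ⁅K, K⁆
          refine ⟨T, hT, le_centralizer_iff.1 ?_⟩
          obtain ⟨t', ht', htd, Z, hZT, hZ⟩ := exists_card_prime (sylIn_ne_bot hT hd)
          obtain rfl : t' = t := eq_of_dvd_card_pGroup hT.isPGroup ht' htd
          have hTK : T ≤ K := hT.le.trans (commutator_le_self K)
          have ht3 : t' ∈ tau3 M := by
            refine (tau13_iff.1 (tau13_of_kappa hU hG hM (hall t' ht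
              (hd.trans (card_dvd_of_le (commutator_le_self K)))))).resolve_left
              fun h => h.2.2.2.1 (hd.trans (card_dvd_of_le (commutator_mono hE.1 hE.1)))
          have htk : t' ∈ kappa M := hall t' ht (hd.trans (card_dvd_of_le (commutator_le_self K)))
          obtain ⟨L, hL, hN⟩ := exists_maximal_normalizer hG (isPGroup_of_card_prime hZ)
            (ne_bot_of_card_prime hZ)
          obtain ⟨D, hZH⟩ := exists_pair hU hG hM htk hZ ((hZT.trans hTK).trans hE.1) hL hN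
          have hYZ := prime_le_centralizer hU hG hM D ht3 hE
            ((compl_le_normalizer_of_tau3 hU hG hM ht3 hE (hZT.trans hTK) hZ).trans hN) hZ
            (hZT.trans hTK) hZH (R := Y) rfl hYK
          refine le_centralizer_of_cyclic_pGroup hT.isPGroup
            (isCyclic_of_pGroup_le hG (tau13_of_tau3 ht3).2.2.2 (hTK.trans hE.1) hT.isPGroup)
            ((le_normalizer_of_isCyclic hWc (hT.le.trans hdW) hWn).trans' hYK) ?_
            fun h => ne_bot_of_card_prime hZ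
              (le_bot_iff.1 (h ▸ le_inf hZT (le_centralizer_iff.1 hYZ)))
          exact coprime_of_pGroups (p := y) (q := t') (isPGroup_of_card_prime rfl) hT.isPGroup
            fun e => h1.2.2.2.1 (e ▸ ht3.2.2.1))
      intro e he
      refine mem_normalizer_iff_cj.2 (Subgroup.eq_of_le_of_card_ge (cj_le_iff.2 fun x hx => ?_)
        (card_cj e Y).ge)
      set c := e * x * e⁻¹ * x⁻¹ with hc
      have hcK : c ∈ ⁅K, K⁆ := commutator_mem_commutator he (hYK hx)
      have hcx : x * c = c * x := (mem_centralizer_iff.1 (hYd hx) c hcK).symm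
      have hxy : x ^ y = 1 := by
        have := pow_card_eq_one' (x := (⟨x, hx⟩ : Y))
        exact congrArg Subtype.val this
      have h2 : c ^ y = 1 := by
        have h3 : (c * x) ^ y = 1 := by
          rw [hc, show e * x * e⁻¹ * x⁻¹ * x = e * x * e⁻¹ by group, conj_pow, hxy]
          group
        rwa [(Commute.symm hcx : Commute c x).mul_pow, hxy, mul_one] at h3
      have hc1 : c = 1 := by
        have hd1 : orderOf c ∣ Nat.card ↥⁅K, K⁆ := orderOf_dvd_natCard _ hcK |>.trans dvd_rfl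
        have hd2 : orderOf c ∣ y := orderOf_dvd_of_pow_eq_one h2
        rcases hYp.eq_one_or_self_of_dvd _ hd2 with h | h
        · exact orderOf_eq_one_iff.1 h
        · exact absurd ((h ▸ hd1).trans (card_dvd_of_le (commutator_mono hE.1 hE.1))) h1.2.2.2.1
      rw [hc, mul_inv_eq_one] at hc1
      rwa [hc1]
    · exact compl_le_normalizer_of_tau3 hU hG hM h3 hE hYK rfl
  · intro q hq X hX hXW
    refine Or.inr ((le_inf (hXW.trans inf_le_left) (hXW.trans inf_le_right)).trans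
      (hU.s1426 hG M hM K hE).1)

include hU hG hM in
/-- BG 14.2. -/
theorem exists_kuData (hK : IsPiHallOf (kappa M) K M) (hK1 : K ≠ ⊥)
    (hE : IsComplIn E (sigmaCore M) M) (hKE : K ≤ E) : ∃ U : Subgroup G, KUData M E K U := by
  by_cases h : ∃ p ∈ kappa M, p ∈ tau3 M
  · obtain ⟨p, hpk, hp3⟩ := h
    exact ⟨⊥, kuData_of_tau3 hU hG hM hK hE hKE hpk hp3⟩
  · exact kuData_of_tau1 hU hG hM hK hK1 hE hKE fun p hp h3 => h ⟨p, hp, h3⟩

include hU hG hM in
theorem exists_kuData' (hK : IsPiHallOf (kappa M) K M) (hK1 : K ≠ ⊥) :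
    ∃ E U : Subgroup G, KUData M E K U := by
  obtain ⟨E, hE, hKE⟩ := exists_compl_ge hU hG hM hK.1 fun q hq hd => (hK.2.1 q hq hd).2.2.1
  obtain ⟨U, h⟩ := exists_kuData hU hG hM hK hK1 hE hKE
  exact ⟨E, U, h⟩

end CfsgLib.FT.BG13
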