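import Cfsg.Agent.Lib.FT.BG13.TypeP
import Cfsg.Agent.Lib.OddOrder.CyclicSubgroups
import Cfsg.Agent.Lib.FT.BG12.Sigma

/-!
BG 14.1 and 14.2 as stated, and the intersection of a maximal subgroup with its partners.
-/

set_option autoImplicit false
set_option linter.style.haveILetI false
set_option linter.unusedSectionVars false

universe u

namespace CfsgLib.FT.BG13

open Cfsg CfsgLib.OddOrder CfsgLib.Techniques _root_.Subgroup
open scoped commutatorElement

variable {G : Type u} [Group G] [Finite G]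
variable (hU : Upstream.{u}) (hG : IsMinSimpleOddOrder G) {M : Subgroup G} (hM : IsCoatom M)
variable {E K U X : Subgroup G}

theorem kstar_le (M K : Subgroup G) : kstar M K ≤ sigmaCore M := inf_le_left

theorem commute_kstar {M K : Subgroup G} {k z : G} (hk : k ∈ K) (hz : z ∈ kstar M K) :
    k * z = z * k :=
  mem_centralizer_iff.1 (mem_inf.1 hz).2 k hk

theorem kstar_le_normalizer (M K : Subgroup G) : kstar M K ≤ normalizer (K : Set G) :=
  inf_le_right.trans (centralizer_le_normalizer _)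

theorem le_normalizer_kstar (M K : Subgroup G) : K ≤ normalizer (kstar M K : Set G) :=
  (le_centralizer_iff.1 (inf_le_right : kstar M K ≤ _)).trans (centralizer_le_normalizer _)

include hU hG hM in
theorem inf_kstar_eq_bot (hK : IsPiHallOf (kappa M) K M) : K ⊓ kstar M K = ⊥ :=
  inf_eq_bot_of_primes hK.2.1 fun q hq hd h =>
    h.2.2.1 (sigmaCore_primes hU hG hM hq (hd.trans (card_dvd_of_le inf_le_left)))

include hU hG hM in
theorem card_sup_kstar (hK : IsPiHallOf (kappa M) K M) :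
    Nat.card ↥(K ⊔ kstar M K) = Nat.card K * Nat.card (kstar M K) :=
  CfsgLib.Coprime.card_sup_of_inf_eq_bot (le_normalizer_kstar M K) (inf_kstar_eq_bot hU hG hM hK)

theorem KUData.hallK {M E K U : Subgroup G} (D : KUData M E K U) : K ≤ M := D.K_le.trans D.compl.1

theorem KUData.mem_sup {M E K U : Subgroup G} (D : KUData M E K U) {e : G} (he : e ∈ E) :
    ∃ k ∈ K, ∃ u ∈ U, k * u = e :=
  (CfsgLib.Coprime.mem_sup_iff_of_le_normalizer (D.K_le.trans D.normalU)).1 (D.sup.symm ▸ he)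

/-- The normaliser in `M` of a non-trivial subgroup of `K` lies in `K ⊔ K*`. -/
theorem KUData.inf_normalizer_le {M E K U : Subgroup G} (D : KUData M E K U) (hX : X ≤ K)
    (hX1 : X ≠ ⊥) : M ⊓ normalizer (X : Set G) ≤ K ⊔ kstar M K := by
  intro m hm
  obtain ⟨hmM, hmX⟩ := mem_inf.1 hm
  obtain ⟨e, he, s, hs, rfl⟩ := D.compl.2.2.2 m hmM
  have hconj : ∀ x ∈ X, s * x * s⁻¹ = x := by
    intro x hx
    have hxE : x ∈ E := D.K_le (hX hx)
    have h1 : e * s * x * (e * s)⁻¹ ∈ E := D.K_le (hX ((mem_normalizer_iff.1 hmX x).1 hx))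
    have h2 : s * x * s⁻¹ ∈ E := by
      have := mul_mem (mul_mem (inv_mem he) h1) he
      simpa [mul_assoc] using this
    have h3 : s * x * s⁻¹ * x⁻¹ ∈ E ⊓ sigmaCore M := by
      refine mem_inf.2 ⟨mul_mem h2 (inv_mem hxE), ?_⟩
      have h4 := (mem_normalizer_iff.1 ((D.compl.1.trans (le_normalizer_sigmaCore M)) hxE) s⁻¹).1
        (inv_mem hs)
      have : s * x * s⁻¹ * x⁻¹ = s * (x * s⁻¹ * x⁻¹) := by group
      rw [this]
      exact mul_mem hs h4
    rw [D.compl.2.2.1, mem_bot, mul_inv_eq_one] at h3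
    exact h3
  obtain ⟨⟨x, hx⟩, hx1⟩ := (ne_bot_iff_exists_ne_one).1 hX1
  have hx1' : x ≠ 1 := fun h => hx1 (Subtype.ext h)
  have hs' : s ∈ kstar M K := by
    rw [← D.prime x (hX hx) hx1']
    exact mem_inf.2 ⟨hs, mem_centralizer_singleton'.2 (mul_inv_eq_iff_eq_mul.1 (hconj x hx))⟩
  have heX : ∀ y ∈ X, e * y * e⁻¹ ∈ X := by
    intro y hy
    have h5 := (mem_normalizer_iff.1 hmX y).1 hy
    have h6 : e * s * y * (e * s)⁻¹ = e * (s * y * s⁻¹) * e⁻¹ := by group
    rwa [h6, hconj y hy] at h5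
  obtain ⟨k, hk, u, hu, rfl⟩ := D.mem_sup he
  have hux : u * x * u⁻¹ * x⁻¹ ∈ U ⊓ K := by
    have h7 : u * x * u⁻¹ ∈ K := by
      have := mul_mem (mul_mem (inv_mem hk) (hX (heX x hx))) hk
      simpa [mul_assoc] using this
    refine mem_inf.2 ⟨?_, mul_mem h7 (inv_mem (hX hx))⟩
    have h8 := (mem_normalizer_iff.1 ((D.K_le.trans D.normalU) (hX hx)) u⁻¹).1 (inv_mem hu)
    have : u * x * u⁻¹ * x⁻¹ = u * (x * u⁻¹ * x⁻¹) := by group
    rw [this]
    exact mul_mem hu h8
  rw [D.inf, mem_bot, mul_inv_eq_one, mul_inv_eq_iff_eq_mul] at hux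
  have hu1 : u = 1 := by
    have : u ∈ U ⊓ centralizer ({x} : Set G) :=
      mem_inf.2 ⟨hu, mem_centralizer_singleton'.2 hux⟩
    rwa [D.free x (hX hx) hx1', mem_bot] at this
  rw [hu1, mul_one]
  exact mul_mem ((le_sup_left : K ≤ _) hk) ((le_sup_right : kstar M K ≤ _) hs')

include hM in
theorem KUData.inf_normalizer_eq (D : KUData M E K U) (hX : X ≤ K) (hX1 : X ≠ ⊥)
    (hKX : K ≤ normalizer (X : Set G)) : M ⊓ normalizer (X : Set G) = K ⊔ kstar M K :=
  le_antisymm (D.inf_normalizer_le hX hX1) (sup_le (le_inf D.hallK hKX)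
    (le_inf (inf_le_left.trans (sigmaCore_le M))
      ((inf_le_right.trans (centralizer_le hX)).trans (centralizer_le_normalizer _))))

/-- The fixed points of a subgroup of prime order of `K`. -/
theorem KUData.prime_subgroup {M E K U : Subgroup G} (D : KUData M E K U) (hX : X ≤ K)
    (hX1 : X ≠ ⊥) : sigmaCore M ⊓ centralizer (X : Set G) = kstar M K := by
  obtain ⟨⟨x, hx⟩, hx1⟩ := (ne_bot_iff_exists_ne_one).1 hX1
  refine le_antisymm ?_ (inf_le_inf_left _ (centralizer_le hX))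
  rw [← D.prime x (hX hx) fun h => hx1 (Subtype.ext h)]
  exact inf_le_inf_left _ (centralizer_le (Set.singleton_subset_iff.2 hx))

include hU hG hM in
/-- A subgroup of prime order of `K*` has its normaliser in `M` only. -/
theorem normalizer_le_of_kstar (hK : IsPiHallOf (kappa M) K M) (hK1 : K ≠ ⊥) (D : KUData M E K U) {q : ℕ}
    [Fact q.Prime] (hX : Nat.card X = q) (hXW : X ≤ kstar M K) :
    normalizer (X : Set G) ≤ M ∧
      ∀ L : Subgroup G, IsCoatom L → normalizer (X : Set G) ≤ L → L = M := by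
  obtain ⟨p, hp, hpd, Y, hYK, hY⟩ := exists_card_prime hK1
  haveI := Fact.mk hp
  obtain ⟨L, hL, hN⟩ := exists_maximal_normalizer hG (isPGroup_of_card_prime hY)
    (ne_bot_of_card_prime hY)
  obtain ⟨P, hYH⟩ := exists_pair hU hG hM (hK.2.1 p hp hpd) hY (hYK.trans hK.1) hL hN
  have hXH : X ≤ sigmaCore M ⊓ L := le_inf (hXW.trans inf_le_left)
    ((hXW.trans (inf_le_right.trans (centralizer_le hYK))).trans
      (centralizer_le_of_normalizer_le hN))
  obtain ⟨-, h1, h2, -⟩ := P.left q X hX hXH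
  exact ⟨h1, h2⟩

include hU hG hM in
/-- BG 14.2 (c): `K*` meets no other conjugate of `M`. -/
theorem kstar_inf_cj (hK : IsPiHallOf (kappa M) K M) (hK1 : K ≠ ⊥) (D : KUData M E K U) {g : G} (hg : g ∉ M) :
    kstar M K ⊓ cj g M = ⊥ := by
  by_contra hne
  obtain ⟨q, hq, -, X, hX0, hX⟩ := exists_card_prime hne
  haveI := Fact.mk hq
  have hXW : X ≤ kstar M K := hX0.trans inf_le_left
  exact hg (mem_maximal_of_cj_eq hG hM (cj_eq_of_normalizer_le hU hG hM
    (sigmaCore_primes hU hG hM hq (hX ▸ card_dvd_of_le (hXW.trans inf_le_left)))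
    (isPGroup_of_card_prime hX) (ne_bot_of_card_prime hX)
    (normalizer_le_of_kstar hU hG hM hK hK1 D hX hXW).1 (hX0.trans inf_le_right)))

include hU hG hM in
/-- BG 14.2 (c): the conjugates of `K` in `M`. -/
theorem inf_cj_hall (hK : IsPiHallOf (kappa M) K M) (D : KUData M E K U) {g : G} (hg : g ∈ M)
    (hgZ : g ∉ K ⊔ kstar M K) : K ⊓ cj g K = ⊥ := by
  by_contra hne
  obtain ⟨p, hp, -, Y, hY0, hY⟩ := exists_card_prime hne
  haveI := Fact.mk hp
  have hYK : Y ≤ K := hY0.trans inf_le_left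
  have hY'K : cj g⁻¹ Y ≤ K := (cj_mono (hY0.trans inf_le_right)).trans (cj_inv_cj g K).le
  have hY' : Nat.card ↥(cj g⁻¹ Y) = p := (card_cj g⁻¹ Y).trans hY
  have hpr := (tau13_of_kappa hU hG hM (hK.2.1 p hp (dvd_card_of_le_prime hY hYK))).2.2.2
  have hle : cj g⁻¹ Y ≤ Y := le_of_rank_one hG hpr (sup_le (hYK.trans hK.1) (hY'K.trans hK.1))
    ((isPGroup_of_card_prime hY').to_sup_of_normal_right' (isPGroup_of_card_prime hY)
      (hY'K.trans (D.normalY Y hYK (hY.symm ▸ hp))) |> fun h => by rwa [sup_comm] at h)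
    le_sup_right le_sup_left hY' (ne_bot_of_card_prime hY)
  have he : cj g⁻¹ Y = Y := Subgroup.eq_of_le_of_card_ge hle (by rw [hY', hY])
  refine hgZ (D.inf_normalizer_le hYK (ne_bot_of_card_prime hY) (mem_inf.2 ⟨hg, ?_⟩))
  have h2 : g⁻¹ ∈ normalizer (Y : Set G) := mem_normalizer_iff_cj.2 he
  simpa using inv_mem h2

include hU hG hM in
/-- BG 14.2 (e): a Sylow subgroup of `M_σ` for a prime of `K*`. -/
theorem sylow_kstar (hK : IsPiHallOf (kappa M) K M) (hK1 : K ≠ ⊥) (D : KUData M E K U) {p : ℕ} [hp : Fact p.Prime]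
    (hd : p ∣ Nat.card (kstar M K)) (S : Sylow p ↥(sigmaCore M)) :
    InUniqueMaximal ((S : Subgroup ↥(sigmaCore M)).map (sigmaCore M).subtype) ∧
      (S : Subgroup ↥(sigmaCore M)).map (sigmaCore M).subtype ≤ M ∧
      ¬ (S : Subgroup ↥(sigmaCore M)).map (sigmaCore M).subtype ≤ kstar M K := by
  obtain ⟨x, hx⟩ := exists_prime_orderOf_dvd_card' p hd
  set X := zpowers (x : G) with hXdef
  have hX : Nat.card X = p := by rw [Nat.card_zpowers, orderOf_coe, hx]
  have hXW : X ≤ kstar M K := zpowers_le.2 x.2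
  have hXσ : X ≤ sigmaCore M := hXW.trans inf_le_left
  have hb := D.unique p X hX hXW
  obtain ⟨-, h1, h2⟩ := hU.s1423 hG M hM p (sigmaCore_primes hU hG hM hp.out
    (hX ▸ card_dvd_of_le hXσ)) X (hXσ.trans (sigmaCore_le M)) hX S hb
  refine ⟨h1, h2, fun hSW => sylow_not_cyclic hU hG hM hX hXσ hb (sylIn_sylow_map S) ?_⟩
  -- the Sylow subgroups of `K*` are cyclic
  obtain ⟨q, hq, hqd, Y, hYK, hY⟩ := exists_card_prime hK1
  haveI := Fact.mk hq
  obtain ⟨L, hL, hN⟩ := exists_maximal_normalizer hG (isPGroup_of_card_prime hY)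
    (ne_bot_of_card_prime hY)
  obtain ⟨P, hYH⟩ := exists_pair hU hG hM (hK.2.1 q hq hqd) hY (hYK.trans hK.1) hL hN
  have hWL : kstar M K ≤ L :=
    (inf_le_right.trans (centralizer_le hYK)).trans (centralizer_le_of_normalizer_le hN)
  exact isCyclic_of_pGroup_le hG
    (tau13_of_kappa hU hG hL (P.left p X hX (le_inf hXσ (hXW.trans hWL))).1).2.2.2
    (hSW.trans hWL) (S.isPGroup'.map _)

include hU hG hM in
/-- `X ≤ M*_σ` for the partner of a subgroup of prime order of `K`. -/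
theorem le_sigmaCore_partner (hK : IsPiHallOf (kappa M) K M) (hX : X ≤ K)
    (hXp : (Nat.card X).Prime) {L : Subgroup G} (hL : IsCoatom L)
    (hN : normalizer (X : Set G) ≤ L) : X ≤ sigmaCore L := by
  haveI := Fact.mk hXp
  exact ((exists_pair hU hG hM (hK.2.1 _ hXp (dvd_card_of_le_prime rfl hX)) rfl (hX.trans hK.1)
    hL hN).2).trans inf_le_left

include hU hG hM in
/-- BG 14.2 (c): a `σ(M)`-subgroup meeting `K*` lies in `M_σ`. -/
theorem le_sigmaCore_of_meets (hK : IsPiHallOf (kappa M) K M) (hK1 : K ≠ ⊥) (D : KUData M E K U)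
    {Y : Subgroup G} (hY : ∀ p : ℕ, p.Prime → p ∣ Nat.card Y → p ∈ sigma M)
    (hne : Y ⊓ kstar M K ≠ ⊥) : Y ≤ sigmaCore M := by
  have hY1 : Y ≠ ⊥ := fun h => hne (le_bot_iff.1 (inf_le_left.trans h.le))
  obtain ⟨g, hg⟩ := hU.s1425 hG M hM Y hY1 hY
  change cj g Y ≤ sigmaCore M at hg
  have hg' : g⁻¹ ∈ M := by
    by_contra hgM
    refine hne (le_bot_iff.1 ((le_inf inf_le_right ?_).trans
      (kstar_inf_cj hU hG hM hK hK1 D hgM).le))
    refine inf_le_left.trans ?_
    rw [← cj_inv_cj g Y]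
    exact cj_mono (hg.trans (sigmaCore_le M))
  calc Y = cj g⁻¹ (cj g Y) := (cj_inv_cj g Y).symm
    _ ≤ cj g⁻¹ (sigmaCore M) := cj_mono hg
    _ = sigmaCore M := mem_normalizer_iff_cj.1 (le_normalizer_sigmaCore M hg')

include hU in
theorem stmtS1430_of : StmtS1430.{u} := by
  intro G _ _ hG M hM K hK hK1
  obtain ⟨E, U, D⟩ := exists_kuData' hU hG hM hK hK1
  refine ⟨D.prime, ⟨U, D.comm, D.hallU, D.K_le.trans D.normalU, D.free⟩, fun X hX hXp =>
    ⟨D.inf_normalizer_eq hM hX ?_ (D.normalY X hX hXp), D.inf_normalizer_eq hM le_rfl hK1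
      le_normalizer, fun L hL hN => le_sigmaCore_partner hU hG hM hK hX hXp hL hN⟩⟩
  intro h
  rw [h, card_bot] at hXp
  exact Nat.not_prime_one hXp

include hU in
theorem stmtS1431_of : StmtS1431.{u} := by
  intro G _ _ hG M hM K hK hK1
  obtain ⟨E, U, D⟩ := exists_kuData' hU hG hM hK hK1
  exact ⟨fun g hg => kstar_inf_cj hU hG hM hK hK1 D hg,
    fun g hg hgZ => inf_cj_hall hU hG hM hK D hg hgZ,
    fun p hp hd S => haveI := Fact.mk hp; sylow_kstar hU hG hM hK hK1 D hd S,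
    fun Y hY hne => le_sigmaCore_of_meets hU hG hM hK hK1 D hY hne⟩

include hU in
theorem stmtS1429_of : StmtS1429.{u} := by
  intro G _ _ hG M hM _ p hp hpM hpn S
  have hpσ : p ∉ sigma M := fun h => hpn (Or.inl h)
  have hpk : p ∉ kappa M := fun h => hpn (Or.inr h)
  have hp2 : p ≠ 2 := minSimple_ne_two hG (hpM.trans (card_subgroup_dvd_card M))
  set T := (S : Subgroup M).map M.subtype with hTdef
  have hT : SylIn p T M := sylIn_sylow_map S
  have hTM : T ≤ M := hT.le
  rcases tau_cases hU hG hM hpM hpσ with h13 | h2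
  · have hTc := isCyclic_of_pGroup_le hG h13.2.2.2 hTM hT.isPGroup
    obtain ⟨p', hp', hpd, Y, hYT, hY⟩ := exists_card_prime (sylIn_ne_bot hT hpM)
    obtain rfl : p' = p := eq_of_dvd_card_pGroup hT.isPGroup hp' hpd
    have hcl : closure {x : G | x ∈ T ∧ x ^ p' = 1} = Y := by
      refine le_antisymm ((closure_le _).2 fun x hx => ?_) fun x hx => subset_closure ⟨hYT hx, ?_⟩
      · by_cases hx1 : x = 1
        · exact hx1 ▸ Y.one_mem
        have ho : orderOf x = p' := orderOf_eq_prime hx.2 hx1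
        exact le_of_isCyclic (X := zpowers x) (Y := Y) hTc (zpowers_le.2 hx.1) hYT
          (by rw [Nat.card_zpowers, ho]) (hY.symm.dvd) (mem_zpowers x)
      · have := pow_card_eq_one' (x := (⟨x, hx⟩ : Y))
        rw [hY] at this
        exact congrArg Subtype.val this
    rw [hcl]
    have hbot : sigmaCore M ⊓ centralizer (Y : Set G) = ⊥ := by_contra fun h =>
      hpk (mem_kappa_of hU hG hM h13 hY (hYT.trans hTM) h)
    refine ⟨by rw [hY]; exact Nat.le_self_pow two_ne_zero p', hbot,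
      CfsgLib.Base.IsFPF.isNilpotent (A := Y)
        ⟨(hYT.trans hTM).trans (le_normalizer_sigmaCore M), fun a ha ha1 => ?_⟩
        (ne_bot_of_card_prime hY)⟩
    refine le_bot_iff.1 (le_trans (inf_le_inf_left _ ?_) hbot.le)
    have hza : zpowers a = Y := by
      refine Subgroup.eq_of_le_of_card_ge (zpowers_le.2 ha) ?_
      rw [hY, Nat.card_zpowers]
      have hd : orderOf a ∣ p' := hY ▸ orderOf_dvd_natCard Y ha
      exact (((Fact.out : p'.Prime).eq_one_or_self_of_dvd _ hd).resolve_left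
        fun h => ha1 (orderOf_eq_one_iff.1 h)).ge
    rw [← hza, centralizer_zpowers']
  · obtain ⟨A, hAT, hA, hA2⟩ := BG12.exists_sq_of_not_isCyclic hG hT.isPGroup fun hc =>
      h2.2.2.2 ((pRankLE_iff_sylIn hT).2 (pRankLE_one_of_cyclic hc))
    obtain ⟨hn, hsyl, -, hC, -⟩ := hU.s1417 hG M hM p h2 A ⟨hAT.trans hTM, hA, hA2⟩
    have hiff := ((hsyl S).2 hAT).1
    have hcl : closure {x : G | x ∈ T ∧ x ^ p = 1} = A := by
      refine le_antisymm ((closure_le _).2 fun x hx => (hiff x hx.1).1 hx.2) fun x hx =>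
        subset_closure ⟨hAT hx, (hiff x (hAT hx)).2 hx⟩
    rw [hcl]
    exact ⟨hA2.le, hC, hn⟩

end CfsgLib.FT.BG13

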