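import Cfsg.Agent.Lib.FT.BG13.TypePStmts

/-!
BG 14.7, first part: the maximal subgroups sharing `Z = K ⊔ C_{M_σ}(K)`.
-/

set_option autoImplicit false
set_option linter.style.haveILetI false
set_option linter.unusedSectionVars false

universe u

namespace CfsgLib.FT.BG13

open Cfsg CfsgLib.OddOrder CfsgLib.Techniques _root_.Subgroup
open scoped commutatorElement

variable {G : Type u} [Group G] [Finite G]

/-- `N` is a maximal subgroup with `Z` as its `K ⊔ C_{N_σ}(K)`. -/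
def IsVertex (Z N : Subgroup G) : Prop :=
  IsCoatom N ∧ ∃ K : Subgroup G, IsPiHallOf (kappa N) K N ∧ K ≠ ⊥ ∧ K ⊔ kstar N K = Z

theorem IsVertex.maximal {Z N : Subgroup G} (h : IsVertex Z N) : IsCoatom N := h.1

theorem IsVertex.le {Z N : Subgroup G} (h : IsVertex Z N) : Z ≤ N := by
  obtain ⟨-, K, hK, -, rfl⟩ := h
  exact sup_le hK.1 (inf_le_left.trans (sigmaCore_le N))

variable (hU : Upstream.{u}) (hG : IsMinSimpleOddOrder G)
variable {M N N' L X Z K : Subgroup G}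

include hU hG in
theorem inter_sigmaCore (hM : IsCoatom M) (hK : IsPiHallOf (kappa M) K M) :
    (K ⊔ kstar M K) ⊓ sigmaCore M = kstar M K := by
  refine le_antisymm ?_ (le_inf le_sup_right inf_le_left)
  intro z hz
  obtain ⟨hzZ, hzσ⟩ := mem_inf.1 hz
  obtain ⟨k, hk, s, hs, rfl⟩ :=
    (CfsgLib.Coprime.mem_sup_iff_of_le_normalizer (le_normalizer_kstar M K)).1 hzZ
  have h1 : k ∈ sigmaCore M ⊓ K :=
    mem_inf.2 ⟨by simpa using mul_mem hzσ (inv_mem (mem_inf.1 hs).1), hk⟩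
  rw [inf_sigmaCore_eq_bot hU hG hM fun q hq hd => (hK.2.1 q hq hd).2.2.1, mem_bot] at h1
  rw [h1, one_mul]
  exact hs

include hU hG in
theorem hallOf_sup_kstar (hM : IsCoatom M) (hK : IsPiHallOf (kappa M) K M) :
    IsPiHallOf (kappa M) K (K ⊔ kstar M K) :=
  ⟨le_sup_left, hK.2.1, fun q hq h1 hd => hK.2.2 q hq h1
    (hd.trans (Dvd.intro _ (relIndex_mul_relIndex K (K ⊔ kstar M K) M le_sup_left
      (sup_le hK.1 (inf_le_left.trans (sigmaCore_le M))))))⟩

include hU hG in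
theorem kappa_subgroup_le (hM : IsCoatom M) (hK : IsPiHallOf (kappa M) K M) {Y : Subgroup G}
    (hY : Y ≤ K ⊔ kstar M K) (hYk : ∀ q : ℕ, q.Prime → q ∣ Nat.card Y → q ∈ kappa M) : Y ≤ K :=
  le_of_normal_hall (sup_le le_normalizer (kstar_le_normalizer M K)) (hallOf_sup_kstar hU hG hM hK)
    hY hYk

include hU hG in
/-- BG 14.2, 14.7: the intersection of `M` with the partner of a subgroup of prime order of `K`. -/
theorem partner_inter (hM : IsCoatom M) (hK : IsPiHallOf (kappa M) K M) (hK1 : K ≠ ⊥) (hX : X ≤ K)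
    (hXp : (Nat.card X).Prime) (hL : IsCoatom L) (hN : normalizer (X : Set G) ≤ L) :
    KPair M L ∧ M ⊓ L = K ⊔ kstar M K ∧ sigmaCore M ⊓ L = kstar M K ∧
      sigmaCore L ⊓ M ≤ K ∧ X ≤ sigmaCore L ⊓ M := by
  obtain ⟨E, U, D⟩ := exists_kuData' hU hG hM hK hK1
  haveI := Fact.mk hXp
  have hXM : X ≤ M := hX.trans hK.1
  have hX1 : X ≠ ⊥ := ne_bot_of_card_prime (p := Nat.card X) rfl
  obtain ⟨P, hXH⟩ := exists_pair hU hG hM (hK.2.1 _ hXp (dvd_card_of_le_prime rfl hX)) rfl hXM hL hN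
  have hKL : K ≤ L := (D.normalY X hX hXp).trans hN
  have hH : sigmaCore M ⊓ L = kstar M K := by
    rw [← D.prime_subgroup hX hX1]
    exact (P.right _ X rfl hXH).2.2.2.symm
  set Hs := sigmaCore L ⊓ M with hHs
  have hKn : K ≤ normalizer (Hs : Set G) := CfsgLib.Coprime.le_normalizer_inf_inf
    (hKL.trans (le_normalizer_sigmaCore L)) (hK.1.trans le_normalizer)
  have hHκ : ∀ q : ℕ, q.Prime → q ∣ Nat.card ↥(K ⊔ Hs) → q ∈ kappa M := by
    intro q hq hd
    rcases hq.dvd_mul.1 (hd.trans (CfsgLib.Coprime.card_sup_dvd hKn)) with h | h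
    · exact hK.2.1 q hq h
    · haveI := Fact.mk hq
      obtain ⟨y, hy⟩ := exists_prime_orderOf_dvd_card' q h
      exact (P.right q (zpowers (y : G)) (by rw [Nat.card_zpowers, orderOf_coe, hy])
        (zpowers_le.2 y.2)).1
  have hHK : Hs ≤ K := by
    have he : (K ⊔ Hs) ≤ K := relIndex_eq_one.1 (by_contra fun hne => by
      obtain ⟨q, hq, hd⟩ := Nat.exists_prime_and_dvd hne
      refine hK.2.2 q hq (hHκ q hq (hd.trans ?_)) (hd.trans ?_)
      · rw [← relIndex_bot_left]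
        exact relIndex_dvd_of_le_left _ bot_le
      · exact Dvd.intro _ (relIndex_mul_relIndex K (K ⊔ Hs) M le_sup_left
          (sup_le hK.1 inf_le_right)))
    exact le_sup_right.trans he
  refine ⟨P, le_antisymm ?_ (le_inf (sup_le hK.1 (inf_le_left.trans (sigmaCore_le M)))
    (sup_le hKL (hH ▸ inf_le_right))), hH, hHK, hXH⟩
  have hn : M ⊓ L ≤ normalizer (X : Set G) := by
    intro m hm
    have hmH : m ∈ normalizer (Hs : Set G) := CfsgLib.Coprime.le_normalizer_inf_inf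
      (A := M ⊓ L) (inf_le_right.trans (le_normalizer_sigmaCore L))
      (inf_le_left.trans le_normalizer) hm
    have hmX : cj m X ≤ K :=
      ((cj_mono hXH).trans (mem_normalizer_iff_cj.1 hmH).le).trans hHK
    have hpr := (tau13_of_kappa hU hG hM (hK.2.1 _ hXp (dvd_card_of_le_prime rfl hX))).2.2.2
    have hle : cj m X ≤ X := le_of_rank_one hG hpr (sup_le (hmX.trans hK.1) hXM)
      ((isPGroup_of_card_prime (card_cj m X)).to_sup_of_normal_right'
        (isPGroup_of_card_prime rfl) (hmX.trans (D.normalY X hX hXp)))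
      le_sup_left le_sup_right (card_cj m X) hX1
    exact mem_normalizer_iff_cj.2 (Subgroup.eq_of_le_of_card_ge hle (card_cj m X).ge)
  exact (le_inf inf_le_left hn).trans (D.inf_normalizer_le hX hX1)

include hU hG in
/-- A partner is a vertex of the same `Z`. -/
theorem partner_isVertex (hM : IsCoatom M) (hK : IsPiHallOf (kappa M) K M) (hK1 : K ≠ ⊥)
    (hX : X ≤ K) (hXp : (Nat.card X).Prime) (hL : IsCoatom L) (hN : normalizer (X : Set G) ≤ L) :
    IsVertex (K ⊔ kstar M K) L := by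
  obtain ⟨P, hZ, hH, -, -⟩ := partner_inter hU hG hM hK hK1 hX hXp hL hN
  obtain ⟨E, U, D⟩ := exists_kuData' hU hG hM hK hK1
  obtain ⟨q, hq, -, Y, hY0, hY⟩ := exists_card_prime P.left_ne
  haveI := Fact.mk hq
  obtain ⟨hqk, hYM, -, -⟩ := P.left q Y hY hY0
  have hYL : Y ≤ L := hY0.trans inf_le_right
  haveI : Group.IsSolvable L := minSimple_solvable hG (ne_top_of_le_maximal hL le_rfl)
  obtain ⟨H, hHall, hYH⟩ := (CfsgLib.Coprime.hallD_of_solvable (G := L) (kappa L)).exists_le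
    (U := Y.subgroupOf L) fun t ht hd => eq_of_dvd_card_pGroup (isPGroup_of_card_prime hY) ht
      (by rwa [CfsgLib.Base.card_subgroupOf hYL] at hd) ▸ hqk
  set K' := H.map L.subtype with hK'def
  have hK' := CfsgLib.Coprime.piHallOf_map_subtype hHall
  have hYK' : Y ≤ K' := by
    rw [← map_subgroupOf_eq_of_le hYL]
    exact map_mono hYH
  have hK'1 : K' ≠ ⊥ := fun h => ne_bot_of_card_prime hY (le_bot_iff.1 (h ▸ hYK'))
  obtain ⟨-, hZ', -, -, -⟩ := partner_inter hU hG hL hK' hK'1 hYK' (hY.symm ▸ hq) hM hYM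
  exact ⟨hL, K', hK', hK'1, by rw [← hZ', inf_comm, hZ]⟩

include hU hG in
theorem IsVertex.inter_sigmaCore_ne_bot (h : IsVertex Z N) : Z ⊓ sigmaCore N ≠ ⊥ := by
  obtain ⟨hN, K, hK, hK1, rfl⟩ := h
  obtain ⟨E, U, D⟩ := exists_kuData' hU hG hN hK hK1
  rw [inter_sigmaCore hU hG hN hK]
  exact D.fixed

include hU hG in
/-- A subgroup of order `p ∈ σ(N)` of `Z` has its normaliser in the vertex `N` only. -/
theorem IsVertex.normalizer_le (h : IsVertex Z N) {p : ℕ} [Fact p.Prime] (hp : p ∈ sigma N)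
    (hX : Nat.card X = p) (hXZ : X ≤ Z) :
    normalizer (X : Set G) ≤ N ∧
      ∀ L : Subgroup G, IsCoatom L → normalizer (X : Set G) ≤ L → L = N := by
  have hZN := h.le
  obtain ⟨hN, K, hK, hK1, rfl⟩ := h
  obtain ⟨E, U, D⟩ := exists_kuData' hU hG hN hK hK1
  refine normalizer_le_of_kstar hU hG hN hK hK1 D hX ?_
  rw [← inter_sigmaCore hU hG hN hK]
  exact le_inf hXZ (pGroup_le_sigmaCore hU hG hN hp (isPGroup_of_card_prime hX) (hXZ.trans hZN))

include hU hG in
theorem IsVertex.eq_of_sigma (h : IsVertex Z N) (h' : IsVertex Z N') {p : ℕ}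
    (hp : p ∈ sigma N) (hp' : p ∈ sigma N') (hd : p ∣ Nat.card Z) : N' = N := by
  haveI := Fact.mk (prime_of_mem_sigma hp)
  obtain ⟨x, hx⟩ := exists_prime_orderOf_dvd_card' p hd
  have hX : Nat.card (zpowers (x : G)) = p := by rw [Nat.card_zpowers, orderOf_coe, hx]
  exact (h.normalizer_le hU hG hp hX (zpowers_le.2 x.2)).2 N' h'.1
    (h'.normalizer_le hU hG hp' hX (zpowers_le.2 x.2)).1

include hU hG in
/-- Two vertices of `Z` form a pair and meet in `Z`. -/
theorem IsVertex.pair (h : IsVertex Z N) (h' : IsVertex Z N') (hne : N' ≠ N) :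
    KPair N N' ∧ N ⊓ N' = Z := by
  have hh := h
  obtain ⟨hN, K, hK, hK1, hKZ⟩ := h
  obtain ⟨p, hp, hpd, X, hXW, hX⟩ := exists_card_prime (h'.inter_sigmaCore_ne_bot hU hG)
  haveI := Fact.mk hp
  have hXZ : X ≤ Z := hXW.trans inf_le_left
  have hpZ : p ∣ Nat.card Z := hX ▸ card_dvd_of_le hXZ
  have hpN' : p ∈ sigma N' :=
    sigmaCore_primes hU hG h'.1 hp (hX ▸ card_dvd_of_le (hXW.trans inf_le_right))
  have hpN : p ∉ sigma N := fun hs => hne (hh.eq_of_sigma hU hG h' hs hpN' hpZ)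
  have hpk : p ∈ kappa N := by
    have h1 := hpZ
    rw [← hKZ, card_sup_kstar hU hG hN hK] at h1
    exact hK.2.1 p hp ((hp.dvd_mul.1 h1).resolve_right fun h2 => hpN (sigmaCore_primes hU hG hN hp
      (h2.trans (card_dvd_of_le inf_le_left))))
  have hXK : X ≤ K := kappa_subgroup_le hU hG hN hK (hKZ.symm ▸ hXZ) fun q hq hd =>
    eq_of_dvd_card_pGroup (isPGroup_of_card_prime hX) hq hd ▸ hpk
  obtain ⟨P, hI, -⟩ := partner_inter hU hG hN hK hK1 hXK (hX.symm ▸ hp) h'.1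
    (h'.normalizer_le hU hG hpN' hX hXZ).1
  exact ⟨P, hI.trans hKZ⟩

include hU hG in
/-- Every prime of `Z` is in `σ(N)` for a vertex `N`. -/
theorem exists_vertex_sigma (hM : IsCoatom M) (hK : IsPiHallOf (kappa M) K M) (hK1 : K ≠ ⊥)
    {p : ℕ} (hp : p.Prime) (hd : p ∣ Nat.card ↥(K ⊔ kstar M K)) :
    ∃ N, IsVertex (K ⊔ kstar M K) N ∧ p ∈ sigma N := by
  haveI := Fact.mk hp
  rw [card_sup_kstar hU hG hM hK] at hd
  rcases hp.dvd_mul.1 hd with h | h
  · obtain ⟨x, hx⟩ := exists_prime_orderOf_dvd_card' p h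
    have hX : Nat.card (zpowers (x : G)) = p := by rw [Nat.card_zpowers, orderOf_coe, hx]
    obtain ⟨L, hL, hN⟩ := exists_maximal_normalizer hG (isPGroup_of_card_prime hX)
      (ne_bot_of_card_prime hX)
    refine ⟨L, partner_isVertex hU hG hM hK hK1 (zpowers_le.2 x.2) (hX.symm ▸ hp) hL hN, ?_⟩
    exact sigmaCore_primes hU hG hL hp (hX ▸ card_dvd_of_le
      (le_sigmaCore_partner hU hG hM hK (zpowers_le.2 x.2) (hX.symm ▸ hp) hL hN))
  · exact ⟨M, ⟨hM, K, hK, hK1, rfl⟩,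
      sigmaCore_primes hU hG hM hp (h.trans (card_dvd_of_le inf_le_left))⟩

end CfsgLib.FT.BG13
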