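import Cfsg.Agent.Lib.FT.BG13.Vertex
import Cfsg.Agent.Lib.FT.BG13.Tilde

/-!
BG 14.7, second part: the elements of `Z` outside the `σ`-parts of the vertices, the disjointness
of their conjugates from the sets `Ã`, and the counting argument.
-/

set_option autoImplicit false
set_option linter.style.haveILetI false
set_option linter.unusedSectionVars false

universe u

namespace CfsgLib.FT.BG13

open Cfsg CfsgLib.OddOrder CfsgLib.Techniques _root_.Subgroup
open scoped commutatorElement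

variable {G : Type u} [Group G] [Finite G]

/-- `Ẑ`: the elements of `Z` in no `σ`-core of a vertex. -/
def zHat (Z : Subgroup G) : Set G := {z | z ∈ Z ∧ ∀ N, IsVertex Z N → z ∉ sigmaCore N}

/-- The conjugates of the elements of a set. -/
def conjSet (S : Set G) : Set G := {a | ∃ g : G, ∃ z ∈ S, a = g * z * g⁻¹}

theorem conj_mem_zHat {Z : Subgroup G} {g z : G} (hg : g ∈ Z) (hz : z ∈ zHat Z) :
    g * z * g⁻¹ ∈ zHat Z :=
  ⟨mul_mem (mul_mem hg hz.1) (inv_mem hg), fun N hN h => hz.2 N hN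
    ((mem_normalizer_iff.1 (le_normalizer_sigmaCore N (hN.le hg)) z).2 h)⟩

variable (hU : Upstream.{u}) (hG : IsMinSimpleOddOrder G)
variable {M N K : Subgroup G}

include hU hG in
/-- Two vertices each owning a part of an element of `Ẑ`. -/
theorem exists_two_parts (hM : IsCoatom M) (hK : IsPiHallOf (kappa M) K M) (hK1 : K ≠ ⊥)
    {z : G} (hz : z ∈ zHat (K ⊔ kstar M K)) :
    ∃ N N' : Subgroup G, IsVertex (K ⊔ kstar M K) N ∧ IsVertex (K ⊔ kstar M K) N' ∧ N' ≠ N ∧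
      ∃ p q : ℕ, p.Prime ∧ q.Prime ∧ p ∣ orderOf z ∧ q ∣ orderOf z ∧ p ∈ sigma N ∧ q ∈ sigma N' := by
  have hzd : ∀ p : ℕ, p ∣ orderOf z → p ∣ Nat.card ↥(K ⊔ kstar M K) := fun p hd =>
    hd.trans (orderOf_dvd_natCard _ hz.1)
  have hM' : IsVertex (K ⊔ kstar M K) M := ⟨hM, K, hK, hK1, rfl⟩
  have hz1 : z ≠ 1 := fun h => hz.2 M hM' (h ▸ one_mem _)
  obtain ⟨p, hp, hpd, -⟩ := exists_prime_le_zpowers hz1
  obtain ⟨N, hN, hpN⟩ := exists_vertex_sigma hU hG hM hK hK1 hp (hzd p hpd)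
  obtain ⟨q, hq, hqd, hqN⟩ : ∃ q : ℕ, q.Prime ∧ q ∣ orderOf z ∧ q ∉ sigma N := by
    by_contra h
    push Not at h
    exact hz.2 N hN (mem_sigmaCore_of_orderOf hU hG hN.1 (hN.le hz.1) h)
  obtain ⟨N', hN', hqN'⟩ := exists_vertex_sigma hU hG hM hK hK1 hq (hzd q hqd)
  exact ⟨N, N', hN, hN', fun h => hqN (h ▸ hqN'), p, q, hp, hq, hpd, hqd, hpN, hqN'⟩

include hU hG in
/-- `Ẑ` is a TI-set with normaliser `Z`. -/
theorem mem_of_conj_mem (hM : IsCoatom M) (hK : IsPiHallOf (kappa M) K M) (hK1 : K ≠ ⊥) {g z : G}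
    (hz : z ∈ zHat (K ⊔ kstar M K)) (hgz : g * z * g⁻¹ ∈ K ⊔ kstar M K) :
    g ∈ K ⊔ kstar M K := by
  obtain ⟨N, N', hN, hN', hne, p, q, hp, hq, hpd, hqd, hpN, hqN'⟩ :=
    exists_two_parts hU hG hM hK hK1 hz
  have key : ∀ (L : Subgroup G), IsVertex (K ⊔ kstar M K) L → ∀ r : ℕ, r.Prime → r ∣ orderOf z →
      r ∈ sigma L → g ∈ L := by
    intro L hL r hr hrd hrL
    haveI := Fact.mk hr
    obtain ⟨Y, hY, hYc⟩ := exists_le_zpowers_of_dvd hrd
    have hYg : Y ≤ cj g⁻¹ L := by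
      refine hY.trans (zpowers_le.2 (mem_cj.2 ?_))
      rw [inv_inv]
      exact hL.le hgz
    have he := cj_eq_of_normalizer_le hU hG hL.1 hrL (isPGroup_of_card_prime hYc)
      (ne_bot_of_card_prime hYc)
      (hL.normalizer_le hU hG hrL hYc (hY.trans (zpowers_le.2 hz.1))).1 hYg
    simpa using inv_mem (mem_maximal_of_cj_eq hG hL.1 he)
  rw [← (hN.pair hU hG hN' hne).2]
  exact mem_inf.2 ⟨key N hN p hp hpd hpN, key N' hN' q hq hqd hqN'⟩

include hU hG in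
/-- The number of conjugates of the elements of `Ẑ`. -/
theorem ncard_conjSet (hM : IsCoatom M) (hK : IsPiHallOf (kappa M) K M) (hK1 : K ≠ ⊥) :
    Set.ncard (conjSet (zHat (K ⊔ kstar M K))) =
      (K ⊔ kstar M K).index * Set.ncard (zHat (K ⊔ kstar M K)) := by
  set Z := K ⊔ kstar M K with hZ
  rw [← Nat.card_coe_set_eq, ← Nat.card_coe_set_eq, index, ← Nat.card_prod]
  symm
  refine Nat.card_eq_of_bijective (fun c : (G ⧸ Z) × zHat Z =>
    (⟨c.1.out * c.2.1 * c.1.out⁻¹, c.1.out, c.2.1, c.2.2, rfl⟩ : conjSet (zHat Z))) ⟨?_, ?_⟩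
  · rintro ⟨a, z, hz⟩ ⟨b, w, hw⟩ he
    have he' : a.out * z * a.out⁻¹ = b.out * w * b.out⁻¹ := congrArg Subtype.val he
    have hab : b.out⁻¹ * a.out ∈ Z := by
      refine mem_of_conj_mem hU hG hM hK hK1 hz ?_
      have : b.out⁻¹ * a.out * z * (b.out⁻¹ * a.out)⁻¹ = w := by
        calc b.out⁻¹ * a.out * z * (b.out⁻¹ * a.out)⁻¹
            = b.out⁻¹ * (a.out * z * a.out⁻¹) * b.out := by group
          _ = w := by rw [he']; group
      rw [this]
      exact hw.1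
    have : a = b := by
      rw [← QuotientGroup.out_eq' a, ← QuotientGroup.out_eq' b]
      exact (QuotientGroup.eq.2 hab).symm
    subst this
    have hzw : z = w := by simpa using he'
    subst hzw
    rfl
  · rintro ⟨a, g, z, hz, rfl⟩
    obtain ⟨m, hm⟩ := QuotientGroup.mk_out_eq_mul Z g
    refine ⟨⟨(g : G ⧸ Z), (m : G)⁻¹ * z * m, ?_⟩, Subtype.ext ?_⟩
    · simpa using conj_mem_zHat (inv_mem m.2) hz
    · change (g : G ⧸ Z).out * ((m : G)⁻¹ * z * m) * (g : G ⧸ Z).out⁻¹ = g * z * g⁻¹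
      rw [hm]
      group

include hU hG in
/-- `Ã` for non-conjugate maximal subgroups are disjoint. -/
theorem tilde_disjoint (hM : IsCoatom M) (hN : IsCoatom N) (hnc : ∀ g : G, N ≠ cj g M) :
    Disjoint (tildeOf M ((sigmaCore M : Set G) \ {1}))
      (tildeOf N ((sigmaCore N : Set G) \ {1})) := by
  rw [Set.disjoint_left]
  rintro g ⟨a, ha, r, hr, y, rfl⟩ ⟨b, hb, s, hs, w, he⟩
  set h := w⁻¹ * y with hh
  have hM' := isCoatom_cj hM h
  have ha' : h * a * h⁻¹ ∈ sigmaCore (cj h M) := by rw [sigmaCore_cj]; exact conj_mem_cj.2 ha.1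
  have hr' : h * r * h⁻¹ ∈ supportR (cj h M) (h * a * h⁻¹) := by
    rw [supportR_cj]; exact conj_mem_cj.2 hr
  have ha1 : h * a * h⁻¹ ≠ 1 := fun e => ha.2 (Set.mem_singleton_iff.2 (conj_eq_one_iff.1 e))
  have hb1 : b ≠ 1 := fun e => hb.2 (Set.mem_singleton_iff.2 e)
  have heq : h * a * h⁻¹ * (h * r * h⁻¹) = b * s := by
    calc h * a * h⁻¹ * (h * r * h⁻¹) = w⁻¹ * (y * (a * r) * y⁻¹) * w := by rw [hh]; group
      _ = b * s := by rw [he]; group
  by_cases hab : h * a * h⁻¹ = b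
  · obtain ⟨p, hp, hd, -⟩ := exists_prime_le_zpowers hb1
    obtain ⟨c, hc⟩ := sigma_disjoint hU hG hM hN
      (sigma_cj h M ▸ orderOf_sigmaCore hU hG hM' ha' hp (hab ▸ hd))
      (orderOf_sigmaCore hU hG hN hb.1 hp hd)
    exact hnc c hc
  · exact stmtS1433_of hU hG (cj h M) N hM' hN _ b ha' hb.1 ha1 hb1 hab _ hr' s hs heq

include hU hG in
/-- No conjugate of an element of `Ẑ` lies in a set `Ã`. -/
theorem zHat_not_tilde (hM : IsCoatom M) (hK : IsPiHallOf (kappa M) K M) (hK1 : K ≠ ⊥)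
    (hN : IsCoatom N) {y z : G} (hz : z ∈ zHat (K ⊔ kstar M K)) :
    y * z * y⁻¹ ∉ tildeOf N ((sigmaCore N : Set G) \ {1}) := by
  rintro ⟨a₀, ha₀, r₀, hr₀, w, he⟩
  -- move `N`
  set g := y⁻¹ * w with hg
  set L := cj g N with hL
  set a := g * a₀ * g⁻¹ with hadef
  set r := g * r₀ * g⁻¹ with hrdef
  have hLm : IsCoatom L := isCoatom_cj hN g
  have ha : a ∈ sigmaCore L := by rw [hL, sigmaCore_cj]; exact conj_mem_cj.2 ha₀.1
  have hr : r ∈ supportR L a := by rw [hL, hadef, supportR_cj]; exact conj_mem_cj.2 hr₀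
  have ha1 : a ≠ 1 := fun e => ha₀.2 (Set.mem_singleton_iff.2 (conj_eq_one_iff.1 e))
  have hzar : z = a * r := by
    calc z = y⁻¹ * (y * z * y⁻¹) * y := by group
      _ = a * r := by rw [he, hadef, hrdef, hg]; group
  have hcomm := commute_supportR hU hG hLm ha ha1 hr
  -- `a` is a power of `z`
  have hcop : (orderOf r).Coprime (orderOf a) := Nat.coprime_of_dvd fun p hp h1 h2 =>
    supportR_prime_not_sigma hU hG hLm ha ha1 hr hp h1 (orderOf_sigmaCore hU hG hLm ha hp h2)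
  have hpow : a ^ orderOf r = z ^ orderOf r := by
    rw [hzar, hcomm.mul_pow, pow_orderOf_eq_one, mul_one]
  obtain ⟨m, hm⟩ := exists_pow_eq_self_of_coprime hcop
  rw [hpow] at hm
  have haz : zpowers a ≤ zpowers z :=
    zpowers_le.2 (hm ▸ pow_mem (pow_mem (mem_zpowers z) _) _)
  obtain ⟨p, hp, hpd, Y, hY, hYc⟩ := exists_prime_le_zpowers ha1
  haveI := Fact.mk hp
  have hpL : p ∈ sigma L := orderOf_sigmaCore hU hG hLm ha hp hpd
  have hYZ : Y ≤ K ⊔ kstar M K := (hY.trans haz).trans (zpowers_le.2 hz.1)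
  obtain ⟨N₁, hN₁, hpN₁⟩ := exists_vertex_sigma hU hG hM hK hK1 hp (hYc ▸ card_dvd_of_le hYZ)
  obtain ⟨c, hc⟩ := sigma_disjoint hU hG hN₁.1 hLm hpN₁ hpL
  have hNY := (hN₁.normalizer_le hU hG hpN₁ hYc hYZ).1
  have hLN : L = N₁ := by
    rw [hc]
    refine cj_eq_of_normalizer_le hU hG hN₁.1 hpN₁ (isPGroup_of_card_prime hYc)
      (ne_bot_of_card_prime hYc) hNY ?_
    change Y ≤ cj c N₁
    rw [← hc]
    exact hY.trans (zpowers_le.2 (sigmaCore_le L ha))
  have hCa : centralizer ({a} : Set G) ≤ L :=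
    hLN ▸ (centralizer_le_of_le_zpowers hY).trans (centralizer_le_of_normalizer_le hNY)
  rw [supportR_eq_bot hCa, mem_bot] at hr
  rw [hr, mul_one] at hzar
  exact hz.2 N₁ hN₁ (hLN ▸ hzar ▸ ha)

end CfsgLib.FT.BG13
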